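import Cfsg.Agent.Lib.Lie.Suz.Sub.Subfield

/-!
# Normal form of a subgroup without normal abelian subgroups
-/

set_option autoImplicit false
set_option maxHeartbeats 800000

namespace CfsgLib.Lie.Suz

open Cfsg
open scoped MatrixGroups Pointwise

variable {F : Type*} [Field F] [Fintype F] {m : ℕ}

/-- no non-trivial normal abelian subgroup -/
def NoAb (M : Subgroup (Cfsg.Sz F m)) : Prop :=
  ∀ A : Subgroup (Cfsg.Sz F m), A ≤ M → (∀ g ∈ M, ∀ x ∈ A, g * x * g⁻¹ ∈ A) →
    (∀ x ∈ A, ∀ y ∈ A, x * y = y * x) → A = ⊥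

theorem mem_conjMap {M : Subgroup (Cfsg.Sz F m)} {c g : Cfsg.Sz F m} :
    g ∈ M.map (MulAut.conj c).toMonoidHom ↔ c⁻¹ * g * c ∈ M := by
  rw [Subgroup.mem_map_equiv, MulAut.conj_symm_apply]

theorem conjMap_conjMap (M : Subgroup (Cfsg.Sz F m)) (c d : Cfsg.Sz F m) :
    (M.map (MulAut.conj c).toMonoidHom).map (MulAut.conj d).toMonoidHom =
      M.map (MulAut.conj (d * c)).toMonoidHom := by
  ext g
  rw [mem_conjMap, mem_conjMap, mem_conjMap]
  simp [mul_assoc]

theorem NoAb.conjMap {M : Subgroup (Cfsg.Sz F m)} (h : NoAb M) (c : Cfsg.Sz F m) :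
    NoAb (M.map (MulAut.conj c).toMonoidHom) := by
  intro A hA hn hc
  have h1 := h (A.map (MulAut.conj c⁻¹).toMonoidHom) ?_ ?_ ?_
  · rwa [Subgroup.map_eq_bot_iff_of_injective _ (MulAut.conj c⁻¹).injective] at h1
  · intro g hg
    rw [mem_conjMap, inv_inv] at hg
    have := mem_conjMap.1 (hA hg)
    simpa [mul_assoc] using this
  · intro g hg x hx
    rw [mem_conjMap, inv_inv] at hx ⊢
    have := hn (c * g * c⁻¹) (mem_conjMap.2 (by simpa [mul_assoc] using hg)) _ hx
    simpa [mul_assoc] using this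
  · intro x hx y hy
    rw [mem_conjMap, inv_inv] at hx hy
    have := congrArg (fun z => c⁻¹ * z * c) (hc _ hx _ hy)
    simpa [mul_assoc] using this

variable (hm : 1 ≤ m) (hF : Fintype.card F = 2 ^ (2 * m + 1))
include hm hF

omit hm in
theorem TS_mul' (a b a' b' : F) : (TS hF a b : Cfsg.Sz F m) * TS hF a' b' =
    TS hF (a + a') (b + b' + th m a * a') := by
  have hS := isSuzField hF
  apply Subtype.ext
  show T m a b * T m a' b' = T m _ _
  rw [T_mul hS]

omit hm in
theorem TS_sq' (a b : F) : (TS hF a b : Cfsg.Sz F m) * TS hF a b = TS hF 0 (th m a * a) :=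
  Subtype.ext (T_sq (isSuzField hF) a b)

omit hm in
theorem TS_zero' : (TS hF 0 0 : Cfsg.Sz F m) = 1 := Subtype.ext T_zero

omit hm in
theorem TS_inj {a b a' b' : F} (h : (TS hF a b : Cfsg.Sz F m) = TS hF a' b') : a = a' ∧ b = b' := by
  have := TS_injective hF (a₁ := (a, b)) (a₂ := (a', b')) h
  exact Prod.mk.injEq .. |>.mp this

omit hm in
/-- equality of the torus parameter -/
theorem TH_inj' {a b a' b' : F} {k k' : Fˣ}
    (h : (TS hF a b : Cfsg.Sz F m) * HS hF k = TS hF a' b' * HS hF k') : a = a' ∧ b = b' ∧ k = k' :=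
  TH_inj hF (congrArg Subtype.val h :)

/-- the data of the normal form -/
structure NForm (M : Subgroup (Cfsg.Sz F m)) (n : ℕ) : Prop where
  three_le : 3 ≤ n
  dvd : n ∣ 2 * m + 1
  noab : NoAb M
  torus : ∀ k : Fˣ, HS hF k ∈ M ↔ InF n (k : F)
  centre : ∀ b : F, TS hF 0 b ∈ M ↔ InF n b
  first : ∀ a b : F, TS hF a b ∈ M → InF n a
  cases : (∀ a b : F, TS hF a b ∈ M → a = 0) ∨ ∀ a b : F, TS hF a b ∈ M ↔ InF n a ∧ InF n b
  split : ∀ (a b : F) (k : Fˣ), TS hF a b * HS hF k ∈ M → TS hF a b ∈ M ∧ HS hF k ∈ M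

/-- all involutions of such a subgroup are conjugate -/
theorem invol_conj {M : Subgroup (Cfsg.Sz F m)} (hnofix : ¬ ∃ a : suzukiOvoid F m, ∀ g ∈ M, g • a = a)
    {z z' : Cfsg.Sz F m} (hz : z ∈ M) (hz' : z' ∈ M) (hzo : orderOf z = 2) (hzo' : orderOf z' = 2) :
    ∃ g ∈ M, g * z * g⁻¹ = z' := by
  by_contra hnc
  push Not at hnc
  have hne : ∀ w : Cfsg.Sz F m, orderOf w = 2 → w ≠ 1 ∧ IsTwo w := fun w hw =>
    ⟨fun e => by rw [e, orderOf_one] at hw; exact absurd hw (by norm_num),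
      ⟨1, by rw [pow_one, ← hw, pow_orderOf_eq_one]⟩⟩
  obtain ⟨a', ha', hu'⟩ := two_fix hm hF (hne z' hzo').1 (hne z' hzo').2
  have key : ∀ w ∈ M, orderOf w = 2 → (¬ ∃ g ∈ M, g * w * g⁻¹ = z') → w • a' = a' := by
    intro w hw hwo hwc
    obtain ⟨a, ha, hu⟩ := two_fix hm hF (hne w hwo).1 (hne w hwo).2
    suffices a = a' by rw [← this, ha]
    set x := w * z' with hx
    have hw2 : w * w = 1 := by rw [← sq, ← hwo, pow_orderOf_eq_one]
    have hz2 : z' * z' = 1 := by rw [← sq, ← hzo', pow_orderOf_eq_one]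
    have hinvw : w * x * w = x⁻¹ := by
      rw [hx, _root_.mul_inv_rev, inv_eq_of_mul_eq_one_right hw2, inv_eq_of_mul_eq_one_right hz2,
        ← mul_assoc, hw2, one_mul]
    have hinvz : z' * x * z' = x⁻¹ := by
      rw [hx, _root_.mul_inv_rev, inv_eq_of_mul_eq_one_right hw2, inv_eq_of_mul_eq_one_right hz2]
      calc z' * (w * z') * z' = z' * w * (z' * z') := by group
        _ = z' * w := by rw [hz2, mul_one]
    rcases Nat.even_or_odd (orderOf x) with ⟨i, hi⟩ | ⟨i, hi⟩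
    · have hi0 : 0 < i := by
        have := orderOf_pos x
        omega
      have ht1 : x ^ i ≠ 1 := fun e => by
        have := Nat.le_of_dvd hi0 (orderOf_dvd_of_pow_eq_one e)
        omega
      have ht2 : x ^ i * x ^ i = 1 := by rw [← pow_add, ← hi, pow_orderOf_eq_one]
      have hti : (x ^ i)⁻¹ = x ^ i := inv_eq_of_mul_eq_one_right ht2
      have hcw : ∀ v : Cfsg.Sz F m, v * v = 1 → v * x * v = x⁻¹ → v * x ^ i = x ^ i * v := by
        intro v hv hvx
        have hv' : v⁻¹ = v := inv_eq_of_mul_eq_one_right hv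
        have : v * x ^ i * v⁻¹ = x ^ i := by rw [← conj_pow, hv', hvx, inv_pow, hti]
        exact (mul_inv_eq_iff_eq_mul.1 this)
      obtain ⟨p, hp, hpu⟩ := two_fix hm hF ht1 ⟨1, by rw [pow_one, sq, ht2]⟩
      have h1 : p = a := hu p (hpu _ (centralizer_maps_fixed hF (hcw w hw2 hinvw) hp))
      have h2 : p = a' := hu' p (hpu _ (centralizer_maps_fixed hF (hcw z' hz2 hinvz) hp))
      exact h1 ▸ h2
    · exfalso
      refine hwc ⟨x ^ i, Subgroup.pow_mem _ (Subgroup.mul_mem _ hw hz') i, ?_⟩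
      have hv' : w⁻¹ = w := inv_eq_of_mul_eq_one_right hw2
      have h1 : w * x ^ i * w⁻¹ = (x ^ i)⁻¹ := by rw [← conj_pow, hv', hinvw, inv_pow]
      have h2 : x ^ i * x ^ i = x⁻¹ := by
        rw [eq_inv_iff_mul_eq_one, ← pow_add, ← pow_succ, ← two_mul, ← hi, pow_orderOf_eq_one]
      calc x ^ i * w * (x ^ i)⁻¹ = x ^ i * w * (w * x ^ i * w⁻¹) := by rw [h1]
        _ = x ^ i * (w * w) * x ^ i * w⁻¹ := by group
        _ = x ^ i * x ^ i * w := by rw [hw2, mul_one, hv']
        _ = z' := by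
          rw [h2, hx, _root_.mul_inv_rev, inv_eq_of_mul_eq_one_right hw2,
            inv_eq_of_mul_eq_one_right hz2, mul_assoc, hw2, mul_one]
  obtain ⟨a, ha, hu⟩ := two_fix hm hF (hne z hzo).1 (hne z hzo).2
  refine hnofix ⟨a, fun g hg => ?_⟩
  have hconj : g * z * g⁻¹ ∈ M := Subgroup.mul_mem _ (Subgroup.mul_mem _ hg hz) (Subgroup.inv_mem _ hg)
  have ho : orderOf (g * z * g⁻¹) = 2 := by
    rw [← hzo]
    exact orderOf_injective (MulAut.conj g).toMonoidHom (MulAut.conj g).injective z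
  have h0 : z • a' = a' := key z hz hzo (fun ⟨d, hd, e⟩ => hnc d hd e)
  have h1 : (g * z * g⁻¹) • a' = a' := key _ hconj ho (fun ⟨d, hd, e⟩ =>
    hnc (d * g) (Subgroup.mul_mem _ hd hg) (by rw [← e]; group))
  have h2 : (g * z * g⁻¹) • (g • a) = g • a := by rw [mul_smul, mul_smul, inv_smul_smul, ha]
  obtain ⟨b, -, hb⟩ := two_fix hm hF (hne _ ho).1 (hne _ ho).2
  have e := (hb _ h2).trans (hb _ h1).symm
  exact e.trans (hu a' h0)

omit hm in
theorem H_conj_T' (k : Fˣ) (a b : F) :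
    (HS hF k : Cfsg.Sz F m) * TS hF a b = TS hF ((k : F) * a) (th m (k : F) * k * b) * HS hF k := by
  rw [← H_conj_T hF k a b, inv_mul_cancel_right]

omit hm in
/-- the inverse of a translation -/
theorem TS_inv' (a b : F) : (TS hF a b : Cfsg.Sz F m)⁻¹ = TS hF a (b + th m a * a) :=
  Subtype.ext (T_inv (isSuzField hF) a b)

/-- the normal form -/
theorem exists_nform {M : Subgroup (Cfsg.Sz F m)} (hM : M ≠ ⊥) (hab : NoAb M)
    (hnofix : ¬ ∃ a : suzukiOvoid F m, ∀ g ∈ M, g • a = a) :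
    ∃ c : Cfsg.Sz F m, ∃ n, NForm hF (M.map (MulAut.conj c).toMonoidHom) n := by
  classical
  have hS := isSuzField hF
  -- a Sylow subgroup and its point
  set Sy : Sylow 2 M := default
  have hncyc := two_dvd_of_no_abelian_normal hm hF hM hab Sy
  have hSy : IsPGroup 2 ((Sy : Subgroup M).map M.subtype) := Sy.2.map _
  obtain ⟨p, hp⟩ := exists_fix_of_two hm hF hSy
  haveI : MulAction.IsPretransitive (Cfsg.Sz F m) (suzukiOvoid F m) := by
    haveI := two_trans hF (m := m)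
    exact MulAction.isPretransitive_of_is_two_pretransitive
  obtain ⟨c, hc⟩ := MulAction.exists_smul_eq (Cfsg.Sz F m) p (oInf F m)
  set M1 := M.map (MulAut.conj c).toMonoidHom with hM1
  -- the translations of `M1` contain the Sylow subgroup
  have hemb : ∀ g ∈ (Sy : Subgroup M), c * (g : Cfsg.Sz F m) * c⁻¹ ∈ M1 ⊓ U hF := by
    intro g hg
    refine Subgroup.mem_inf.2 ⟨⟨_, g.2, rfl⟩, mem_U_of_two hm hF ?_ ?_⟩
    · obtain ⟨i, hi⟩ := Sy.2 ⟨g, hg⟩
      refine IsTwo.conj ⟨i, ?_⟩ c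
      exact (congrArg (fun z : (Sy : Subgroup M) => ((z : M) : Cfsg.Sz F m)) hi :)
    · rw [mul_smul, mul_smul, ← hc, inv_smul_smul, hp (g : Cfsg.Sz F m) ⟨g, hg, rfl⟩]
  have hU1 : ¬ IsCyclic ↥(M1 ⊓ U hF) := by
    intro h
    refine hncyc (isCyclic_of_injective
      ({ toFun := fun g => ⟨_, hemb g.1 g.2⟩
         map_one' := Subtype.ext (by simp)
         map_mul' := fun g g' => Subtype.ext (by simp [mul_assoc]) } :
        ↥(Sy : Subgroup M) →* ↥(M1 ⊓ U hF)) ?_)
    intro g g' e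
    have := congrArg Subtype.val e
    exact Subtype.ext (Subtype.ext (mul_left_cancel (mul_right_cancel this)))
  -- torus parameters
  let A0 : Subgroup Fˣ :=
    { carrier := {k | ∃ a b, TS hF a b * HS hF k ∈ M1}
      one_mem' := ⟨0, 0, by rw [TS_zero' hF, HS_one hF, one_mul]; exact one_mem _⟩
      mul_mem' := fun {k l} ⟨a, b, h⟩ ⟨a', b', h'⟩ =>
        ⟨a + (k : F) * a', b + th m (k : F) * k * b' + th m a * ((k : F) * a'), by
        rw [← TS_mul' hF, HS_mul hF, mul_assoc, ← mul_assoc (TS hF _ _) (HS hF k),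
          ← H_conj_T' hF, mul_assoc, ← mul_assoc]
        exact mul_mem h h'⟩
      inv_mem' := fun {k} ⟨a, b, h⟩ =>
        ⟨((k⁻¹ : Fˣ) : F) * a, th m ((k⁻¹ : Fˣ) : F) * (k⁻¹ : Fˣ) * (b + th m a * a), by
        rw [← H_conj_T' hF, ← TS_inv' hF, HS_inv hF, ← _root_.mul_inv_rev]
        exact inv_mem h⟩ }
  obtain ⟨k0, hk0⟩ := IsCyclic.exists_generator (α := A0)
  obtain ⟨a0, b0, hg0⟩ := k0.2
  obtain ⟨d, hdU, hd⟩ : ∃ d ∈ U hF,
      d * (TS hF a0 b0 * HS hF (k0 : Fˣ)) * d⁻¹ = HS hF (k0 : Fˣ) ∨ (k0 : Fˣ) = 1 := by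
    by_cases h1 : (k0 : Fˣ) = 1
    · exact ⟨1, one_mem _, Or.inr h1⟩
    obtain ⟨x, y, hxy⟩ := exists_second_fix hm hF (a := a0) (b := b0) h1
    refine ⟨(TS hF x y)⁻¹, Subgroup.inv_mem _ (TS_mem_U hF x y), Or.inl ?_⟩
    have hfix : ((TS hF x y)⁻¹ * (TS hF a0 b0 * HS hF (k0 : Fˣ)) * TS hF x y) • oZero F m = oZero F m := by
      rw [mul_smul, mul_smul, show (TS hF x y : Cfsg.Sz F m) • oZero F m =
        (⟨pt m x y, (ovoid_iff _).2 (Or.inr ⟨x, y, rfl⟩)⟩ : suzukiOvoid F m) from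
          Subtype.ext (T_zero_pt hS x y), hxy, inv_smul_eq_iff]
      exact Subtype.ext (T_zero_pt hS x y).symm
    obtain ⟨u, v, e⟩ : ∃ u v, (TS hF x y)⁻¹ * (TS hF a0 b0 * HS hF (k0 : Fˣ)) * TS hF x y =
        TS hF u v * HS hF (k0 : Fˣ) := by
      rw [TS_inv' hF, ← mul_assoc, TS_mul' hF, mul_assoc, H_conj_T' hF, ← mul_assoc, TS_mul' hF]
      exact ⟨_, _, rfl⟩
    rw [inv_inv, e]
    rw [e, mul_smul, HS_smul_zero hF] at hfix
    have h3 : ((TS hF u v • oZero F m : suzukiOvoid F m) : Projectivization F (Fin 4 → F)) = pt m u v :=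
      T_zero_pt hS u v
    rw [hfix] at h3
    obtain ⟨rfl, rfl⟩ := pt_inj ((h3.symm.trans (pt_zero_zero (m := m)).symm) :)
    rw [TS_zero' hF, one_mul]
  set M2 := M1.map (MulAut.conj d).toMonoidHom with hM2
  have hk0M : HS hF (k0 : Fˣ) ∈ M2 := by
    rcases hd with h | h
    · rw [← h]; exact ⟨_, hg0, rfl⟩
    · rw [h, HS_one hF]; exact one_mem _
  have hA2 : ∀ (a b : F) (k : Fˣ), TS hF a b * HS hF k ∈ M2 → HS hF k ∈ M2 ∧ TS hF a b ∈ M2 := by
    intro a b k hg
    have hk : k ∈ A0 := by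
      rw [hM2, mem_conjMap] at hg
      obtain ⟨x, y, hxy⟩ := hdU
      obtain rfl : d = TS hF x y := Subtype.ext hxy
      rw [TS_inv' hF, ← mul_assoc,
        TS_mul' hF, mul_assoc, H_conj_T' hF, ← mul_assoc, TS_mul' hF] at hg
      exact ⟨_, _, hg⟩
    obtain ⟨i, hi⟩ := hk0 ⟨k, hk⟩
    have hkM : HS hF k ∈ M2 := by
      let Hh : Fˣ →* Cfsg.Sz F m :=
        { toFun := HS hF, map_one' := HS_one hF, map_mul' := HS_mul hF }
      have : HS hF k = HS hF (k0 : Fˣ) ^ i := by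
        rw [show HS hF k = Hh ((k0 : Fˣ) ^ i) from congrArg (HS hF) (congrArg Subtype.val hi).symm,
          map_zpow]
        rfl
      rw [this]
      exact Subgroup.zpow_mem _ hk0M i
    refine ⟨hkM, ?_⟩
    have := Subgroup.mul_mem _ hg (Subgroup.inv_mem _ hkM)
    rwa [mul_inv_cancel_right] at this
  have hU2 : ¬ IsCyclic ↥(M2 ⊓ U hF) := by
    intro h
    refine hU1 (isCyclic_of_injective
      ({ toFun := fun g => ⟨d * g * d⁻¹, Subgroup.mem_inf.2 ⟨⟨_, g.2.1, rfl⟩,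
            Subgroup.mul_mem _ (Subgroup.mul_mem _ hdU g.2.2) (Subgroup.inv_mem _ hdU)⟩⟩
         map_one' := Subtype.ext (by simp)
         map_mul' := fun g g' => Subtype.ext (by simp [mul_assoc]) } :
        ↥(M1 ⊓ U hF) →* ↥(M2 ⊓ U hF)) ?_)
    intro g g' e
    exact Subtype.ext (mul_left_cancel (mul_right_cancel (congrArg Subtype.val e)))
  have hnofix2 : ¬ ∃ a : suzukiOvoid F m, ∀ g ∈ M2, g • a = a := by
    rintro ⟨a, ha⟩
    refine hnofix ⟨(d * c)⁻¹ • a, fun g hg => ?_⟩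
    have := ha (d * c * g * (d * c)⁻¹) (by
      rw [hM2, hM1, conjMap_conjMap]
      exact ⟨g, hg, rfl⟩)
    rw [mul_smul, mul_smul] at this
    exact eq_inv_smul_iff.2 this
  -- the centre of the translations
  let E : Finset F := Finset.univ.filter fun b => TS hF 0 b ∈ M2
  have hmemE : ∀ {b}, b ∈ E ↔ TS hF 0 b ∈ M2 := fun {b} => by simp [E]
  have h0E : (0 : F) ∈ E := hmemE.2 (by rw [TS_zero' hF]; exact one_mem _)
  obtain ⟨b1, hb1, hb10⟩ : ∃ b1 ∈ E, b1 ≠ 0 := by
    by_contra hno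
    push Not at hno
    refine hU2 ?_
    have : ∀ g : ↥(M2 ⊓ U hF), g = 1 := by
      rintro ⟨g, hgM, a, b, hab'⟩
      obtain rfl : g = TS hF a b := Subtype.ext hab'
      have h1 : TS hF 0 (th m a * a) ∈ M2 := by rw [← TS_sq' hF]; exact mul_mem hgM hgM
      have h2 := hno _ (hmemE.2 h1)
      have ha : a = 0 := by
        rcases mul_eq_zero.1 h2 with h | h
        exacts [th_eq_zero hS h, h]
      subst ha
      have hb : b = 0 := hno _ (hmemE.2 hgM)
      subst hb
      exact Subtype.ext (TS_zero' hF)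
    haveI : Subsingleton ↥(M2 ⊓ U hF) := ⟨fun a b => (this a).trans (this b).symm⟩
    exact isCyclic_of_subsingleton
  have hinv : ∀ b, b ≠ 0 → orderOf (TS hF 0 b : Cfsg.Sz F m) = 2 := by
    intro b hb
    refine orderOf_eq_prime ?_ (fun e => hb (TS_inj hF (e.trans (TS_zero' hF).symm)).2)
    rw [sq, TS_sq' hF, th_zero hS, mul_zero, TS_zero' hF]
  let A : Subgroup Fˣ := M2.comap ({ toFun := HS hF, map_one' := HS_one hF, map_mul' := HS_mul hF } : Fˣ →* Cfsg.Sz F m)
  have hmemA : ∀ k, k ∈ A ↔ HS hF k ∈ M2 := fun k => Iff.rfl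
  -- conjugacy of the involutions gives `E \ 0 = kth(A) * b1`
  have hEA : E = insert 0 ((Finset.univ.filter fun k => k ∈ A).image fun k : Fˣ => th m (k : F) * k * b1) := by
    ext b
    simp only [Finset.mem_insert, Finset.mem_image, Finset.mem_filter, Finset.mem_univ, true_and]
    constructor
    · intro hb
      by_cases hb0 : b = 0
      · exact Or.inl hb0
      obtain ⟨g, hg, hge⟩ := invol_conj hm hF hnofix2 (hmemE.1 hb1) (hmemE.1 hb) (hinv b1 hb10) (hinv b hb0)
      have h1 : TS hF 0 b1 • oInf F m = oInf F m := TS_smul_inf hF 0 b1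
      have h2 : TS hF 0 b • (g • oInf F m) = g • oInf F m := by
        rw [← hge, mul_smul, mul_smul, inv_smul_smul, h1]
      obtain ⟨p', -, hp'⟩ := two_fix hm hF (g := TS hF 0 b)
        (fun e => hb0 (TS_inj hF (e.trans (TS_zero' hF).symm)).2) (isTwo_of_mem_U hF (TS_mem_U hF 0 b))
      have h3 : g • oInf F m = oInf F m := (hp' _ h2).trans (hp' _ (TS_smul_inf hF 0 b)).symm
      obtain ⟨x, y, k, rfl⟩ := (mem_stab_inf hm hF).1 (smul_inf_iff.1 h3)
      obtain ⟨hk, -⟩ := hA2 x y k hg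
      refine Or.inr ⟨k, hk, ?_⟩
      rw [mul_assoc (TS hF x y), H_conj_T' hF, mul_zero, _root_.mul_inv_rev] at hge
      have hge' : TS hF x y * TS hF 0 (th m (k : F) * k * b1) * (TS hF x y)⁻¹ = TS hF 0 b := by
        rw [← hge]; group
      rw [show TS hF x y * TS hF 0 (th m (k : F) * k * b1) = TS hF 0 (th m (k : F) * k * b1) * TS hF x y from
        Subtype.ext (T_zero_comm hS x y _).symm, mul_inv_cancel_right] at hge'
      exact (TS_inj hF hge').2
    · rintro (rfl | ⟨k, hk, rfl⟩)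
      · exact h0E
      · refine hmemE.2 ?_
        have := Subgroup.mul_mem _ (Subgroup.mul_mem _ ((hmemA k).1 hk) (hmemE.1 hb1)) (Subgroup.inv_mem _ ((hmemA k).1 hk))
        rw [H_conj_T hF, mul_zero] at this
        exact this
  have hEcard : E.card = Nat.card A + 1 := by
    rw [hEA, Finset.card_insert_of_notMem, Finset.card_image_of_injective, ← Fintype.card_subtype,
      ← Nat.card_eq_fintype_card]
    · intro k l h
      exact kth_injective hS (mul_right_cancel₀ hb10 h)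
    · simp only [Finset.mem_image, not_exists, not_and]
      intro k _ h
      exact mul_ne_zero (mul_ne_zero (fun e => k.ne_zero (th_eq_zero hS e)) k.ne_zero) hb10 h
  -- the order of `E` is a power of two
  let Eg : Subgroup ↥(U hF : Subgroup (Cfsg.Sz F m)) :=
    { carrier := {u | ∃ b, TS hF 0 b ∈ M2 ∧ (u : Cfsg.Sz F m) = TS hF 0 b}
      one_mem' := ⟨0, hmemE.1 h0E, (TS_zero' hF).symm⟩
      mul_mem' := fun {u v} ⟨b, hb, e⟩ ⟨b', hb', e'⟩ => ⟨b + b', by
        have := mul_mem hb hb'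
        rwa [TS_mul' hF, add_zero, mul_zero, add_zero] at this, by
        rw [Subgroup.coe_mul, e, e', TS_mul' hF, add_zero, mul_zero, add_zero]⟩
      inv_mem' := fun {u} ⟨b, hb, e⟩ => ⟨b, hb, by
        rw [Subgroup.coe_inv, e, TS_inv' hF, mul_zero, add_zero]⟩ }
  obtain ⟨n, hn⟩ := IsPGroup.iff_card.1 ((U_isPGroup hF (m := m)).to_subgroup Eg)
  have hEn : E.card = 2 ^ n := by
    rw [← hn, show E = Finset.univ.filter fun b => TS hF 0 b ∈ M2 from rfl, ← Fintype.card_subtype,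
      ← Nat.card_eq_fintype_card]
    refine Nat.card_eq_of_bijective
      (fun b => (⟨⟨TS hF 0 b.1, TS_mem_U hF _ _⟩, b.1, b.2, rfl⟩ : Eg)) ⟨?_, ?_⟩
    · intro b b' e
      exact Subtype.ext (TS_inj hF (congrArg (fun z : Eg => ((z : ↥(U hF : Subgroup (Cfsg.Sz F m))) : Cfsg.Sz F m)) e)).2
    · rintro ⟨u, b, hb, e⟩
      exact ⟨⟨b, hb⟩, Subtype.ext (Subtype.ext e.symm)⟩
  -- the degree
  have hcardA : Nat.card A = 2 ^ n - 1 := by omega
  have hdvd : n ∣ 2 * m + 1 := by
    have h1 : Nat.card A ∣ Fintype.card F - 1 := by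
      rw [← Fintype.card_units, ← Nat.card_eq_fintype_card]
      exact Subgroup.card_subgroup_dvd_card A
    rw [hcardA, hF] at h1
    have h2 := Nat.pow_sub_one_gcd_pow_sub_one 2 n (2 * m + 1)
    rw [Nat.gcd_eq_left h1] at h2
    have h3 : 2 ^ n = 2 ^ Nat.gcd n (2 * m + 1) := by
      have := Nat.one_le_two_pow (n := n)
      have := Nat.one_le_two_pow (n := Nat.gcd n (2 * m + 1))
      omega
    rw [Nat.pow_right_injective le_rfl h3]
    exact Nat.gcd_dvd_right _ _
  have hn3 : 3 ≤ n := by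
    obtain ⟨j, hj⟩ := hdvd
    have hn0 : n ≠ 0 := fun e => by rw [e, zero_mul] at hj; omega
    have hn2 : n ≠ 2 := fun e => by rw [e] at hj; omega
    have hn1 : n ≠ 1 := by
      rintro rfl
      refine hU2 ?_
      have hE2 : ∀ b ∈ E, b = 0 ∨ b = b1 := by
        intro b hb
        by_contra h
        push Not at h
        have : 2 < E.card := Finset.two_lt_card_iff.2 ⟨0, b1, b, h0E, hb1, hb, Ne.symm hb10, Ne.symm h.1, Ne.symm h.2⟩
        omega
      have hga : ∀ a b, TS hF a b ∈ M2 → a ≠ 0 → th m a * a = b1 := by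
        intro a b h ha
        have h1 : TS hF 0 (th m a * a) ∈ M2 := by rw [← TS_sq' hF]; exact mul_mem h h
        exact (hE2 _ (hmemE.2 h1)).resolve_left (mul_ne_zero (fun e => ha (th_eq_zero hS e)) ha)
      have hkey : ∀ u v : F, th m u * u = th m v * v → u ≠ 0 → v ≠ 0 → u = v := by
        intro u v h hu hv
        exact congrArg Units.val (kth_injective hS (a₁ := Units.mk0 u hu) (a₂ := Units.mk0 v hv) h)
      by_cases hex : ∃ a b, TS hF a b ∈ M2 ∧ a ≠ 0
      · obtain ⟨a, b, hab', ha⟩ := hex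
        let g : ↥(M2 ⊓ U hF) := ⟨TS hF a b, Subgroup.mem_inf.2 ⟨hab', TS_mem_U hF a b⟩⟩
        have hsq : ∀ z, TS hF 0 z ∈ M2 → TS hF 0 z = (1 : Cfsg.Sz F m) ∨ TS hF 0 z = TS hF a b * TS hF a b := by
          intro z hz
          rcases hE2 z (hmemE.2 hz) with rfl | rfl
          · exact Or.inl (TS_zero' hF)
          · exact Or.inr (by rw [TS_sq' hF, hga a b hab' ha])
        refine IsCyclic.mk ⟨g, fun u => ?_⟩
        obtain ⟨⟨u, huM, x, y, hxy⟩, rfl⟩ : ∃ u' : ↥(M2 ⊓ U hF), u' = u := ⟨u, rfl⟩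
        obtain rfl : u = TS hF x y := Subtype.ext hxy
        by_cases hx : x = 0
        · subst hx
          rcases hsq y huM with h | h
          · exact ⟨0, Subtype.ext (by simpa using h.symm)⟩
          · exact ⟨2, Subtype.ext (by
              show TS hF a b ^ (2 : ℤ) = TS hF 0 y
              rw [zpow_two, h])⟩
        · obtain rfl := hkey x a ((hga x y huM hx).trans (hga a b hab' ha).symm) hx ha
          have h1 : (TS hF x b)⁻¹ * TS hF x y ∈ M2 := mul_mem (inv_mem hab') huM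
          obtain ⟨z, he⟩ : ∃ z, (TS hF x b)⁻¹ * TS hF x y = TS hF 0 z := by
            rw [TS_inv' hF, TS_mul' hF, add_self hS]
            exact ⟨_, rfl⟩
          rw [he] at h1
          rcases hsq _ h1 with h | h <;> rw [← he] at h
          · refine ⟨1, Subtype.ext ?_⟩
            show TS hF x b ^ (1 : ℤ) = TS hF x y
            rw [zpow_one]
            exact inv_mul_eq_one.1 h
          · refine ⟨3, Subtype.ext ?_⟩
            show TS hF x b ^ (3 : ℤ) = TS hF x y
            rw [inv_mul_eq_iff_eq_mul.1 h, show (3 : ℤ) = 1 + 1 + 1 from rfl, zpow_add, zpow_add,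
              zpow_one, mul_assoc]
      · push Not at hex
        refine isCyclic_of_prime_card (p := 2) ?_
        rw [show (2 : ℕ) = E.card by omega, show E = Finset.univ.filter fun b => TS hF 0 b ∈ M2 from rfl,
          ← Fintype.card_subtype, ← Nat.card_eq_fintype_card]
        refine (Nat.card_eq_of_bijective (fun b => (⟨TS hF 0 b.1, Subgroup.mem_inf.2 ⟨b.2, TS_mem_U hF _ _⟩⟩ :
          ↥(M2 ⊓ U hF))) ⟨?_, ?_⟩).symm
        · intro b b' e
          exact Subtype.ext (TS_inj hF (congrArg Subtype.val e :)).2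
        · rintro ⟨u, huM, x, y, hxy⟩
          obtain rfl : u = TS hF x y := Subtype.ext hxy
          obtain rfl := hex x y huM
          exact ⟨⟨y, huM⟩, rfl⟩
    omega
  have hs2 : 2 ≤ 2 ^ n := by
    calc 2 = 2 ^ 1 := rfl
      _ ≤ _ := Nat.pow_le_pow_right (by norm_num) (by omega)
  have hpowA : ∀ k : Fˣ, k ∈ A → InF n (k : F) := by
    intro k hk
    have h1 : orderOf k ∣ 2 ^ n - 1 := by rw [← hcardA]; exact Subgroup.orderOf_dvd_natCard A hk
    have h2 : k ^ 2 ^ n = k := by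
      rw [← Nat.sub_add_cancel (show 1 ≤ 2 ^ n by omega), pow_succ, orderOf_dvd_iff_pow_eq_one.1 h1, one_mul]
    exact (Units.val_pow_eq_pow_val _ _).symm.trans (congrArg Units.val h2)
  have hAmem : ∀ k : Fˣ, HS hF k ∈ M2 ↔ InF n (k : F) := by
    intro k
    refine ⟨fun h => hpowA k h, fun h => ?_⟩
    by_contra hne
    have h1 : ∀ l : Fˣ, InF n (l : F) → l ^ (2 ^ n - 1) = 1 := by
      intro l hl
      have h2 : l ^ 2 ^ n = l := Units.ext ((Units.val_pow_eq_pow_val _ _).trans hl)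
      rw [← Nat.sub_add_cancel (show 1 ≤ 2 ^ n by omega), pow_succ] at h2
      exact (mul_eq_right.1 h2)
    have h2 : insert k (Finset.univ.filter fun l => l ∈ A) ⊆ Finset.univ.filter fun l : Fˣ => l ^ (2 ^ n - 1) = 1 := by
      intro l hl
      simp only [Finset.mem_insert, Finset.mem_filter, Finset.mem_univ, true_and] at hl ⊢
      rcases hl with rfl | hl
      exacts [h1 _ h, h1 _ (hpowA _ hl)]
    have h3 := (Finset.card_le_card h2).trans (IsCyclic.card_pow_eq_one_le (α := Fˣ) (show 0 < 2 ^ n - 1 by omega))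
    rw [Finset.card_insert_of_notMem (fun hk => hne ((hmemA k).1 (Finset.mem_filter.1 hk).2)), ← Fintype.card_subtype,
      ← Nat.card_eq_fintype_card, hcardA] at h3
    omega
  have hkth : ∀ x : F, InF n x → x ≠ 0 → ∃ k ∈ A, th m (k : F) * k = x := by
    intro x hx hx0
    let S := Finset.univ.filter fun k : Fˣ => k ∈ A
    have hSmap : ∀ k ∈ S, ∃ l ∈ S, (l : F) = th m (k : F) * k := by
      intro k hk
      have hk' : InF n (k : F) := hpowA k (Finset.mem_filter.1 hk).2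
      refine ⟨Units.mk0 (th m (k : F) * k) (mul_ne_zero (fun e => k.ne_zero (th_eq_zero hS e)) k.ne_zero),
        Finset.mem_filter.2 ⟨Finset.mem_univ _, ?_⟩, rfl⟩
      exact (hAmem _).2 (InF.mul hk'.th hk')
    choose f hf hfe using hSmap
    have hsurj := Finset.surj_on_of_inj_on_of_card_le (s := S) (t := S) (fun k hk => f k hk)
      (fun k hk => hf k hk) (fun k l hk hl e => kth_injective hS (show th m (k : F) * k = th m (l : F) * l by
        rw [← hfe k hk, ← hfe l hl, e])) le_rfl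
    obtain ⟨k, hk, e⟩ := hsurj (Units.mk0 x hx0) (Finset.mem_filter.2 ⟨Finset.mem_univ _, (hAmem _).2 hx⟩)
    exact ⟨k, (Finset.mem_filter.1 hk).2, by rw [← hfe k hk, ← e]; rfl⟩
  obtain ⟨c0, hc0⟩ := exists_kth_eq hF (inv_ne_zero hb10)
  have hEmem : ∀ b : F, TS hF 0 b ∈ M2 ↔ ∃ x, InF n x ∧ b = x * b1 := by
    intro b
    rw [← hmemE, hEA]
    simp only [Finset.mem_insert, Finset.mem_image, Finset.mem_filter, Finset.mem_univ, true_and]
    constructor
    · rintro (rfl | ⟨k, hk, rfl⟩)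
      · exact ⟨0, InF.zero, (zero_mul _).symm⟩
      · exact ⟨_, InF.mul (hpowA k hk).th (hpowA k hk), rfl⟩
    · rintro ⟨x, hx, rfl⟩
      by_cases hx0 : x = 0
      · exact Or.inl (by rw [hx0, zero_mul])
      · obtain ⟨k, hk, rfl⟩ := hkth x hx hx0
        exact Or.inr ⟨k, hk, rfl⟩
  set M3 := M2.map (MulAut.conj (HS hF c0)).toMonoidHom with hM3
  have hT3 : ∀ a b : F, TS hF a b ∈ M3 ↔
      TS hF (((c0⁻¹ : Fˣ) : F) * a) (th m ((c0⁻¹ : Fˣ) : F) * (c0⁻¹ : Fˣ) * b) ∈ M2 := by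
    intro a b
    rw [hM3, mem_conjMap, ← H_conj_T hF, HS_inv hF, inv_inv]
  have hH3 : ∀ k : Fˣ, HS hF k ∈ M3 ↔ InF n (k : F) := by
    intro k
    rw [hM3, mem_conjMap, ← hAmem, ← HS_inv hF, ← HS_mul hF, ← HS_mul hF, mul_comm c0⁻¹, inv_mul_cancel_right]
  have hkc : th m ((c0⁻¹ : Fˣ) : F) * (c0⁻¹ : Fˣ) = b1 := by
    rw [Units.val_inv_eq_inv_val, th_inv hS, ← mul_inv, hc0, inv_inv]
  have hC3 : ∀ b : F, TS hF 0 b ∈ M3 ↔ InF n b := by
    intro b
    rw [hT3, mul_zero, hEmem, hkc]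
    constructor
    · rintro ⟨x, hx, e⟩
      rw [mul_comm b1] at e
      rwa [mul_right_cancel₀ hb10 e]
    · exact fun h => ⟨b, h, mul_comm _ _⟩
  have hF3 : ∀ a b : F, TS hF a b ∈ M3 → InF n a := by
    intro a b h
    have h1 : InF n (th m a * a) := by
      rw [← hC3, ← TS_sq' hF]; exact mul_mem h h
    unfold InF at h1 ⊢
    by_cases ha : a = 0
    · rw [ha, zero_pow (pow_ne_zero _ two_ne_zero)]
    rw [mul_pow, ← th_pow hS] at h1
    exact congrArg Units.val (kth_injective hS (a₁ := Units.mk0 (a ^ 2 ^ n) (pow_ne_zero _ ha))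
      (a₂ := Units.mk0 a ha) h1)
  have hsame : ∀ a b b' : F, TS hF a b ∈ M3 → TS hF a b' ∈ M3 → InF n (b + b') := by
    intro a b b' h h'
    rw [← hC3]
    have := mul_mem (inv_mem h) h'
    rw [TS_inv' hF, TS_mul' hF, add_self hS] at this
    rwa [show b + b' = b + th m a * a + b' + th m a * a by
      linear_combination (-(th m a * a)) * two_eq_zero hS]
  refine ⟨HS hF c0 * (d * c), n, ?_⟩
  rw [← conjMap_conjMap, ← conjMap_conjMap, ← hM1, ← hM2, ← hM3]
  refine ⟨hn3, hdvd, ?_, hH3, hC3, hF3, ?_, ?_⟩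
  · rw [hM3, hM2, hM1]; exact ((hab.conjMap c).conjMap d).conjMap _
  · by_cases hex : ∃ a b, TS hF a b ∈ M3 ∧ a ≠ 0
    swap
    · push Not at hex
      exact Or.inl hex
    right
    obtain ⟨a1, b2, h12, ha1⟩ := hex
    have hact : ∀ (k : Fˣ), InF n (k : F) → ∀ a b, TS hF a b ∈ M3 →
        TS hF ((k : F) * a) (th m (k : F) * k * b) ∈ M3 := by
      intro k hk a b h
      rw [← H_conj_T hF]
      exact mul_mem (mul_mem ((hH3 k).2 hk) h) (inv_mem ((hH3 k).2 hk))
    have hlift : ∀ a, InF n a → a ≠ 0 → ∃ b, TS hF a b ∈ M3 := by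
      intro a ha ha0
      have := hact (Units.mk0 (a * a1⁻¹) (mul_ne_zero ha0 (inv_ne_zero ha1)))
        (InF.mul ha (hF3 a1 b2 h12).inv) a1 b2 h12
      rw [Units.val_mk0, inv_mul_cancel_right₀ ha1] at this
      exact ⟨_, this⟩
    obtain ⟨c1, hc1⟩ := hlift 1 InF.one one_ne_zero
    have hc1F : InF n c1 := by
      obtain ⟨k, hk, hk1⟩ : ∃ k : Fˣ, InF n (k : F) ∧ k ≠ 1 := by
        by_contra hno
        push Not at hno
        have : Nat.card A ≤ 1 := by
          rw [Finite.card_le_one_iff_subsingleton]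
          exact ⟨fun x y => Subtype.ext ((hno _ (hpowA _ x.2)).trans (hno _ (hpowA _ y.2)).symm)⟩
        have : 2 ^ 3 ≤ 2 ^ n := Nat.pow_le_pow_right (by norm_num) hn3
        omega
      have h1 := hact k hk 1 c1 hc1
      rw [mul_one] at h1
      have h2 := mul_mem hc1 h1
      rw [TS_mul' hF, th_one hS, one_mul] at h2
      have hk1' : (1 : F) + k ≠ 0 := fun e => hk1 (Units.ext (by
        rw [Units.val_one]
        linear_combination e - two_eq_zero hS))
      have h3 := hact (Units.mk0 (1 + (k : F)) hk1') (InF.add hF InF.one hk) 1 c1 hc1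
      rw [Units.val_mk0, mul_one] at h3
      have h4 := InF.add hF (hsame _ _ _ h2 h3) hk
      have hne : th m (k : F) + k ≠ 0 := by
        intro e
        have e1 : th m (k : F) = k := by linear_combination e - (k : F) * two_eq_zero hS
        have e2 : (k : F) ^ 2 = k := by rw [← th_th hS, e1, e1]
        exact hk1 (Units.ext (by
          rw [Units.val_one]
          exact mul_left_cancel₀ k.ne_zero (by rw [mul_one, ← sq, e2])))
      have h5 : InF n (c1 * (th m (k : F) + k)) := by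
        refine (congrArg (InF n) ?_).mp h4
        rw [th_add hS, th_one hS]
        linear_combination (c1 + c1 * th m (k : F) * k + (k : F)) * two_eq_zero hS
      have := InF.mul h5 (InF.add hF (InF.th (m := m) hk) hk).inv
      rwa [mul_inv_cancel_right₀ hne] at this
    have hstd : ∀ a, InF n a → ∃ b, InF n b ∧ TS hF a b ∈ M3 := by
      intro a ha
      by_cases ha0 : a = 0
      · exact ⟨0, InF.zero, by rw [ha0, hC3]; exact InF.zero⟩
      · have := hact (Units.mk0 a ha0) ha 1 c1 hc1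
        rw [Units.val_mk0, mul_one] at this
        exact ⟨_, InF.mul (InF.mul (InF.th (m := m) ha) ha) hc1F, this⟩
    intro a b
    constructor
    · intro h
      obtain ⟨b', hb', h'⟩ := hstd a (hF3 a b h)
      refine ⟨hF3 a b h, ?_⟩
      have := InF.add hF (hsame a b b' h h') hb'
      rwa [add_assoc, add_self hS, add_zero] at this
    · rintro ⟨ha, hb⟩
      obtain ⟨b', hb', h'⟩ := hstd a ha
      have := mul_mem h' ((hC3 _).2 (InF.add hF hb hb'))
      rw [TS_mul' hF, add_zero, mul_zero, add_zero] at this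
      rwa [show b' + (b + b') = b by linear_combination b' * two_eq_zero hS] at this
  · intro a b k h
    rw [hM3, mem_conjMap] at h
    have e : (HS hF c0)⁻¹ * (TS hF a b * HS hF k) * HS hF c0 =
        TS hF (((c0⁻¹ : Fˣ) : F) * a) (th m ((c0⁻¹ : Fˣ) : F) * (c0⁻¹ : Fˣ) * b) * HS hF k := by
      rw [← HS_inv hF, ← mul_assoc, H_conj_T' hF, mul_assoc, mul_assoc, ← HS_mul hF, ← HS_mul hF,
        mul_comm k c0, inv_mul_cancel_left]
    rw [e] at h
    obtain ⟨h1, h2⟩ := hA2 _ _ k h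
    exact ⟨(hT3 a b).2 h2, (hH3 k).2 ((hAmem k).1 h1)⟩

end CfsgLib.Lie.Suz
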