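import Cfsg.Agent.Lib.Lie.Suz.Sub.Max

/-!
# Soluble subgroups of the Suzuki group and the normalisers of the tori
-/

set_option autoImplicit false
set_option maxHeartbeats 800000

namespace CfsgLib.Lie.Suz

open Cfsg
open scoped MatrixGroups Pointwise

variable {F : Type*} [Field F] [Fintype F] {m : ℕ}

/-- the normaliser of the centraliser of an element -/
abbrev NC (z : Cfsg.Sz F m) : Subgroup (Cfsg.Sz F m) :=
  Subgroup.normalizer ((Subgroup.centralizer ({z} : Set (Cfsg.Sz F m)) : Subgroup (Cfsg.Sz F m)) :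
    Set (Cfsg.Sz F m))

variable (hm : 1 ≤ m) (hF : Fintype.card F = 2 ^ (2 * m + 1))
include hm hF

theorem solvable_stab_inf :
    Group.IsSolvable ↥(MulAction.stabilizer (Cfsg.Sz F m) (suzukiPointInfinity F)) := by
  classical
  set S := MulAction.stabilizer (Cfsg.Sz F m) (suzukiPointInfinity F) with hSdef
  choose a b k hk using fun g : S => (mem_stab_inf hm hF).1 g.2
  let φ : S →* Fˣ := MonoidHom.mk' k fun g g' => by
    have h1 : ((g * g' : S) : Cfsg.Sz F m) = TS hF (a (g * g')) (b (g * g')) * HS hF (k (g * g')) := hk _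
    rw [Subgroup.coe_mul, hk g, hk g', ← mul_assoc, mul_assoc (TS hF (a g) (b g)), H_conj_T' hF,
      ← mul_assoc, TS_mul' hF, mul_assoc, ← HS_mul hF] at h1
    exact (TH_inj' hF h1).2.2.symm
  haveI : Fact (Nat.Prime 2) := ⟨Nat.prime_two⟩
  haveI := (U_isPGroup hF (m := m)).isNilpotent
  let ι : ↥(U hF : Subgroup (Cfsg.Sz F m)) →* S := (U hF).subtype.codRestrict S fun u => by
    obtain ⟨x, y, hu⟩ := u.2
    exact (mem_stab_inf hm hF).2 ⟨x, y, 1, by rw [HS_one hF, mul_one]; exact Subtype.ext hu⟩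
  refine Group.isSolvable_of_ker_le_range ι φ fun g hg => ?_
  have h1 : k g = 1 := hg
  have h2 : (g : Cfsg.Sz F m) = TS hF (a g) (b g) := by rw [hk g, h1, HS_one hF, mul_one]
  exact ⟨⟨g, h2 ▸ TS_mem_U hF _ _⟩, Subtype.ext rfl⟩

theorem solvable_of_fix {M : Subgroup (Cfsg.Sz F m)} {a : suzukiOvoid F m} (ha : ∀ g ∈ M, g • a = a) :
    Group.IsSolvable ↥M := by
  haveI := trans_ovoid hF (m := m)
  obtain ⟨c, hc⟩ := MulAction.exists_smul_eq (Cfsg.Sz F m) a (oInf F m)
  haveI := solvable_stab_inf hm hF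
  let f : ↥M →* ↥(MulAction.stabilizer (Cfsg.Sz F m) (suzukiPointInfinity F)) :=
    ((MulAut.conj c).toMonoidHom.comp M.subtype).codRestrict _ fun g => by
      refine smul_inf_iff.1 ?_
      show (c * (g : Cfsg.Sz F m) * c⁻¹) • oInf F m = oInf F m
      rw [← hc, mul_smul, mul_smul, inv_smul_smul, ha g g.2]
  have hf : Function.Injective f := fun g g' e =>
    Subtype.ext ((MulAut.conj c).injective (congrArg Subtype.val e :))
  exact Group.isSolvable_of_isSolvable_injective hf

theorem solvable_NC {z : Cfsg.Sz F m} (hz : ¬ IsTwo z) : Group.IsSolvable ↥(NC z) := by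
  obtain ⟨k, hk4, hk⟩ := nontwo_normalizer_index hm hF hz
  set C := Subgroup.centralizer ({z} : Set (Cfsg.Sz F m))
  haveI : (C.subgroupOf (NC z)).Normal := Subgroup.normal_in_normalizer
  rw [Group.isSolvable_iff_subgroup_quotient (C.subgroupOf (NC z))]
  refine ⟨?_, ?_⟩
  · haveI := (nontwo_centralizer hm hF hz).1
    letI := IsCyclic.commGroup (α := ↥C)
    exact Group.isSolvable_of_isSolvable_injective
      (f := (Subgroup.subgroupOfEquivOfLe (Subgroup.le_normalizer (H := C))).toMonoidHom)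
      (Subgroup.subgroupOfEquivOfLe (Subgroup.le_normalizer (H := C))).injective
  · have hidx : Nat.card (↥(NC z) ⧸ C.subgroupOf (NC z)) = k := by
      rw [← Subgroup.index_eq_card]
      have h1 := (C.subgroupOf (NC z)).card_mul_index
      rw [Nat.card_congr (Subgroup.subgroupOfEquivOfLe (Subgroup.le_normalizer (H := C))).toEquiv, hk,
        mul_comm k] at h1
      exact Nat.eq_of_mul_eq_mul_left Nat.card_pos h1
    haveI : Fact (Nat.Prime 2) := ⟨Nat.prime_two⟩
    have hp : IsPGroup 2 (↥(NC z) ⧸ C.subgroupOf (NC z)) := by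
      obtain ⟨i, -, hi⟩ := (Nat.dvd_prime_pow Nat.prime_two).1 (show k ∣ 2 ^ 2 from hk4)
      exact IsPGroup.of_card (hidx.trans hi)
    haveI := hp.isNilpotent
    infer_instance

theorem not_solvable : ¬ Group.IsSolvable (Cfsg.Sz F m) := by
  intro h
  haveI := simple hm hF
  have := Group.IsSolvable.commutator_lt_top_of_nontrivial (Cfsg.Sz F m)
  exact this.ne (perfect hm hF)

/-- the soluble subgroups, for a prime degree -/
theorem solvable_iff (hp : (2 * m + 1).Prime) (M : Subgroup (Cfsg.Sz F m)) :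
    Group.IsSolvable ↥M ↔ (∃ a : suzukiOvoid F m, ∀ g ∈ M, g • a = a) ∨
      ∃ z : Cfsg.Sz F m, ¬ IsTwo z ∧ M ≤ NC z := by
  constructor
  · intro h
    rcases subgroup_cases hm hF M with h1 | h1 | ⟨c, n, h3, hn, hc⟩
    · exact Or.inl h1
    · exact Or.inr h1
    · exfalso
      rcases hp.eq_one_or_self_of_dvd n hn with rfl | rfl
      · omega
      · rw [SubSz_top hm hF] at hc
        haveI : Group.IsSolvable ↥(M.map (MulAut.conj c).toMonoidHom) :=
          Group.isSolvable_of_surjective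
            (f := (M.equivMapOfInjective _ (MulAut.conj c).injective).toMonoidHom)
            (M.equivMapOfInjective _ (MulAut.conj c).injective).surjective
        exact not_solvable hm hF (Group.isSolvable_of_surjective
          (f := ((MulEquiv.subgroupCongr hc).trans Subgroup.topEquiv).toMonoidHom)
          ((MulEquiv.subgroupCongr hc).trans Subgroup.topEquiv).surjective)
  · rintro (⟨a, ha⟩ | ⟨z, hz, hle⟩)
    · exact solvable_of_fix hm hF ha
    · haveI := solvable_NC hm hF hz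
      exact Group.isSolvable_of_isSolvable_injective (Subgroup.inclusion_injective hle)

/-- solubility of a subgroup generated by two elements -/
theorem solvable_pair_iff (hp : (2 * m + 1).Prime) (x y : Cfsg.Sz F m) :
    Group.IsSolvable ↥(Subgroup.closure ({x, y} : Set (Cfsg.Sz F m))) ↔
      (∃ a : suzukiOvoid F m, x • a = a ∧ y • a = a) ∨
      ∃ z : Cfsg.Sz F m, ¬ IsTwo z ∧ x ∈ NC z ∧ y ∈ NC z := by
  rw [solvable_iff hm hF hp]
  refine or_congr ⟨?_, ?_⟩ ⟨?_, ?_⟩
  · rintro ⟨a, ha⟩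
    exact ⟨a, ha x (Subgroup.subset_closure (by simp)), ha y (Subgroup.subset_closure (by simp))⟩
  · rintro ⟨a, hx, hy⟩
    refine ⟨a, fun g hg => ?_⟩
    have hle : Subgroup.closure ({x, y} : Set (Cfsg.Sz F m)) ≤ MulAction.stabilizer (Cfsg.Sz F m) a := by
      rw [Subgroup.closure_le]
      rintro g (rfl | rfl) <;> simp [hx, hy]
    exact hle hg
  · rintro ⟨z, hz, hle⟩
    exact ⟨z, hz, hle (Subgroup.subset_closure (by simp)), hle (Subgroup.subset_closure (by simp))⟩
  · rintro ⟨z, hz, hx, hy⟩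
    refine ⟨z, hz, (Subgroup.closure_le _).2 ?_⟩
    rintro g (rfl | rfl)
    exacts [hx, hy]

/-- fourth powers in the normaliser centralise -/
theorem pow_four_mem {z g : Cfsg.Sz F m} (hz : ¬ IsTwo z) (hg : g ∈ NC z) :
    g ^ 4 ∈ Subgroup.centralizer ({z} : Set (Cfsg.Sz F m)) := by
  obtain ⟨k, hk4, hk⟩ := nontwo_normalizer_index hm hF hz
  set C := Subgroup.centralizer ({z} : Set (Cfsg.Sz F m))
  haveI : (C.subgroupOf (NC z)).Normal := Subgroup.normal_in_normalizer
  have hidx : (C.subgroupOf (NC z)).index = k := by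
    have h1 := (C.subgroupOf (NC z)).card_mul_index
    rw [Nat.card_congr (Subgroup.subgroupOfEquivOfLe (Subgroup.le_normalizer (H := C))).toEquiv, hk,
      mul_comm k] at h1
    exact Nat.eq_of_mul_eq_mul_left Nat.card_pos h1
  have h1 := Subgroup.pow_index_mem (H := C.subgroupOf (NC z)) (⟨g, hg⟩ : ↥(NC z))
  rw [hidx] at h1
  obtain ⟨j, hj⟩ := hk4
  have h2 := Subgroup.pow_mem _ h1 j
  rw [← pow_mul, ← hj] at h2
  exact h2

/-- the elements of the normaliser which are not 2-elements centralise -/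
theorem mem_C_of_nontwo {z g : Cfsg.Sz F m} (hz : ¬ IsTwo z) (hg : g ∈ NC z) (hg2 : ¬ IsTwo g) :
    g ∈ Subgroup.centralizer ({z} : Set (Cfsg.Sz F m)) := by
  have h4 : g ^ 4 ≠ 1 := fun e => hg2 ⟨2, e⟩
  rw [← ((nontwo_centralizer hm hF hz).2 _ (pow_four_mem hm hF hz hg) h4).2]
  exact Subgroup.mem_centralizer_singleton_iff.2 (Commute.self_pow g 4)

theorem NC_eq_of_mem {z g : Cfsg.Sz F m} (hz : ¬ IsTwo z) (hg : g ∈ NC z) (hg2 : ¬ IsTwo g) :
    Subgroup.centralizer ({z} : Set (Cfsg.Sz F m)) = Subgroup.centralizer {g} :=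
  ((nontwo_centralizer hm hF hz).2 g (mem_C_of_nontwo hm hF hz hg hg2)
    (fun e => hg2 ⟨0, by rw [e, one_pow]⟩)).2.symm

theorem four_of_two {z g : Cfsg.Sz F m} (hz : ¬ IsTwo z) (hg : g ∈ NC z) (hg2 : IsTwo g) : g ^ 4 = 1 := by
  by_contra hne
  obtain ⟨i, hi⟩ := hg2
  exact ((nontwo_centralizer hm hF hz).2 _ (pow_four_mem hm hF hz hg) hne).1
    ⟨i, by rw [← pow_mul, mul_comm, pow_mul, hi, one_pow]⟩

/-- involutions of the normaliser invert -/
theorem invol_inverts {z g : Cfsg.Sz F m} (hz : ¬ IsTwo z) (hg : g ∈ NC z) (ho : orderOf g = 2) :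
    ∀ t ∈ Subgroup.centralizer ({z} : Set (Cfsg.Sz F m)), g * t * g⁻¹ = t⁻¹ := by
  intro t ht
  have hgg : g * g = 1 := by rw [← sq, ← ho, pow_orderOf_eq_one]
  have hgi : g⁻¹ = g := inv_eq_of_mul_eq_one_right hgg
  have ht' := (Subgroup.mem_normalizer_iff.1 hg t).1 ht
  haveI := (nontwo_centralizer hm hF hz).1
  letI := IsCyclic.commGroup (α := ↥(Subgroup.centralizer ({z} : Set (Cfsg.Sz F m))))
  have hcomm : t * (g * t * g⁻¹) = g * t * g⁻¹ * t :=
    congrArg Subtype.val (mul_comm (⟨t, ht⟩ : Subgroup.centralizer ({z} : Set (Cfsg.Sz F m))) ⟨_, ht'⟩)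
  by_contra hne
  have hw : t * (g * t * g⁻¹) ∈ Subgroup.centralizer ({z} : Set (Cfsg.Sz F m)) := mul_mem ht ht'
  have hw1 : t * (g * t * g⁻¹) ≠ 1 := fun e => hne (eq_inv_of_mul_eq_one_right e)
  have hgc : g * (t * (g * t * g⁻¹)) * g⁻¹ = t * (g * t * g⁻¹) := by
    conv_rhs => rw [hcomm]
    rw [hgi]
    calc g * (t * (g * t * g)) * g = g * t * g * t * (g * g) := by group
      _ = _ := by rw [hgg, mul_one]
  have hgC : g ∈ Subgroup.centralizer ({z} : Set (Cfsg.Sz F m)) := by
    rw [← ((nontwo_centralizer hm hF hz).2 _ hw hw1).2]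
    exact Subgroup.mem_centralizer_singleton_iff.2 (mul_inv_eq_iff_eq_mul.1 hgc)
  exact ((nontwo_centralizer hm hF hz).2 g hgC
    (fun e => by rw [e, orderOf_one] at ho; exact absurd ho (by norm_num))).1
    ⟨1, by rw [pow_one, sq, hgg]⟩

/-- the product of two involutions of the normaliser centralises -/
theorem invol_mul_mem {z g g' : Cfsg.Sz F m} (hz : ¬ IsTwo z) (hg : g ∈ NC z) (ho : orderOf g = 2)
    (hg' : g' ∈ NC z) (ho' : orderOf g' = 2) :
    g * g' ∈ Subgroup.centralizer ({z} : Set (Cfsg.Sz F m)) := by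
  have hzC : z ∈ Subgroup.centralizer ({z} : Set (Cfsg.Sz F m)) := Subgroup.mem_centralizer_singleton_iff.2 rfl
  refine Subgroup.mem_centralizer_singleton_iff.2 (mul_inv_eq_iff_eq_mul.1 ?_)
  calc g * g' * z * (g * g')⁻¹ = g * (g' * z * g'⁻¹) * g⁻¹ := by group
    _ = z := by rw [invol_inverts hm hF hz hg' ho' z hzC,
                  invol_inverts hm hF hz hg ho _ (inv_mem hzC), inv_inv]

/-- the normal form of the whole group -/
theorem nform_top : NForm hF (⊤ : Subgroup (Cfsg.Sz F m)) (2 * m + 1) := by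
  have hin : ∀ x : F, InF (2 * m + 1) x := fun x => by
    unfold InF
    rw [← hF, FiniteField.pow_card]
  refine ⟨by omega, dvd_rfl, ?_, fun k => ⟨fun _ => hin _, fun _ => Subgroup.mem_top _⟩,
    fun b => ⟨fun _ => hin _, fun _ => Subgroup.mem_top _⟩, fun a b _ => hin a,
    Or.inr fun a b => ⟨fun _ => ⟨hin a, hin b⟩, fun _ => Subgroup.mem_top _⟩,
    fun a b k _ => ⟨Subgroup.mem_top _, Subgroup.mem_top _⟩⟩
  intro A _ hn hc
  haveI := simple hm hF
  haveI : A.Normal := ⟨fun a ha g => hn g (Subgroup.mem_top _) a ha⟩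
  rcases (inferInstance : A.Normal).eq_bot_or_eq_top with h | h
  · exact h
  · exfalso
    refine not_solvable hm hF (Group.isSolvable_of_comm fun a b => hc a ?_ b ?_) <;>
      (rw [h]; exact Subgroup.mem_top _)

theorem nofix_top : ¬ ∃ a : suzukiOvoid F m, ∀ g ∈ (⊤ : Subgroup (Cfsg.Sz F m)), g • a = a := by
  rintro ⟨a, ha⟩
  haveI := trans_ovoid hF (m := m)
  obtain ⟨g, hg⟩ := MulAction.exists_smul_eq (Cfsg.Sz F m) a (oZero F m)
  obtain ⟨g', hg'⟩ := MulAction.exists_smul_eq (Cfsg.Sz F m) a (oInf F m)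
  exact inf_ne_zero' ((hg'.symm.trans (ha g' (Subgroup.mem_top _))).trans
    ((ha g (Subgroup.mem_top _)).symm.trans hg))

theorem card_OInf_top : Nat.card (OInf (⊤ : Subgroup (Cfsg.Sz F m))) = Fintype.card F ^ 2 + 1 := by
  rw [← card_omega hF (m := m)]
  haveI := trans_ovoid hF (m := m)
  refine Nat.card_congr (Equiv.subtypeUnivEquiv fun p => ?_)
  obtain ⟨g, hg⟩ := MulAction.exists_smul_eq (Cfsg.Sz F m) (oInf F m) p
  exact ⟨g, Subgroup.mem_top _, hg⟩

theorem conj_invol {x y : Cfsg.Sz F m} (hx : orderOf x = 2) (hy : orderOf y = 2) : ∃ g, g * x * g⁻¹ = y := by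
  obtain ⟨g, -, h⟩ := invol_conj hm hF (nofix_top hm hF) (Subgroup.mem_top x) (Subgroup.mem_top y) hx hy
  exact ⟨g, h⟩

/-- the number of involutions -/
theorem card_order_two : Nat.card {g : Cfsg.Sz F m // orderOf g = 2} =
    (Fintype.card F ^ 2 + 1) * (Fintype.card F - 1) := by
  have h := (nform_top hm hF).count_two hm hF (nofix_top hm hF) (fun z => z * z = 1) (fun c x hx => by
    calc c * x * c⁻¹ * (c * x * c⁻¹) = c * (x * x) * c⁻¹ := by group
      _ = 1 := by rw [hx, mul_one, mul_inv_cancel])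
  rw [(nform_top hm hF).card_invol_U hm hF, card_OInf_top hm hF, ← hF] at h
  rw [← h]
  refine Nat.card_congr (Equiv.subtypeEquivRight fun g => ?_)
  constructor
  · intro ho
    refine ⟨Subgroup.mem_top _, fun e => ?_, ⟨1, orderOf_dvd_iff_pow_eq_one.1 (dvd_of_eq (ho.trans (pow_one 2).symm))⟩,
      by rw [← sq, ← ho, pow_orderOf_eq_one]⟩
    rw [e, orderOf_one] at ho
    exact absurd ho (by norm_num)
  · rintro ⟨-, h1, -, h2⟩
    exact orderOf_eq_prime (by rw [sq, h2]) h1

/-- the number of elements of order four -/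
theorem card_order_four : Nat.card {g : Cfsg.Sz F m // orderOf g = 4} =
    (Fintype.card F ^ 2 + 1) * (Fintype.card F ^ 2 - Fintype.card F) := by
  classical
  have h4 : ∀ u : Cfsg.Sz F m, u ∈ U hF → u ^ 4 = 1 := by
    rintro u ⟨a, b, hab⟩
    obtain rfl : u = TS hF a b := Subtype.ext hab
    calc (TS hF a b : Cfsg.Sz F m) ^ 4 = (TS hF a b * TS hF a b) * (TS hF a b * TS hF a b) := by
          simp [pow_succ, mul_assoc]
      _ = 1 := by rw [TS_sq' hF, TS_sq' hF, mul_zero, TS_zero' hF]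
  have h := (nform_top hm hF).count_two hm hF (nofix_top hm hF) (fun z => z * z ≠ 1) (fun c x hx e => hx (by
    rw [show x * x = c⁻¹ * (c * x * c⁻¹ * (c * x * c⁻¹)) * c by group, e, mul_one, inv_mul_cancel]))
  rw [card_OInf_top hm hF] at h
  have hU : Nat.card {u : Cfsg.Sz F m // u ∈ (⊤ : Subgroup (Cfsg.Sz F m)) ⊓ U hF ∧ u ≠ 1 ∧ u * u ≠ 1} =
      Fintype.card F ^ 2 - Fintype.card F := by
    haveI : Fintype (Cfsg.Sz F m) := Fintype.ofFinite _
    set A := Finset.univ.filter fun u : Cfsg.Sz F m => u ∈ U hF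
    have hA : A.card = Fintype.card F ^ 2 := by
      rw [← card_U hF (m := m), Nat.card_eq_fintype_card, Fintype.card_subtype]
    have hB : (A.filter fun u => u * u = 1).card = Fintype.card F := by
      rw [← Finset.card_univ (α := F)]
      symm
      refine Finset.card_bij (fun b _ => TS hF 0 b) ?_ ?_ ?_
      · intro b _
        simp only [A, Finset.mem_filter, Finset.mem_univ, true_and]
        exact ⟨TS_mem_U hF _ _, by rw [TS_sq' hF, mul_zero, TS_zero' hF]⟩
      · intro b _ b' _ e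
        exact (TS_inj hF e).2
      · intro u hu
        simp only [A, Finset.mem_filter, Finset.mem_univ, true_and] at hu
        obtain ⟨⟨a, b, hab⟩, hu2⟩ := hu
        obtain rfl : u = TS hF a b := Subtype.ext hab
        rw [TS_sq' hF, ← TS_zero' hF] at hu2
        have ha : a = 0 := by
          rcases mul_eq_zero.1 (TS_inj hF hu2).2 with h0 | h0
          exacts [th_eq_zero (isSuzField hF) h0, h0]
        exact ⟨b, Finset.mem_univ _, by rw [ha]⟩
    rw [Nat.card_eq_fintype_card, Fintype.card_subtype]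
    have e : (Finset.univ.filter fun u : Cfsg.Sz F m =>
        u ∈ (⊤ : Subgroup (Cfsg.Sz F m)) ⊓ U hF ∧ u ≠ 1 ∧ u * u ≠ 1) = A.filter fun u => ¬ u * u = 1 := by
      ext u
      simp only [A, Finset.mem_filter, Finset.mem_univ, true_and, top_inf_eq]
      exact ⟨fun h => ⟨h.1, h.2.2⟩, fun h => ⟨h.1, fun e => h.2 (by rw [e, one_mul]), h.2⟩⟩
    have h2 := Finset.card_filter_add_card_filter_not (s := A) (fun u => u * u = 1)
    rw [e]
    omega
  rw [hU] at h
  rw [← h]
  refine Nat.card_congr (Equiv.subtypeEquivRight fun g => ?_)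
  haveI : Fact (Nat.Prime 2) := ⟨Nat.prime_two⟩
  constructor
  · intro ho
    refine ⟨Subgroup.mem_top _, fun e => ?_, ⟨2, ?_⟩, fun e => ?_⟩
    · rw [e, orderOf_one] at ho
      exact absurd ho (by norm_num)
    · exact orderOf_dvd_iff_pow_eq_one.1 (dvd_of_eq ho)
    · have := orderOf_dvd_of_pow_eq_one (show g ^ 2 = 1 by rw [sq, e])
      rw [ho] at this
      norm_num at this
  · rintro ⟨-, -, ht, h2⟩
    obtain ⟨p, hp, -⟩ := two_fix hm hF (g := g) (fun e => h2 (by rw [e, one_mul])) ht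
    haveI := trans_ovoid hF (m := m)
    obtain ⟨c, hc⟩ := MulAction.exists_smul_eq (Cfsg.Sz F m) p (oInf F m)
    have hu := h4 _ (mem_U_of_two hm hF (ht.conj c) (by rw [mul_smul, mul_smul, ← hc, inv_smul_smul, hp]))
    rw [conj_pow, conj_eq_one_iff] at hu
    exact orderOf_eq_prime_pow (p := 2) (n := 1) (by rw [pow_one, sq]; exact h2) hu

theorem two_NC_fix {z x : Cfsg.Sz F m} {a : suzukiOvoid F m} (hz : ¬ IsTwo z) (hx : x ∈ NC z) (hx1 : x ≠ 1) (ht : IsTwo x)
    (ha : x • a = a) {g : Cfsg.Sz F m} (hg : g ∈ Subgroup.centralizer ({z} : Set (Cfsg.Sz F m)))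
    (hga : g • a = a) : g = 1 := by
  -- the conjugate of `g` fixes `a` as well
  by_contra hg1
  have h1 := (Subgroup.mem_normalizer_iff.1 hx g).1 hg
  obtain ⟨hg2, hC⟩ := (nontwo_centralizer hm hF hz).2 g hg hg1
  by_cases hf : Free g
  · exact hf a hga
  obtain ⟨p, q, hpq, hp, hq⟩ := two_fixed_of_not_free hm hF hg2 hf
  -- the second fixed point of `g`
  obtain ⟨b, hb, hba⟩ : ∃ b, g • b = b ∧ b ≠ a := by
    by_cases e : p = a
    · exact ⟨q, hq, fun e' => hpq (e.trans e'.symm)⟩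
    · exact ⟨p, hp, e⟩
  have hx2 : (x * g * x⁻¹) • (x • b) = x • b := by rw [mul_smul, mul_smul, inv_smul_smul, hb]
  have hx3 : (x * g * x⁻¹) • a = a := by
    conv_lhs => rw [← ha]
    rw [mul_smul, mul_smul, inv_smul_smul, hga, ha]
  have hcomm : (x * g * x⁻¹) * g = g * (x * g * x⁻¹) := by
    have := hC.symm ▸ h1
    exact Subgroup.mem_centralizer_singleton_iff.1 this
  have hx4 : g • (x • b) = x • b := by
    have h5 : (x * g * x⁻¹) • (g • (x • b)) = g • (x • b) := centralizer_maps_fixed hF hcomm.symm hx2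
    have hne : x * g * x⁻¹ ≠ 1 := fun e => hg1 (conj_eq_one_iff.1 e)
    have hab' : a ≠ x • b := fun e => hba (MulAction.injective x (e.symm.trans ha.symm))
    rcases three_of hF hne hm hab' hx3 hx2 h5 with e | e
    · exact absurd (MulAction.injective g (e.trans hga.symm)) (Ne.symm hab')
    · exact e
  rcases three_of hF hg1 hm (Ne.symm hba) hga hb hx4 with e | e
  · exact hba (MulAction.injective x (e.trans ha.symm))
  · exact not_two_of_two_fix hm hF hx1 ht (Ne.symm hba) ha e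

end CfsgLib.Lie.Suz
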