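import Cfsg.Agent.Lib.Lie.Suz.Sub.Solubilizer

/-!
# The actions of fixity two of a Suzuki group
-/

set_option autoImplicit false
set_option maxHeartbeats 800000

namespace CfsgLib.Lie.Suz

open Cfsg
open scoped MatrixGroups Pointwise

variable {F : Type*} [Field F] [Fintype F] {m : ℕ}

/-- in an action with few fixed points a subgroup contains few conjugates -/
theorem conjugates_le {G Ω : Type*} [Group G] [Finite G] [MulAction G Ω] [Finite Ω] {h : G} {α : Ω}
    (hfix : Nat.card (MulAction.fixedBy Ω h) ≤ 2) (Y : Set G)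
    (hY : ∀ y ∈ Y, y ∈ MulAction.stabilizer G α ∧ ∃ g, g⁻¹ * h * g = y) :
    Nat.card Y * Nat.card ↥(Subgroup.centralizer ({h} : Set G)) ≤ 2 * Nat.card ↥(MulAction.stabilizer G α) := by
  classical
  haveI : Fintype G := Fintype.ofFinite _
  haveI : Fintype Ω := Fintype.ofFinite _
  choose g hg using fun y : Y => (hY y y.2).2
  set Ag := Finset.univ.filter fun x : G => x⁻¹ * h * x ∈ MulAction.stabilizer G α with hAg
  have h1 : Nat.card Y * Nat.card ↥(Subgroup.centralizer ({h} : Set G)) ≤ Ag.card := by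
    rw [← Nat.card_prod, Nat.card_eq_fintype_card, ← Finset.card_univ]
    refine Finset.card_le_card_of_injOn (fun p => (p.2 : G) * g p.1) (fun p _ => ?_) ?_
    · have hc : (p.2 : G) * h = h * p.2 := Subgroup.mem_centralizer_singleton_iff.1 p.2.2
      simp only [hAg, Finset.coe_filter, Finset.mem_univ, true_and, Set.mem_setOf_eq]
      rw [show ((p.2 : G) * g p.1)⁻¹ * h * ((p.2 : G) * g p.1) =
          (g p.1)⁻¹ * ((p.2 : G)⁻¹ * (h * p.2)) * g p.1 by group,
        ← hc, inv_mul_cancel_left, hg]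
      exact (hY _ p.1.2).1
    · rintro ⟨y, c⟩ _ ⟨y', c'⟩ _ e
      have key : ∀ (y : Y) (c : ↥(Subgroup.centralizer ({h} : Set G))),
          ((c : G) * g y)⁻¹ * h * ((c : G) * g y) = y := by
        intro y c
        have hc : (c : G) * h = h * c := Subgroup.mem_centralizer_singleton_iff.1 c.2
        rw [show ((c : G) * g y)⁻¹ * h * ((c : G) * g y) = (g y)⁻¹ * ((c : G)⁻¹ * (h * c)) * g y by group,
          ← hc, inv_mul_cancel_left, hg]
      have e' : (c : G) * g y = c' * g y' := e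
      obtain rfl : y = y' := Subtype.ext (by rw [← key y c, e', key])
      exact Prod.ext rfl (Subtype.ext (mul_right_cancel e'))
  refine h1.trans ((Finset.card_le_mul_card_image Ag (Nat.card ↥(MulAction.stabilizer G α))
    (f := fun x => x • α) fun u hu => ?_).trans ?_)
  · obtain ⟨x, -, rfl⟩ := Finset.mem_image.1 hu
    rw [Nat.card_eq_fintype_card, ← Finset.card_univ]
    refine Finset.card_le_card_of_injOn
      (fun z => if hz : z • α = x • α then
        ⟨x⁻¹ * z, by rw [MulAction.mem_stabilizer_iff, mul_smul, hz, inv_smul_smul]⟩ else 1) ?_ ?_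
    · intro z _; exact Finset.mem_univ _
    · intro z hz z' hz' e
      simp only [Finset.coe_filter, Set.mem_setOf_eq] at hz hz'
      simp only [hz.2, hz'.2, dite_true, Subtype.mk.injEq] at e
      exact mul_left_cancel e
  · rw [mul_comm]
    refine Nat.mul_le_mul_right _ ?_
    refine le_trans ?_ hfix
    rw [Nat.card_eq_fintype_card, ← Set.toFinset_card]
    refine Finset.card_le_card fun u hu => ?_
    obtain ⟨x, hx, rfl⟩ := Finset.mem_image.1 hu
    rw [Set.mem_toFinset, MulAction.mem_fixedBy]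
    have hx' : (x⁻¹ * h * x) • α = α := (Finset.mem_filter.1 hx).2
    rwa [mul_smul, mul_smul, inv_smul_eq_iff] at hx'

variable (hm : 1 ≤ m) (hF : Fintype.card F = 2 ^ (2 * m + 1))
include hm hF

theorem centralizer_invol {t : Cfsg.Sz F m} (ht : orderOf t = 2) :
    Nat.card ↥(Subgroup.centralizer ({t} : Set (Cfsg.Sz F m))) = Fintype.card F ^ 2 := by
  have hS := isSuzField hF
  have h01 : orderOf (TS hF 0 1 : Cfsg.Sz F m) = 2 := by
    refine orderOf_eq_prime ?_ (fun e => one_ne_zero (TS_inj hF (e.trans (TS_zero' hF).symm)).2)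
    rw [sq, TS_sq' hF, th_zero hS, mul_zero, TS_zero' hF]
  obtain ⟨g, rfl⟩ := conj_invol hm hF h01 ht
  rw [centralizer_conj, Subgroup.card_map_of_injective (MulAut.conj g).injective, ← card_U hF (m := m)]
  congr 2
  suffices Subgroup.centralizer ({TS hF 0 1} : Set (Cfsg.Sz F m)) = U hF by rw [this]
  ext x
  rw [Subgroup.mem_centralizer_singleton_iff]
  constructor
  · intro hx
    have hfix : x • oInf F m = oInf F m := by
      obtain ⟨p, -, hp⟩ := two_fix hm hF (g := TS hF 0 1)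
        (fun e => by rw [e, orderOf_one] at h01; exact absurd h01 (by norm_num)) (isTwo_of_mem_U hF (TS_mem_U hF 0 1))
      exact (hp _ (centralizer_maps_fixed hF hx (TS_smul_inf hF 0 1))).trans (hp _ (TS_smul_inf hF 0 1)).symm
    obtain ⟨a, b, k, rfl⟩ := (mem_stab_inf hm hF).1 (smul_inf_iff.1 hfix)
    rw [mul_assoc, H_conj_T' hF, ← mul_assoc, ← mul_assoc, TS_mul' hF, TS_mul' hF] at hx
    obtain ⟨-, e2, -⟩ := TH_inj' hF hx
    simp only [mul_zero, mul_one, add_zero, th_zero hS, zero_mul] at e2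
    have hk1 : k = 1 := by
      refine kth_injective hS (a₁ := k) (a₂ := 1) ?_
      show th m (k : F) * k = th m ((1 : Fˣ) : F) * (1 : Fˣ)
      rw [Units.val_one, th_one hS, one_mul]
      linear_combination e2
    rw [hk1, HS_one hF, mul_one]
    exact TS_mem_U hF a b
  · rintro ⟨a, b, hab⟩
    rw [show x = TS hF a b from Subtype.ext hab]
    exact Subtype.ext (T_zero_comm hS a b 1).symm

/-- a subgroup of a point stabiliser containing an involution -/
theorem stab_case {H : Subgroup (Cfsg.Sz F m)} (hfix : ∀ g ∈ H, g • oInf F m = oInf F m)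
    {t : Cfsg.Sz F m} (ht : t ∈ H) (hto : orderOf t = 2)
    (hineq : Nat.card {g : Cfsg.Sz F m // g ∈ H ∧ orderOf g = 2} * Fintype.card F ^ 2 ≤ 2 * Nat.card H) :
    Nat.card H = Fintype.card F ^ 2 * (Fintype.card F - 1) := by
  classical
  haveI : Fintype (Cfsg.Sz F m) := Fintype.ofFinite _
  have hS := isSuzField hF
  choose a b k hk using fun g : H => (mem_stab_inf hm hF).1 (smul_inf_iff.1 (hfix g g.2))
  let φ : H →* Fˣ := MonoidHom.mk' k fun g g' => by
    have h1 : ((g * g' : H) : Cfsg.Sz F m) = TS hF (a (g * g')) (b (g * g')) * HS hF (k (g * g')) := hk _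
    rw [Subgroup.coe_mul, hk g, hk g', ← mul_assoc, mul_assoc (TS hF (a g) (b g)), H_conj_T' hF,
      ← mul_assoc, TS_mul' hF, mul_assoc, ← HS_mul hF] at h1
    exact (TH_inj' hF h1).2.2.symm
  set P := H ⊓ U hF with hP
  set K := φ.range with hK
  have hker : φ.ker.map H.subtype = P := by
    ext x
    constructor
    · rintro ⟨g, hg, rfl⟩
      refine Subgroup.mem_inf.2 ⟨g.2, ?_⟩
      have h1 : k g = 1 := hg
      show (g : Cfsg.Sz F m) ∈ U hF
      rw [hk g, h1, HS_one hF, mul_one]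
      exact TS_mem_U hF _ _
    · intro hx
      obtain ⟨hxH, u, v, huv⟩ := Subgroup.mem_inf.1 hx
      refine ⟨⟨x, hxH⟩, ?_, rfl⟩
      show k ⟨x, hxH⟩ = 1
      have h2 : (TS hF u v : Cfsg.Sz F m) * HS hF 1 = TS hF (a ⟨x, hxH⟩) (b ⟨x, hxH⟩) * HS hF (k ⟨x, hxH⟩) := by
        rw [← hk, HS_one hF, mul_one]
        exact (Subtype.ext huv : x = TS hF u v).symm
      exact (TH_inj' hF h2).2.2.symm
  have hcard : Nat.card H = Nat.card ↥P * Nat.card ↥K := by
    rw [← hker, Subgroup.card_map_of_injective H.subtype_injective, hK,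
      ← Subgroup.index_ker φ, φ.ker.card_mul_index]
  set I := Nat.card {g : Cfsg.Sz F m // g ∈ H ∧ orderOf g = 2}
  have htU : t ∈ U hF := mem_U_of_two hm hF (isTwo_of_order hF (Or.inl hto)).1 (hfix t ht)
  obtain ⟨x0, b0, hx0⟩ := htU
  obtain rfl : t = TS hF x0 b0 := Subtype.ext hx0
  have hx00 : x0 = 0 := by
    have h2 : (TS hF x0 b0 : Cfsg.Sz F m) * TS hF x0 b0 = 1 := by rw [← sq, ← hto, pow_orderOf_eq_one]
    rw [TS_sq' hF, ← TS_zero' hF] at h2
    rcases mul_eq_zero.1 (TS_inj hF h2).2 with h | h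
    exacts [th_eq_zero hS h, h]
  subst hx00
  have hb0 : b0 ≠ 0 := fun e => by
    rw [e, TS_zero' hF, orderOf_one] at hto
    exact absurd hto (by norm_num)
  have hinv : ∀ v : F, v ≠ 0 → orderOf (TS hF 0 v : Cfsg.Sz F m) = 2 := by
    intro v hv
    refine orderOf_eq_prime ?_ (fun e => hv (TS_inj hF (e.trans (TS_zero' hF).symm)).2)
    rw [sq, TS_sq' hF, th_zero hS, mul_zero, TS_zero' hF]
  have hKI : Nat.card ↥K ≤ I := by
    choose g hg using fun u : K => u.2
    refine Nat.card_le_card_of_injective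
      (fun u => (⟨(g u : Cfsg.Sz F m) * TS hF 0 b0 * (g u : Cfsg.Sz F m)⁻¹,
        mul_mem (mul_mem (g u).2 ht) (inv_mem (g u).2),
        ((orderOf_injective (MulAut.conj (g u : Cfsg.Sz F m)).toMonoidHom
          (MulAut.conj (g u : Cfsg.Sz F m)).injective _) :).trans hto⟩ :
        {g : Cfsg.Sz F m // g ∈ H ∧ orderOf g = 2})) fun u u' e => ?_
    have hval : ∀ g : H, (g : Cfsg.Sz F m) * TS hF 0 b0 * (g : Cfsg.Sz F m)⁻¹ =
        TS hF 0 (th m (φ g : F) * (φ g : Fˣ) * b0) := by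
      intro g
      rw [hk g, mul_assoc (TS hF (a g) (b g)), H_conj_T' hF, mul_zero, _root_.mul_inv_rev]
      calc TS hF (a g) (b g) * (TS hF 0 (th m (k g : F) * k g * b0) * HS hF (k g)) *
            ((HS hF (k g))⁻¹ * (TS hF (a g) (b g))⁻¹)
          = (TS hF (a g) (b g) * TS hF 0 (th m (k g : F) * k g * b0)) * (TS hF (a g) (b g))⁻¹ := by group
        _ = (TS hF 0 (th m (k g : F) * k g * b0) * TS hF (a g) (b g)) * (TS hF (a g) (b g))⁻¹ := by
            rw [show TS hF (a g) (b g) * TS hF 0 (th m (k g : F) * k g * b0) =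
              TS hF 0 (th m (k g : F) * k g * b0) * TS hF (a g) (b g) from
              Subtype.ext (T_zero_comm hS _ _ _).symm]
        _ = _ := mul_inv_cancel_right _ _
    have e' := congrArg Subtype.val e
    simp only [hval] at e'
    have h3 := kth_injective hS (mul_right_cancel₀ hb0 (TS_inj hF e').2)
    rw [hg, hg] at h3
    exact Subtype.ext h3
  have hPq : Nat.card ↥P ∣ Fintype.card F ^ 2 := by
    rw [← card_U hF (m := m)]; exact Subgroup.card_dvd_of_le inf_le_right
  have hK0 : 0 < Nat.card ↥K := Nat.card_pos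
  have hKq : Nat.card ↥K ∣ Fintype.card F - 1 := by
    rw [← Fintype.card_units, ← Nat.card_eq_fintype_card]
    exact Subgroup.card_subgroup_dvd_card K
  rw [hcard] at hineq ⊢
  have hhalf : Fintype.card F ^ 2 ≤ 2 * Nat.card ↥P := by
    refine Nat.le_of_mul_le_mul_left ?_ hK0
    calc Nat.card ↥K * Fintype.card F ^ 2 ≤ I * Fintype.card F ^ 2 := Nat.mul_le_mul_right _ hKI
      _ ≤ _ := hineq
      _ = _ := by ring
  -- all squares lie in `P`
  have hidx : (P.subgroupOf (U hF)).index = 1 ∨ (P.subgroupOf (U hF)).index = 2 := by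
    have h1 := (P.subgroupOf (U hF)).card_mul_index
    rw [Nat.card_congr (Subgroup.subgroupOfEquivOfLe (inf_le_right : P ≤ U hF)).toEquiv, card_U hF] at h1
    have h2 : 0 < Fintype.card F ^ 2 := pow_pos Fintype.card_pos 2
    have h3 : (P.subgroupOf (U hF)).index ≠ 0 := fun e => by rw [e, mul_zero] at h1; omega
    have h4 : (P.subgroupOf (U hF)).index ≤ 2 := by
      refine Nat.le_of_mul_le_mul_left ?_ (Nat.card_pos (α := ↥P))
      rw [h1, mul_comm _ 2]; exact hhalf
    omega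
  have hsq : ∀ v : F, TS hF 0 v ∈ P := by
    intro v
    by_cases hv : v = 0
    · rw [hv, TS_zero' hF]; exact one_mem _
    obtain ⟨l, hl⟩ := exists_kth_eq (m := m) hF hv
    rw [← hl, ← TS_sq' hF (l : F) 0]
    have h2 : (⟨TS hF (l : F) 0, TS_mem_U hF _ _⟩ : ↥(U hF : Subgroup (Cfsg.Sz F m))) *
        ⟨TS hF (l : F) 0, TS_mem_U hF _ _⟩ ∈ P.subgroupOf (U hF) := by
      rcases hidx with e | e
      · rw [Subgroup.index_eq_one.1 e]; exact Subgroup.mem_top _
      · exact Subgroup.mul_self_mem_of_index_two e _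
    exact h2
  have hI : Fintype.card F - 1 ≤ I := by
    rw [← Fintype.card_units, ← Nat.card_eq_fintype_card]
    refine Nat.card_le_card_of_injective (fun l : Fˣ => (⟨TS hF 0 (l : F), (Subgroup.mem_inf.1 (hsq _)).1,
      hinv _ l.ne_zero⟩ : {g : Cfsg.Sz F m // g ∈ H ∧ orderOf g = 2})) fun l l' e =>
      Units.ext (TS_inj hF (congrArg Subtype.val e)).2
  obtain ⟨j, hj⟩ := hPq
  obtain ⟨i, hi⟩ := hKq
  have h8 := eight_le_q hF hm
  have hmain : j * i ≤ 2 := by
    have h1 : (Fintype.card F - 1) * Fintype.card F ^ 2 ≤ 2 * (Nat.card ↥P * Nat.card ↥K) :=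
      (Nat.mul_le_mul_right _ hI).trans hineq
    rw [hj, hi] at h1
    refine Nat.le_of_mul_le_mul_right (c := Nat.card ↥P * Nat.card ↥K) ?_ (Nat.mul_pos Nat.card_pos hK0)
    calc j * i * (Nat.card ↥P * Nat.card ↥K) = Nat.card ↥K * i * (Nat.card ↥P * j) := by ring
      _ ≤ _ := h1
      _ = _ := by ring
  have hq2 : 2 ∣ Fintype.card F := two_dvd_q hF
  have hi1 : i = 1 := by
    have hi0 : i ≠ 0 := fun e => by rw [e, mul_zero] at hi; omega
    have hj0 : j ≠ 0 := fun e => by
      rw [e, mul_zero] at hj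
      have := pow_pos (show 0 < Fintype.card F by omega) 2
      omega
    have h2 : i ≤ 2 := le_trans (Nat.le_mul_of_pos_left i (by omega)) hmain
    by_contra hne
    rw [show i = 2 by omega] at hi
    omega
  subst hi1
  rw [mul_one] at hi hmain
  -- the image is everything, so the translations are invariant under all scalings
  have hKtop : K = ⊤ := Subgroup.eq_top_of_card_eq _ (by rw [← hi, Nat.card_eq_fintype_card (α := Fˣ), Fintype.card_units])
  have hPU : P = U hF := by
    refine le_antisymm inf_le_right ?_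
    obtain ⟨g, hg, hg0⟩ : ∃ g ∈ P, ∀ v, g ≠ TS hF 0 v := by
      by_contra hno
      push Not at hno
      have h2 : Nat.card ↥P ≤ Fintype.card F := by
        choose v hv using fun g : P => hno g g.2
        rw [← Nat.card_eq_fintype_card (α := F)]
        exact Nat.card_le_card_of_injective v fun g g' e => Subtype.ext (by rw [hv g, hv g', e])
      nlinarith
    obtain ⟨u, v, huv⟩ := (Subgroup.mem_inf.1 hg).2
    obtain rfl : g = TS hF u v := Subtype.ext huv
    have hu : u ≠ 0 := fun e => hg0 v (by rw [e])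
    rintro x ⟨x1, x2, hx⟩
    rw [show x = TS hF x1 x2 from Subtype.ext hx]
    have hfirst : ∃ y, TS hF x1 y ∈ P := by
      by_cases h0 : x1 = 0
      · exact ⟨0, by rw [h0]; exact hsq 0⟩
      obtain ⟨g, hgl⟩ : Units.mk0 (x1 / u) (div_ne_zero h0 hu) ∈ K := hKtop ▸ Subgroup.mem_top _
      have hconjH : (g : Cfsg.Sz F m) * TS hF u v * (g : Cfsg.Sz F m)⁻¹ ∈ H :=
        mul_mem (mul_mem g.2 (Subgroup.mem_inf.1 hg).1) (inv_mem g.2)
      rw [hk g] at hconjH
      obtain ⟨y, hy⟩ : ∃ y, TS hF (a g) (b g) * HS hF (k g) * TS hF u v * (TS hF (a g) (b g) * HS hF (k g))⁻¹ =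
          TS hF x1 y := by
        rw [mul_assoc (TS hF (a g) (b g)), H_conj_T' hF, ← mul_assoc, TS_mul' hF, _root_.mul_inv_rev, mul_assoc,
          ← mul_assoc (HS hF (k g)), mul_inv_cancel, one_mul, TS_inv' hF, TS_mul' hF]
        refine ⟨th m (a g) * ((k g : F) * u) + (b g + th m (k g : F) * k g * v) + (b g + th m (a g) * a g) +
          th m (a g + (k g : F) * u) * a g, ?_⟩
        congr 1
        · have h2 : (k g : F) = x1 / u := congrArg Units.val hgl
          rw [h2, div_mul_cancel₀ _ hu]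
          linear_combination (a g) * two_eq_zero hS
        · ring
      exact ⟨y, Subgroup.mem_inf.2 ⟨hy ▸ hconjH, TS_mem_U hF _ _⟩⟩
    obtain ⟨y, hy⟩ := hfirst
    have := mul_mem hy (hsq (x2 - y))
    rwa [TS_mul' hF, add_zero, mul_zero, add_zero, add_sub_cancel] at this
  rw [hPU, card_U hF, hi]

/-- the possible point stabilisers -/
theorem fixity_stab {Ω : Type*} [MulAction (Cfsg.Sz F m) Ω] [Finite Ω]
    (hfix : ∀ g : Cfsg.Sz F m, g ≠ 1 → Nat.card (MulAction.fixedBy Ω g) ≤ 2) (α : Ω)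
    (hbot : MulAction.stabilizer (Cfsg.Sz F m) α ≠ ⊥) (htop : MulAction.stabilizer (Cfsg.Sz F m) α ≠ ⊤) :
    (∃ p : suzukiOvoid F m, ∀ g : Cfsg.Sz F m, g • α = α ↔ g • p = p) ∨
      Nat.card ↥(MulAction.stabilizer (Cfsg.Sz F m) α) = Fintype.card F - 1 := by
  classical
  haveI : Fintype (Cfsg.Sz F m) := Fintype.ofFinite _
  set H := MulAction.stabilizer (Cfsg.Sz F m) α with hHdef
  have h8 := eight_le_q hF hm
  have hq64 : 64 ≤ Fintype.card F ^ 2 := by nlinarith
  have hinvol : ∀ t ∈ H, orderOf t = 2 →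
      Nat.card {g : Cfsg.Sz F m // g ∈ H ∧ orderOf g = 2} * Fintype.card F ^ 2 ≤ 2 * Nat.card ↥H := by
    intro t ht hto
    have := conjugates_le (α := α) (hfix t fun e => by rw [e, orderOf_one] at hto; exact absurd hto (by norm_num))
      {g | g ∈ H ∧ orderOf g = 2} (fun y hy => ⟨hy.1, by
        obtain ⟨g, hg⟩ := conj_invol hm hF hto hy.2
        exact ⟨g⁻¹, by rw [inv_inv, hg]⟩⟩)
    rwa [centralizer_invol hm hF hto] at this
  by_cases heven : 2 ∣ Nat.card ↥H
  · left
    obtain ⟨t, hto⟩ := exists_prime_orderOf_dvd_card' (G := ↥H) 2 heven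
    rw [← Subgroup.orderOf_coe] at hto
    have hineq := hinvol _ t.2 hto
    rcases subgroup_type hm hF htop with ⟨P, hP⟩ | ⟨z, hz, hzH⟩ | ⟨c, k, hk1, hkm, hdiv, hc⟩
    · obtain ⟨c, hcP⟩ := sylow_two_conj hm hF P
      rw [hcP] at hP
      refine ⟨c • oInf F m, ?_⟩
      set H1 := H.map (MulAut.conj c⁻¹).toMonoidHom with hH1
      have hfix1 : ∀ g ∈ H1, g • oInf F m = oInf F m := by
        rintro _ ⟨g, hg, rfl⟩
        show (c⁻¹ * g * c⁻¹⁻¹) • oInf F m = oInf F m
        rw [inv_inv, mul_smul, mul_smul, (normalizer_conj_U hm hF c g).1 (hP hg), inv_smul_smul]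
      have h2 : (MulAut.conj c⁻¹) (t : Cfsg.Sz F m) ∈ H1 := ⟨t, t.2, rfl⟩
      have hcard := stab_case hm hF hfix1 h2 ((MulEquiv.orderOf_eq _ _).trans hto) (by
        rw [Subgroup.card_map_of_injective (MulAut.conj c⁻¹).injective]
        refine le_trans (le_of_eq ?_) hineq
        congr 1
        refine Nat.card_congr ((Equiv.subtypeEquiv (MulAut.conj c⁻¹).toEquiv fun g => ?_).symm)
        show (g ∈ H ∧ orderOf g = 2) ↔ ((MulAut.conj c⁻¹) g ∈ H1 ∧ orderOf ((MulAut.conj c⁻¹) g) = 2)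
        rw [MulEquiv.orderOf_eq, hH1]
        exact and_congr_left' ⟨fun hg => ⟨g, hg, rfl⟩, fun ⟨g', hg', e⟩ => (MulAut.conj c⁻¹).injective e ▸ hg'⟩)
      rw [Subgroup.card_map_of_injective (MulAut.conj c⁻¹).injective] at hcard
      have hle : H ≤ MulAction.stabilizer (Cfsg.Sz F m) (c • oInf F m) := fun g hg =>
        (normalizer_conj_U hm hF c g).1 (hP hg)
      have heq := Subgroup.eq_of_le_of_card_ge hle (by
        rw [hcard]; exact (card_stab hm hF (c • oInf F m)).le)
      intro g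
      rw [← MulAction.mem_stabilizer_iff, ← MulAction.mem_stabilizer_iff, ← hHdef, heq]
    · exfalso
      set C := Subgroup.centralizer ({z} : Set (Cfsg.Sz F m)) with hC
      have hcH : Nat.card ↥(C ⊓ H : Subgroup (Cfsg.Sz F m)) ≤ Nat.card {g : Cfsg.Sz F m // g ∈ H ∧ orderOf g = 2} := by
        refine Nat.card_le_card_of_injective (fun u => (⟨(t : Cfsg.Sz F m) * u, mul_mem t.2 (Subgroup.mem_inf.1 u.2).2, ?_⟩ :
          {g : Cfsg.Sz F m // g ∈ H ∧ orderOf g = 2})) fun u u' e => Subtype.ext (mul_left_cancel (congrArg Subtype.val e))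
        have hinv := invol_inverts hm hF hz (hzH t.2) hto u (Subgroup.mem_inf.1 u.2).1
        have htt : (t : Cfsg.Sz F m) * t = 1 := by rw [← sq, ← hto, pow_orderOf_eq_one]
        rw [inv_eq_of_mul_eq_one_right htt] at hinv
        refine orderOf_eq_prime ?_ fun e => ?_
        · rw [sq, ← mul_assoc, hinv, inv_mul_cancel]
        · have hu : (u : Cfsg.Sz F m) = t := by
            rw [← inv_eq_of_mul_eq_one_right htt]; exact eq_inv_of_mul_eq_one_right e
          exact odd_centralizer hm hF hz (hto ▸ hu ▸ Subgroup.orderOf_dvd_natCard C (Subgroup.mem_inf.1 u.2).1)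
      have h4 : Nat.card ↥H ≤ 4 * Nat.card ↥(C ⊓ H : Subgroup (Cfsg.Sz F m)) := by
        obtain ⟨f, hf4, hf⟩ := NM_index hm hF (M := H) hz
        have hNM : NM H z = H := inf_eq_right.2 hzH
        rw [hNM] at hf
        rw [hf]
        exact Nat.mul_le_mul_right _ (Nat.le_of_dvd (by norm_num) hf4)
      have hpos : 0 < Nat.card ↥(C ⊓ H : Subgroup (Cfsg.Sz F m)) := Nat.card_pos
      nlinarith
    · exfalso
      haveI : Fact (Nat.Prime 2) := ⟨Nat.prime_two⟩
      letI : Fintype (GaloisField 2 (2 * k + 1)) := Fintype.ofFinite _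
      have hK : Fintype.card (GaloisField 2 (2 * k + 1)) = 2 ^ (2 * k + 1) := by
        rw [← Nat.card_eq_fintype_card]
        exact GaloisField.card 2 _ (by omega)
      obtain ⟨φ, hφ, he⟩ := exists_embed hm hF hK hdiv hk1
      have hcard : Nat.card ↥H = (2 ^ (2 * k + 1)) ^ 2 * ((2 ^ (2 * k + 1)) ^ 2 + 1) * (2 ^ (2 * k + 1) - 1) := by
        rw [← Subgroup.card_map_of_injective (K := H) (f := (MulAut.conj c).toMonoidHom) (MulAut.conj c).injective,
          hc, card_SubSz hm hF hK hdiv hk1, hK]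
      have hle : Nat.card {g : Cfsg.Sz (GaloisField 2 (2 * k + 1)) k // orderOf g = 2} ≤
          Nat.card {g : Cfsg.Sz F m // g ∈ H ∧ orderOf g = 2} := by
        refine Nat.card_le_card_of_injective (fun g => ⟨c⁻¹ * φ g.1 * c, ?_, ?_⟩) fun g g' e =>
          Subtype.ext (hφ (mul_left_cancel (mul_right_cancel (congrArg Subtype.val e))))
        · have : φ g.1 ∈ H.map (MulAut.conj c).toMonoidHom := by rw [hc, ← he]; exact ⟨g.1, rfl⟩
          rwa [mem_conjMap] at this
        · rw [show c⁻¹ * φ g.1 * c = (MulAut.conj c⁻¹) (φ g.1) by simp, MulEquiv.orderOf_eq,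
            orderOf_injective φ hφ, g.2]
      rw [card_order_two hk1 hK, hK] at hle
      rw [hcard] at hineq
      have hlt := sub_lt hm hF (show 3 ≤ 2 * k + 1 by omega) hdiv (by omega)
      set s := 2 ^ (2 * k + 1) with hs
      have hs1 : 2 ≤ s := hs ▸ (Nat.pow_le_pow_right (show 0 < 2 by norm_num) (show 1 ≤ 2 * k + 1 by omega))
      have h2 : (s ^ 2 + 1) * (s - 1) * Fintype.card F ^ 2 ≤ (s ^ 2 + 1) * (s - 1) * (2 * s ^ 2) :=
        (Nat.mul_le_mul_right _ hle).trans (hineq.trans (le_of_eq (by ring)))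
      have h3 := Nat.le_of_mul_le_mul_left h2 (Nat.mul_pos (Nat.succ_pos _) (by omega))
      nlinarith
  · right
    obtain ⟨z, hz, hzH⟩ : ∃ z, ¬ IsTwo z ∧ H ≤ Subgroup.centralizer ({z} : Set (Cfsg.Sz F m)) := by
      have hodd : ∀ g ∈ H, IsTwo g → g = 1 := by
        intro g hg ⟨i, hi⟩
        obtain ⟨j, -, hj⟩ := (Nat.dvd_prime_pow Nat.prime_two).1 (orderOf_dvd_of_pow_eq_one hi)
        rcases Nat.eq_zero_or_pos j with h0 | h0
        · exact orderOf_eq_one_iff.1 (by rw [hj, h0, pow_zero])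
        · exact absurd ((dvd_pow_self 2 h0.ne').trans (hj ▸ Subgroup.orderOf_dvd_natCard _ hg)) heven
      rcases subgroup_type hm hF htop with ⟨P, hP⟩ | ⟨z, hz, hzH⟩ | ⟨c, k, hk1, hkm, hdiv, hc⟩
      · obtain ⟨c, hcP⟩ := sylow_two_conj hm hF P
        rw [hcP] at hP
        obtain ⟨x, hxH, hx1⟩ := H.bot_or_exists_ne_one.resolve_left hbot
        refine ⟨x, fun ht => hx1 (hodd x hxH ht), fun g hg => ?_⟩
        have hcomm : g * x * g⁻¹ * x⁻¹ = 1 := by
          refine hodd _ (mul_mem (mul_mem (mul_mem hg hxH) (inv_mem hg)) (inv_mem hxH)) ?_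
          have hst : ∀ y ∈ H, ∃ u v l, c⁻¹ * y * c = TS hF u v * HS hF l := fun y hy =>
            (mem_stab_inf hm hF).1 (smul_inf_iff.1 (by
              rw [mul_smul, mul_smul, (normalizer_conj_U hm hF c y).1 (hP hy), inv_smul_smul]))
          obtain ⟨u1, v1, l1, e1⟩ := hst g hg
          obtain ⟨u2, v2, l2, e2⟩ := hst x hxH
          have e : c⁻¹ * (g * x * g⁻¹ * x⁻¹) * c =
              (c⁻¹ * g * c) * (c⁻¹ * x * c) * (c⁻¹ * g * c)⁻¹ * (c⁻¹ * x * c)⁻¹ := by group
          have hU : c⁻¹ * (g * x * g⁻¹ * x⁻¹) * c ∈ U hF := by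
            rw [e, e1, e2]
            have hswap : ∀ (l : Fˣ) (u : Cfsg.Sz F m), u ∈ U hF → ∃ u' ∈ U hF, HS hF l * u = u' * HS hF l := by
              rintro l u ⟨p, q, hpq⟩
              exact ⟨_, TS_mem_U hF _ _, by rw [show u = TS hF p q from Subtype.ext hpq, H_conj_T' hF]⟩
            obtain ⟨w1, hw1, f1⟩ := hswap l1 (TS hF u2 v2) (TS_mem_U hF _ _)
            obtain ⟨w2, hw2, f2⟩ := hswap l2 (TS hF u1 v1)⁻¹ (inv_mem (TS_mem_U hF _ _))
            have : TS hF u1 v1 * HS hF l1 * (TS hF u2 v2 * HS hF l2) * (TS hF u1 v1 * HS hF l1)⁻¹ *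
                (TS hF u2 v2 * HS hF l2)⁻¹ = TS hF u1 v1 * w1 * w2 * (TS hF u2 v2)⁻¹ := by
              calc _ = TS hF u1 v1 * (HS hF l1 * TS hF u2 v2) * (HS hF l2 * (HS hF l1)⁻¹) * (TS hF u1 v1)⁻¹ *
                    ((HS hF l2)⁻¹ * (TS hF u2 v2)⁻¹) := by group
                _ = TS hF u1 v1 * w1 * (HS hF l1 * HS hF l2 * (HS hF l1)⁻¹) * (TS hF u1 v1)⁻¹ *
                    ((HS hF l2)⁻¹ * (TS hF u2 v2)⁻¹) := by rw [f1]; group
                _ = TS hF u1 v1 * w1 * (HS hF l2 * (TS hF u1 v1)⁻¹) *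
                    ((HS hF l2)⁻¹ * (TS hF u2 v2)⁻¹) := by
                    rw [← HS_mul hF, mul_comm l1 l2, HS_mul hF, mul_inv_cancel_right]; group
                _ = _ := by rw [f2]; group
            rw [this]
            exact mul_mem (mul_mem (mul_mem (TS_mem_U hF _ _) hw1) hw2) (inv_mem (TS_mem_U hF _ _))
          have := (isTwo_of_mem_U hF hU).conj c
          rwa [show c * (c⁻¹ * (g * x * g⁻¹ * x⁻¹) * c) * c⁻¹ = g * x * g⁻¹ * x⁻¹ by group] at this
        refine Subgroup.mem_centralizer_singleton_iff.2 ?_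
        exact mul_inv_eq_iff_eq_mul.1 (mul_inv_eq_one.1 hcomm)
      · refine ⟨z, hz, fun g hg => ?_⟩
        by_cases hg1 : g = 1
        · rw [hg1]; exact one_mem _
        · exact mem_C_of_nontwo hm hF hz (hzH hg) fun ht => hg1 (hodd g hg ht)
      · exfalso
        refine heven ?_
        obtain ⟨k', hk', -, -, hcard⟩ := SubSz_card' hF hm (show 3 ≤ 2 * k + 1 by omega) hdiv
        rw [← Subgroup.card_map_of_injective (K := H) (f := (MulAut.conj c).toMonoidHom) (MulAut.conj c).injective,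
          hc, hcard]
        exact ((dvd_pow (dvd_pow_self 2 (by omega)) two_ne_zero).mul_right _).mul_right _
    set C := Subgroup.centralizer ({z} : Set (Cfsg.Sz F m)) with hC
    obtain ⟨h, hhH, hh1⟩ := H.bot_or_exists_ne_one.resolve_left hbot
    -- the normaliser permutes the elements of `H`
    have hnorm : ∀ n ∈ NC z, ∀ g ∈ H, n⁻¹ * g * n ∈ H := by
      intro n hn g hg
      have hgC : n⁻¹ * g * n ∈ C := by
        have := (Subgroup.mem_normalizer_iff.1 (inv_mem hn) g).1 (hzH hg)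
        rwa [inv_inv] at this
      haveI := (nontwo_centralizer hm hF hz).1
      letI := IsCyclic.commGroup (α := ↥C)
      have hd : (n⁻¹ * g * n) ^ Nat.card ↥H = 1 := by
        have h1 : g ^ Nat.card ↥H = 1 :=
          orderOf_dvd_iff_pow_eq_one.1 (Subgroup.orderOf_dvd_natCard _ hg)
        calc (n⁻¹ * g * n) ^ Nat.card ↥H = n⁻¹ * g ^ Nat.card ↥H * n⁻¹⁻¹ := by rw [← conj_pow, inv_inv]
          _ = 1 := by rw [h1]; group
      by_contra hne
      have hsub : insert ⟨_, hgC⟩ (Finset.univ.filter fun u : ↥C => (u : Cfsg.Sz F m) ∈ H) ⊆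
          Finset.univ.filter fun u : ↥C => u ^ Nat.card ↥H = 1 := by
        intro u hu
        simp only [Finset.mem_insert, Finset.mem_filter, Finset.mem_univ, true_and] at hu ⊢
        rcases hu with rfl | hu
        · exact Subtype.ext hd
        · exact Subtype.ext (orderOf_dvd_iff_pow_eq_one.1 (Subgroup.orderOf_dvd_natCard _ hu))
      have h3 := (Finset.card_le_card hsub).trans (IsCyclic.card_pow_eq_one_le (α := ↥C) Nat.card_pos)
      rw [Finset.card_insert_of_notMem (show (⟨_, hgC⟩ : ↥C) ∉ Finset.univ.filter fun u : ↥C => (u : Cfsg.Sz F m) ∈ H from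
        fun h => hne (Finset.mem_filter.1 h).2)] at h3
      have h4 : (Finset.univ.filter fun u : ↥C => (u : Cfsg.Sz F m) ∈ H).card = Nat.card ↥H := by
        rw [← Fintype.card_subtype, ← Nat.card_eq_fintype_card]
        exact Nat.card_congr (Subgroup.subgroupOfEquivOfLe hzH).toEquiv
      omega
    have hCd := centralizer_card hm hF hz
    set d := Nat.card ↥C with hd
    have hN := Tset_normalizer hm hF hCd (C := C) ⟨z, hz, rfl, rfl⟩
    have hle : Nat.card ↥(NC z) ≤ 2 * Nat.card ↥H := by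
      have h1 := conjugates_le (α := α) (hfix h hh1) {g | g ∈ H ∧ ∃ n ∈ NC z, n⁻¹ * h * n = g}
        (fun y hy => ⟨hy.1, by obtain ⟨n, -, hn⟩ := hy.2; exact ⟨n, hn⟩⟩)
      refine le_trans ?_ h1
      rw [← Nat.card_prod]
      -- the cosets of the centraliser
      have hex : ∀ g : {g | g ∈ H ∧ ∃ n ∈ NC z, n⁻¹ * h * n = g}, ∃ n, n ∈ NC z ∧ n⁻¹ * h * n = g := fun g => g.2.2
      choose sel hsel using hex
      let Φ : ↥(NC z) → {g | g ∈ H ∧ ∃ n ∈ NC z, n⁻¹ * h * n = g} × ↥(Subgroup.centralizer ({h} : Set (Cfsg.Sz F m))) :=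
        fun n =>
          (⟨(n : Cfsg.Sz F m)⁻¹ * h * n, hnorm n n.2 h hhH, n, n.2, rfl⟩,
            ⟨(n : Cfsg.Sz F m) * (sel ⟨(n : Cfsg.Sz F m)⁻¹ * h * n, hnorm n n.2 h hhH, n, n.2, rfl⟩)⁻¹, by
              set s := sel ⟨(n : Cfsg.Sz F m)⁻¹ * h * n, hnorm n n.2 h hhH, n, n.2, rfl⟩
              have e : s⁻¹ * h * s = (n : Cfsg.Sz F m)⁻¹ * h * n :=
                (hsel ⟨(n : Cfsg.Sz F m)⁻¹ * h * n, hnorm n n.2 h hhH, n, n.2, rfl⟩).2
              refine Subgroup.mem_centralizer_singleton_iff.2 ?_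
              calc (n : Cfsg.Sz F m) * s⁻¹ * h = (n : Cfsg.Sz F m) * (s⁻¹ * h * s) * s⁻¹ := by group
                _ = _ := by rw [e]; group⟩)
      refine Nat.card_le_card_of_injective Φ fun n n' e => ?_
      have e1 := congrArg (fun p => (p.1 : Cfsg.Sz F m)) e
      have e2 := congrArg (fun p => (p.2 : Cfsg.Sz F m)) e
      simp only [Φ] at e1 e2
      have e3 : (⟨(n : Cfsg.Sz F m)⁻¹ * h * n, hnorm n n.2 h hhH, n, n.2, rfl⟩ :
          {g | g ∈ H ∧ ∃ n ∈ NC z, n⁻¹ * h * n = g}) = ⟨(n' : Cfsg.Sz F m)⁻¹ * h * n', hnorm n' n'.2 h hhH, n', n'.2, rfl⟩ :=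
        Subtype.ext e1
      rw [e3] at e2
      exact Subtype.ext (mul_right_cancel e2)
    rw [hN] at hle
    obtain ⟨r, hr⟩ := Subgroup.card_dvd_of_le hzH
    rw [← hd] at hr
    have hHpos : 0 < Nat.card ↥H := Nat.card_pos
    have hdodd : ¬ 2 ∣ d := (tori_coprime hF hm hCd hCd).1
    split_ifs at hle with hA
    · have hr1 : r = 1 := by
        have h0 : r ≠ 0 := fun e => by rw [e, mul_zero] at hr; exact hdodd (hr ▸ dvd_zero 2)
        have h1 : r ≤ 1 := by
          refine Nat.le_of_mul_le_mul_left ?_ (Nat.mul_pos two_pos hHpos)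
          rw [mul_assoc, ← hr, mul_one]; exact hle
        omega
      rw [hr1, mul_one] at hr
      rw [← hr, hA, hF]
    · exfalso
      have h0 : r ≠ 0 := fun e => by rw [e, mul_zero] at hr; exact hdodd (hr ▸ dvd_zero 2)
      have : Nat.card ↥H ≤ d := hr ▸ Nat.le_mul_of_pos_right _ (by omega)
      omega

end CfsgLib.Lie.Suz
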