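import Cfsg.Agent.Lib.Lie.Suz.Tori
import Mathlib.GroupTheory.SpecificGroups.ZGroup

/-!
# Subgroups of the Suzuki group: fixed points and normal abelian subgroups
-/

set_option autoImplicit false
set_option maxHeartbeats 400000

namespace CfsgLib.Lie.Suz

open Cfsg
open scoped MatrixGroups Pointwise

variable {F : Type*} [Field F] [Fintype F] {m : ℕ}

/-- an element of 2-power order -/
def IsTwo (g : Cfsg.Sz F m) : Prop := ∃ i : ℕ, g ^ 2 ^ i = 1

/-- the point at infinity -/
def oInf (F : Type*) [Field F] (m : ℕ) : suzukiOvoid F m := ⟨_, ovoid_inf⟩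

/-- the origin -/
def oZero (F : Type*) [Field F] (m : ℕ) : suzukiOvoid F m := ⟨_, ovoid_zero⟩

variable (hm : 1 ≤ m) (hF : Fintype.card F = 2 ^ (2 * m + 1))
include hm hF

omit hm in
theorem HS_one : (HS hF 1 : Cfsg.Sz F m) = 1 := Subtype.ext H_one

omit hm in
theorem HS_mul (a b : Fˣ) : (HS hF (a * b) : Cfsg.Sz F m) = HS hF a * HS hF b :=
  Subtype.ext (H_mul a b)

omit hm in
theorem HS_inv (a : Fˣ) : (HS hF a⁻¹ : Cfsg.Sz F m) = (HS hF a)⁻¹ := Subtype.ext (H_inv a)

omit hm in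
theorem HS_pow (a : Fˣ) (i : ℕ) : (HS hF (a ^ i) : Cfsg.Sz F m) = HS hF a ^ i := by
  induction i with
  | zero => simp [HS_one hF]
  | succ i ih => rw [pow_succ, pow_succ, HS_mul hF, ih]

omit hm hF in
theorem smul_inf_iff {g : Cfsg.Sz F m} :
    g • oInf F m = oInf F m ↔ g ∈ MulAction.stabilizer (Cfsg.Sz F m) (suzukiPointInfinity F) := by
  rw [MulAction.mem_stabilizer_iff]
  exact ⟨fun h => congrArg Subtype.val h, fun h => Subtype.ext h⟩

omit hm in
theorem HS_smul_inf (k : Fˣ) : (HS hF k : Cfsg.Sz F m) • oInf F m = oInf F m := Subtype.ext (H_inf k)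

omit hm in
theorem HS_smul_zero (k : Fˣ) : (HS hF k : Cfsg.Sz F m) • oZero F m = oZero F m :=
  Subtype.ext (H_zero_pt (isSuzField hF) k)

omit hm hF in
theorem inf_ne_zero' : oInf F m ≠ oZero F m := fun h => inf_ne_zero (congrArg Subtype.val h)

/-- an element fixing two points has odd order -/
theorem not_two_of_two_fix {g : Cfsg.Sz F m} (hg1 : g ≠ 1) (hg : IsTwo g) {a b : suzukiOvoid F m}
    (hab : a ≠ b) (ha : g • a = a) : g • b ≠ b := by
  intro hb
  obtain ⟨c, hca, hcb⟩ := exists_conj_pair hF hab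
  obtain ⟨k, rfl⟩ := stab_pair_le hm hF c hca hcb ha hb
  obtain ⟨i, hi⟩ := hg
  classical
  rw [conj_pow, conj_eq_one_iff, ← HS_pow hF, ← HS_one hF] at hi
  have hk := HS_injective hF hi
  have h1 : orderOf k ∣ 2 ^ i := orderOf_dvd_of_pow_eq_one hk
  have h2 : orderOf k ∣ Fintype.card F - 1 := by rw [← Fintype.card_units]; exact orderOf_dvd_card
  have hcop : Nat.Coprime (2 ^ i) (Fintype.card F - 1) := by
    refine Nat.Coprime.pow_left _ ((Nat.prime_two.coprime_iff_not_dvd).2 fun h => ?_)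
    have h3 := two_dvd_q hF
    have h4 : 1 ≤ Fintype.card F := Fintype.card_pos
    omega
  have : orderOf k = 1 := Nat.eq_one_of_dvd_coprimes hcop h1 h2
  rw [orderOf_eq_one_iff] at this
  exact hg1 (by rw [this, HS_one hF, mul_one, mul_inv_cancel])

/-- a 2-subgroup fixes a point -/
theorem exists_fix_of_two {P : Subgroup (Cfsg.Sz F m)} (hP : IsPGroup 2 P) :
    ∃ a : suzukiOvoid F m, ∀ g ∈ P, g • a = a := by
  rcases dvd_or_fix hm hF (P := P) hP with h | h
  · exact absurd rfl (prime_of_dvd_n hF Nat.prime_two h).1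
  · exact h

/-- a non-identity element of 2-power order fixes exactly one point -/
theorem two_fix {g : Cfsg.Sz F m} (hg1 : g ≠ 1) (hg : IsTwo g) :
    ∃ a : suzukiOvoid F m, g • a = a ∧ ∀ b, g • b = b → b = a := by
  have hP : IsPGroup 2 (Subgroup.zpowers g) := by
    obtain ⟨i, hi⟩ := hg
    obtain ⟨j, -, hj⟩ := (Nat.dvd_prime_pow Nat.prime_two).1 (orderOf_dvd_of_pow_eq_one hi)
    exact IsPGroup.of_card (n := j) (by rw [Nat.card_zpowers, hj])
  obtain ⟨a, ha⟩ := exists_fix_of_two hm hF hP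
  exact ⟨a, ha g (Subgroup.mem_zpowers g), fun b hb => by_contra fun hne =>
    not_two_of_two_fix hm hF hg1 hg (Ne.symm hne) (ha g (Subgroup.mem_zpowers g)) hb⟩

omit hm hF in
theorem IsTwo.conj {g : Cfsg.Sz F m} (hg : IsTwo g) (c : Cfsg.Sz F m) : IsTwo (c * g * c⁻¹) := by
  obtain ⟨i, hi⟩ := hg
  exact ⟨i, by rw [conj_pow, hi, mul_one, mul_inv_cancel]⟩

/-- a 2-element fixing the point at infinity is a translation -/
theorem mem_U_of_two {g : Cfsg.Sz F m} (hg : IsTwo g) (h : g • oInf F m = oInf F m) :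
    g ∈ U hF := by
  by_cases hg1 : g = 1
  · rw [hg1]; exact one_mem _
  obtain ⟨a, b, k, rfl⟩ := (mem_stab_inf hm hF).1 (smul_inf_iff.1 h)
  by_cases hk : k = 1
  · rw [hk, HS_one hF, mul_one]; exact TS_mem_U hF a b
  · obtain ⟨x, y, hxy⟩ := exists_second_fix hm hF (a := a) (b := b) hk
    exact absurd hxy (not_two_of_two_fix hm hF hg1 hg
      (fun e => pt_ne_inf x y (congrArg Subtype.val e).symm) h)

omit hm in
theorem isTwo_of_mem_U {g : Cfsg.Sz F m} (h : g ∈ U hF) : IsTwo g := by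
  obtain ⟨i, hi⟩ := U_isPGroup hF ⟨g, h⟩
  exact ⟨i, congrArg Subtype.val hi⟩

/-- the centraliser of an element which is not a 2-element -/
theorem nontwo_centralizer {x : Cfsg.Sz F m} (hx : ¬ IsTwo x) :
    IsCyclic ↥(Subgroup.centralizer ({x} : Set (Cfsg.Sz F m))) ∧
      ∀ u ∈ Subgroup.centralizer ({x} : Set (Cfsg.Sz F m)), u ≠ 1 →
        ¬ IsTwo u ∧ Subgroup.centralizer ({u} : Set (Cfsg.Sz F m)) = Subgroup.centralizer {x} := by
  have hx1 : x ≠ 1 := fun h => hx ⟨0, by rw [h, one_pow]⟩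
  have hcyc : ∀ y : Cfsg.Sz F m, ¬ IsTwo y →
      IsCyclic ↥(Subgroup.centralizer ({y} : Set (Cfsg.Sz F m))) := by
    intro y hy
    have hy1 : y ≠ 1 := fun h => hy ⟨0, by rw [h, one_pow]⟩
    rcases centralizer_cases hm hF hy1 with h | h
    · exact h
    · obtain ⟨i, hi⟩ := h ⟨y, Subgroup.mem_centralizer_singleton_iff.2 rfl⟩
      exact absurd ⟨i, congrArg Subtype.val hi⟩ hy
  refine ⟨hcyc x hx, fun u hu hu1 => ?_⟩
  have hcomm : u * x = x * u := Subgroup.mem_centralizer_singleton_iff.1 hu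
  have hu2 : ¬ IsTwo u := by
    intro h
    obtain ⟨a, ha, huniq⟩ := two_fix hm hF hu1 h
    obtain ⟨i, hi⟩ := centralizer_one_fixed hm hF hu1 ha huniq
      ⟨x, Subgroup.mem_centralizer_singleton_iff.2 hcomm.symm⟩
    exact hx ⟨i, congrArg Subtype.val hi⟩
  refine ⟨hu2, le_antisymm (fun g hg => ?_) (fun g hg => ?_)⟩
  · haveI := hcyc u hu2
    letI := IsCyclic.commGroup (α := ↥(Subgroup.centralizer ({u} : Set (Cfsg.Sz F m))))
    exact Subgroup.mem_centralizer_singleton_iff.2 (congrArg Subtype.val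
      (mul_comm (⟨g, hg⟩ : Subgroup.centralizer ({u} : Set (Cfsg.Sz F m)))
        ⟨x, Subgroup.mem_centralizer_singleton_iff.2 hcomm.symm⟩))
  · haveI := hcyc x hx
    letI := IsCyclic.commGroup (α := ↥(Subgroup.centralizer ({x} : Set (Cfsg.Sz F m))))
    exact Subgroup.mem_centralizer_singleton_iff.2 (congrArg Subtype.val
      (mul_comm (⟨g, hg⟩ : Subgroup.centralizer ({x} : Set (Cfsg.Sz F m))) ⟨u, hu⟩))

theorem odd_centralizer {x : Cfsg.Sz F m} (hx : ¬ IsTwo x) :
    ¬ 2 ∣ Nat.card ↥(Subgroup.centralizer ({x} : Set (Cfsg.Sz F m))) := by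
  intro h
  obtain ⟨z, hz⟩ := exists_prime_orderOf_dvd_card'
    (G := ↥(Subgroup.centralizer ({x} : Set (Cfsg.Sz F m)))) 2 h
  rw [← Subgroup.orderOf_coe] at hz
  exact ((nontwo_centralizer hm hF hx).2 _ z.2 (fun e => by rw [e, orderOf_one] at hz; exact absurd hz (by norm_num))).1
    ⟨1, by rw [pow_one, ← hz, pow_orderOf_eq_one]⟩

/-- the normaliser of the centraliser of an element which is not a 2-element -/
theorem nontwo_normalizer_index {x : Cfsg.Sz F m} (hx : ¬ IsTwo x) :
    ∃ k : ℕ, k ∣ 4 ∧ Nat.card ↥(Subgroup.normalizer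
      ((Subgroup.centralizer ({x} : Set (Cfsg.Sz F m)) : Subgroup (Cfsg.Sz F m)) : Set (Cfsg.Sz F m))) =
        k * Nat.card ↥(Subgroup.centralizer ({x} : Set (Cfsg.Sz F m))) := by
  classical
  by_cases hfree : Free x
  · obtain ⟨k, hk, h⟩ := normalizer_index hm hF (free_centralizer hm hF hfree)
    exact ⟨k, by rcases hk with rfl | rfl | rfl <;> norm_num, h⟩
  simp only [Free, not_forall, not_not] at hfree
  obtain ⟨a, ha⟩ := hfree
  have hx1 : x ≠ 1 := fun h => hx ⟨0, by rw [h, one_pow]⟩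
  obtain ⟨b, hb, hab⟩ : ∃ b, x • b = b ∧ b ≠ a := by
    by_contra hc
    push Not at hc
    obtain ⟨i, hi⟩ := centralizer_one_fixed hm hF hx1 ha hc ⟨x, Subgroup.mem_centralizer_singleton_iff.2 rfl⟩
    exact hx ⟨i, congrArg Subtype.val hi⟩
  set T := Subgroup.centralizer ({x} : Set (Cfsg.Sz F m)) with hT
  set N := Subgroup.normalizer ((T : Subgroup (Cfsg.Sz F m)) : Set (Cfsg.Sz F m))
  have hTa : ∀ g ∈ T, g • a = a := by
    intro g hg
    by_cases hg1 : g = 1
    · rw [hg1, one_smul]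
    have hg' : g * x = x * g := Subgroup.mem_centralizer_singleton_iff.1 hg
    rcases three_of hF hx1 hm (Ne.symm hab) ha hb (centralizer_maps_fixed hF hg' ha) with h | h
    · exact h
    · exfalso
      obtain ⟨c, hca, hcb⟩ := exists_conj_pair hF (Ne.symm hab)
      obtain ⟨c', hc'⟩ := centralizer_two_fixed hm hF hx1 (Ne.symm hab) ha hb
      obtain ⟨_, ⟨k, rfl⟩, hk⟩ := hc' hg
      obtain ⟨_, ⟨l, rfl⟩, hl⟩ := hc' (Subgroup.mem_centralizer_singleton_iff.2 rfl : x ∈ T)
      have hfx : ∀ (j : Fˣ) (p : suzukiOvoid F m), p = c' • oInf F m ∨ p = c' • oZero F m →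
          (c' * HS hF j * c'⁻¹) • p = p := by
        rintro j p (rfl | rfl) <;> rw [mul_smul, mul_smul, inv_smul_smul]
        · rw [HS_smul_inf hF]
        · rw [HS_smul_zero hF]
      have hne : c' • oInf F m ≠ c' • oZero F m := fun e => inf_ne_zero' (MulAction.injective c' e)
      have hl' : x = c' * HS hF l * c'⁻¹ := hl.symm
      have h1 := hfx l _ (Or.inl rfl)
      have h2 := hfx l _ (Or.inr rfl)
      rw [← hl'] at h1 h2
      have hga : g • a = a := by
        rw [show g = c' * HS hF k * c'⁻¹ from hk.symm]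
        exact hfx k a (three_of hF hx1 hm hne h1 h2 ha)
      exact hab (hga.symm.trans h).symm
  have hpair : ∀ g ∈ N, g • a = a ∨ g • a = b := by
    intro g hg
    have h2 : g⁻¹ * x * g ∈ T := by
      have := (Subgroup.mem_normalizer_iff.1 (Subgroup.inv_mem _ hg) x).1
        (Subgroup.mem_centralizer_singleton_iff.2 rfl : x ∈ T)
      simpa using this
    have h3 := hTa _ h2
    rw [mul_smul, mul_smul, inv_smul_eq_iff] at h3
    exact three_of hF hx1 hm (Ne.symm hab) ha hb h3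
  have hstab : ∀ g ∈ N, g • a = a → g ∈ T := by
    intro g hg hga
    have hgx : g⁻¹ * x * g ∈ T := by
      have := (Subgroup.mem_normalizer_iff.1 (Subgroup.inv_mem _ hg) x).1
        (Subgroup.mem_centralizer_singleton_iff.2 rfl : x ∈ T)
      simpa using this
    have hgb : g • b = b := by
      have h1 : x • (g • b) = g • b := by
        -- `x` centralises `g⁻¹ x g`, which therefore fixes `b`
        have hc : (g⁻¹ * x * g) * x = x * (g⁻¹ * x * g) := Subgroup.mem_centralizer_singleton_iff.1 hgx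
        have := centralizer_maps_fixed hF hc hb
        rcases three_of hF hx1 hm (Ne.symm hab) ha hb this with h | h
        · exact absurd (MulAction.injective (g⁻¹ * x * g) (h.trans (hTa _ hgx).symm)) hab
        · rw [mul_smul, mul_smul, inv_smul_eq_iff] at h
          exact h
      rcases three_of hF hx1 hm (Ne.symm hab) ha hb h1 with h | h
      · exact absurd (MulAction.injective g (h.trans hga.symm)) hab
      · exact h
    obtain ⟨c, hca, hcb⟩ := exists_conj_pair hF (Ne.symm hab)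
    obtain ⟨k, hk⟩ := stab_pair_le hm hF c hca hcb hga hgb
    obtain ⟨l, hl⟩ := stab_pair_le hm hF c hca hcb ha hb
    refine Subgroup.mem_centralizer_singleton_iff.2 ?_
    rw [hk, hl]
    calc c * HS hF k * c⁻¹ * (c * HS hF l * c⁻¹) = c * HS hF (k * l) * c⁻¹ := by
          rw [HS_mul hF]; group
      _ = c * HS hF (l * k) * c⁻¹ := by rw [mul_comm]
      _ = _ := by rw [HS_mul hF]; group
  have hTN : T ≤ N := Subgroup.le_normalizer
  obtain ⟨k, hk⟩ := Subgroup.card_dvd_of_le hTN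
  refine ⟨k, ?_, by rw [hk, mul_comm]⟩
  haveI : Fintype ↥N := Fintype.ofFinite _
  have hle : Nat.card ↥N ≤ Nat.card ↥T * 2 := by
    by_cases hs : ∃ s ∈ N, s • a = b
    · obtain ⟨s, hs, hsa⟩ := hs
      let f : ↥N → ↥T ⊕ ↥T := fun g =>
        if h : (g : Cfsg.Sz F m) • a = a then Sum.inl ⟨g, hstab g g.2 h⟩
        else Sum.inr ⟨s⁻¹ * g, hstab _ (Subgroup.mul_mem _ (Subgroup.inv_mem _ hs) g.2)
          (by rw [mul_smul, (hpair g g.2).resolve_left h, ← hsa, inv_smul_smul])⟩
      have hf : Function.Injective f := by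
        intro g g' e
        simp only [f] at e
        split_ifs at e
        · exact Subtype.ext (congrArg Subtype.val (Sum.inl_injective e) :)
        · exact Subtype.ext (mul_left_cancel (congrArg Subtype.val (Sum.inr_injective e) :))
      have := Nat.card_le_card_of_injective f hf
      rw [Nat.card_sum] at this
      omega
    · push Not at hs
      have := Subgroup.card_le_of_le (show N ≤ T from fun g hg =>
        hstab g hg ((hpair g hg).resolve_right (hs g hg)))
      omega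
  rw [hk] at hle
  have hk2 := Nat.le_of_mul_le_mul_left hle Nat.card_pos
  have hk0 : k ≠ 0 := fun e => by rw [e, mul_zero] at hk; exact Nat.card_pos.ne' hk
  rcases (show k = 1 ∨ k = 2 by omega) with rfl | rfl <;> norm_num

/-- a subgroup with a normal abelian subgroup fixes a point or normalises the centraliser of a
non-2-element -/
theorem cases_of_abelian_normal {M A : Subgroup (Cfsg.Sz F m)} (hAM : A ≤ M) (hA1 : A ≠ ⊥)
    (hAn : ∀ g ∈ M, ∀ x ∈ A, g * x * g⁻¹ ∈ A) (hAc : ∀ x ∈ A, ∀ y ∈ A, x * y = y * x) :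
    (∃ a : suzukiOvoid F m, ∀ g ∈ M, g • a = a) ∨
      ∃ x : Cfsg.Sz F m, ¬ IsTwo x ∧ M ≤ Subgroup.normalizer
        ((Subgroup.centralizer ({x} : Set (Cfsg.Sz F m)) : Subgroup (Cfsg.Sz F m)) : Set (Cfsg.Sz F m)) := by
  obtain ⟨x, hxA, hx1⟩ := A.bot_or_exists_ne_one.resolve_left hA1
  by_cases hx : IsTwo x
  · left
    obtain ⟨a, ha, huniq⟩ := two_fix hm hF hx1 hx
    refine ⟨a, fun g hg => ?_⟩
    have hy := hAn g hg x hxA
    have hcomm := hAc _ hy _ hxA
    have hya : (g * x * g⁻¹) • a = a := huniq _ (centralizer_maps_fixed hF hcomm ha)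
    obtain ⟨b, -, hbu⟩ := two_fix hm hF (fun e => hx1 (conj_eq_one_iff.1 e)) (hx.conj g)
    have h1 : (g * x * g⁻¹) • (g • a) = g • a := by
      rw [mul_smul, mul_smul, inv_smul_smul, ha]
    exact (hbu _ h1).trans (hbu _ hya).symm
  · right
    refine ⟨x, hx, fun g hg => ?_⟩
    have hy := hAn g hg x hxA
    have hyC : g * x * g⁻¹ ∈ Subgroup.centralizer ({x} : Set (Cfsg.Sz F m)) :=
      Subgroup.mem_centralizer_singleton_iff.2 (hAc _ hy _ hxA)
    have hC := ((nontwo_centralizer hm hF hx).2 _ hyC (fun e => hx1 (conj_eq_one_iff.1 e))).2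
    rw [centralizer_conj] at hC
    refine Subgroup.mem_normalizer_iff.2 fun y => ⟨fun hy => hC ▸ ⟨y, hy, rfl⟩, fun hy => ?_⟩
    rw [← hC] at hy
    obtain ⟨z, hz, e⟩ := hy
    rwa [show z = y from (MulAut.conj g).injective e] at hz

/-- no proper factors: either odd (hence soluble) or even -/
theorem two_dvd_of_no_abelian_normal {M : Subgroup (Cfsg.Sz F m)} (hM : M ≠ ⊥)
    (hno : ∀ A : Subgroup (Cfsg.Sz F m), A ≤ M → (∀ g ∈ M, ∀ x ∈ A, g * x * g⁻¹ ∈ A) →
      (∀ x ∈ A, ∀ y ∈ A, x * y = y * x) → A = ⊥) :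
    ∀ S : Sylow 2 M, ¬ IsCyclic ↥(S : Subgroup M) := by
  intro S hS
  haveI : IsZGroup M := by
    refine ⟨fun p hp P => ?_⟩
    haveI := Fact.mk hp
    by_cases hp2 : p = 2
    · subst hp2
      obtain ⟨c, hc⟩ := MulAction.exists_smul_eq M S P
      rw [← hc, Sylow.coe_subgroup_smul]
      exact isCyclic_of_surjective (Subgroup.equivSMul (MulAut.conj c) (S : Subgroup M)).toMonoidHom
        (Subgroup.equivSMul (MulAut.conj c) (S : Subgroup M)).surjective
    · have h1 : IsPGroup p ((P : Subgroup M).map M.subtype) := P.2.map _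
      haveI := isCyclic_odd_pgroup hm hF hp2 h1
      exact isCyclic_of_surjective
        ((P : Subgroup M).equivMapOfInjective M.subtype M.subtype_injective).symm.toMonoidHom
        ((P : Subgroup M).equivMapOfInjective M.subtype M.subtype_injective).symm.surjective
  haveI : Nontrivial M := (Subgroup.nontrivial_iff_ne_bot M).2 hM
  obtain ⟨n, hn⟩ := Group.IsSolvable.solvable (G := ↥M)
  classical
  have hex : ∃ j, derivedSeries ↥M j = ⊥ := ⟨n, hn⟩
  set d := Nat.find hex with hd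
  have hd0 : d ≠ 0 := fun e => by
    have := Nat.find_spec hex
    rw [← hd, e, derivedSeries_zero] at this
    exact top_ne_bot this
  obtain ⟨j, hj⟩ := Nat.exists_eq_succ_of_ne_zero hd0
  have hne : derivedSeries ↥M j ≠ ⊥ := Nat.find_min hex (by omega)
  have hcomm : ⁅derivedSeries ↥M j, derivedSeries ↥M j⁆ = ⊥ := by
    rw [← derivedSeries_succ, ← Nat.succ_eq_add_one, ← hj]
    exact Nat.find_spec hex
  refine hne (Subgroup.map_eq_bot_iff_of_injective _ M.subtype_injective |>.1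
    (hno _ (Subgroup.map_subtype_le _) ?_ ?_))
  · rintro g hg _ ⟨x, hx, rfl⟩
    exact ⟨_, (derivedSeries_normal ↥M j).conj_mem x hx ⟨g, hg⟩, rfl⟩
  · rintro _ ⟨x, hx, rfl⟩ _ ⟨y, hy, rfl⟩
    exact congrArg Subtype.val ((Subgroup.commutator_eq_bot_iff_le_centralizer.1 hcomm hy x hx) :
      x * y = y * x)

end CfsgLib.Lie.Suz
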