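import Cfsg.Agent.Lib.Lie.Suz.Sub.Solv
import Cfsg.Agent.Lib.Lie.Suz.Twisted

/-!
# Solubilizers in the Suzuki group
-/

set_option autoImplicit false
set_option maxHeartbeats 1600000

namespace CfsgLib.Lie.Suz

open Cfsg
open scoped MatrixGroups Pointwise

variable {F : Type*} [Field F] [Fintype F] {m : ℕ}

/-- the centralisers of given order of elements which are not 2-elements -/
def Tset (F : Type*) [Field F] [Fintype F] (m d : ℕ) : Set (Subgroup (Cfsg.Sz F m)) :=
  {C | ∃ z : Cfsg.Sz F m, ¬ IsTwo z ∧ C = Subgroup.centralizer {z} ∧ Nat.card ↥C = d}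

variable (hm : 1 ≤ m) (hF : Fintype.card F = 2 ^ (2 * m + 1))
include hm hF

omit hm in
/-- the three orders are coprime in pairs -/
theorem tori_coprime' (hm : 1 ≤ m) :
    Nat.Coprime (2 ^ (2 * m + 1) - 1) (2 ^ (2 * m + 1) + 2 ^ (m + 1) + 1) ∧
    Nat.Coprime (2 ^ (2 * m + 1) - 1) (2 ^ (2 * m + 1) - 2 ^ (m + 1) + 1) ∧
    Nat.Coprime (2 ^ (2 * m + 1) + 2 ^ (m + 1) + 1) (2 ^ (2 * m + 1) - 2 ^ (m + 1) + 1) := by
  have hp := tori_prod hF (m := m)
  have h8 := eight_le_q hF hm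
  rw [hF] at h8 hp
  set q := 2 ^ (2 * m + 1) with hq
  set r := 2 ^ (m + 1) with hr
  have h2q : 2 ∣ q := dvd_pow_self 2 (by omega)
  have h2r : 2 ∣ r := dvd_pow_self 2 (by omega)
  have hrq : r ≤ q := Nat.pow_le_pow_right (by norm_num) (by omega)
  have key : ∀ d, d ∣ q ^ 2 + 1 → Nat.Coprime (q - 1) d := by
    intro d hd
    refine Nat.coprime_of_dvd fun p hp' h1 h2 => ?_
    have h3 : p ∣ q ^ 2 - 1 := by
      rw [show q ^ 2 - 1 = q ^ 2 - 1 ^ 2 by simp, Nat.sq_sub_sq]
      exact h1.mul_left _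
    have h4 := Nat.dvd_sub (h2.trans hd) h3
    have h5 : 1 ≤ q ^ 2 := Nat.one_le_pow _ _ (by omega)
    rw [show q ^ 2 + 1 - (q ^ 2 - 1) = 2 by omega] at h4
    obtain rfl := (Nat.prime_dvd_prime_iff_eq hp' Nat.prime_two).1 h4
    omega
  refine ⟨key _ (hp ▸ dvd_mul_right _ _), key _ (hp ▸ dvd_mul_left _ _),
    Nat.coprime_of_dvd fun p hp' h1 h2 => ?_⟩
  have h4 := Nat.dvd_sub h1 h2
  rw [show q + r + 1 - (q - r + 1) = 2 * r by omega, hr, ← pow_succ'] at h4
  obtain rfl := (Nat.prime_dvd_prime_iff_eq hp' Nat.prime_two).1 (hp'.dvd_of_dvd_pow h4)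
  omega

/-- a common divisor above one determines the order -/
theorem card_C_eq {x : Cfsg.Sz F m} (hx : x ≠ 1) {d : ℕ}
    (hd : d ∈ ({2 ^ (2 * m + 1) - 1, 2 ^ (2 * m + 1) + 2 ^ (m + 1) + 1,
        2 ^ (2 * m + 1) - 2 ^ (m + 1) + 1} : Set ℕ)) (ho : orderOf x ∣ d) :
    ¬ IsTwo x ∧ Nat.card ↥(Subgroup.centralizer ({x} : Set (Cfsg.Sz F m))) = d := by
  obtain ⟨hodd, -⟩ := tori_coprime hF hm hd hd
  have hx2 : ¬ IsTwo x := by
    rintro ⟨i, hi⟩
    obtain ⟨j, -, hj⟩ := (Nat.dvd_prime_pow Nat.prime_two).1 (orderOf_dvd_of_pow_eq_one hi)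
    have hj0 : j ≠ 0 := fun e => hx (orderOf_eq_one_iff.1 (by rw [hj, e, pow_zero]))
    exact hodd ((dvd_pow_self 2 hj0).trans (hj ▸ ho))
  refine ⟨hx2, ?_⟩
  have hc := centralizer_card hm hF hx2
  set c := Nat.card ↥(Subgroup.centralizer ({x} : Set (Cfsg.Sz F m)))
  have hoc : orderOf x ∣ c :=
    Subgroup.orderOf_dvd_natCard _ (Subgroup.mem_centralizer_singleton_iff.2 rfl)
  have hne : orderOf x ≠ 1 := fun e => hx (orderOf_eq_one_iff.1 e)
  by_contra hcd
  obtain ⟨h1, h2, h3⟩ := tori_coprime' hF hm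
  simp only [Set.mem_insert_iff, Set.mem_singleton_iff] at hc hd
  have key : ∀ u v, Nat.Coprime u v → orderOf x ∣ u → orderOf x ∣ v → False :=
    fun u v h hu hv => hne (Nat.eq_one_of_dvd_coprimes h hu hv)
  rcases hc with e | e | e <;> rcases hd with e' | e' | e' <;> rw [e] at hoc hcd <;> rw [e'] at ho hcd <;>
    first
    | exact hcd rfl
    | exact key _ _ h1 hoc ho
    | exact key _ _ h1 ho hoc
    | exact key _ _ h2 hoc ho
    | exact key _ _ h2 ho hoc
    | exact key _ _ h3 hoc ho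
    | exact key _ _ h3 ho hoc

theorem free_iff_card {z : Cfsg.Sz F m} (hz : ¬ IsTwo z) :
    Free z ↔ Nat.card ↥(Subgroup.centralizer ({z} : Set (Cfsg.Sz F m))) ≠ 2 ^ (2 * m + 1) - 1 := by
  have h8 := eight_le_q hF hm
  rw [hF] at h8
  constructor
  · intro hf e
    have h1 := torus_card_dvd hm hF (free_centralizer hm hF hf)
    rw [e, ← tori_prod hF (m := m)] at h1
    obtain ⟨c1, c2, -⟩ := tori_coprime' hF hm
    have := Nat.eq_one_of_dvd_coprimes (Nat.Coprime.mul_right c1 c2) dvd_rfl h1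
    omega
  · intro hne
    by_contra hf
    obtain ⟨a, b, hab, ha, hb⟩ := two_fixed_of_not_free hm hF hz hf
    have hx1 : z ≠ 1 := fun h => hz ⟨0, by rw [h, one_pow]⟩
    obtain ⟨c, hc⟩ := centralizer_two_fixed hm hF hx1 hab ha hb
    have h1 := Subgroup.card_le_of_le hc
    rw [Subgroup.card_map_of_injective (MulAut.conj c).injective, card_HSub hF, hF] at h1
    obtain ⟨c1, c2, -⟩ := tori_coprime' hF hm
    have hcc := centralizer_card hm hF hz
    simp only [Set.mem_insert_iff, Set.mem_singleton_iff] at hcc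
    rcases hcc with e | e | e
    · exact hne e
    · have := Nat.one_le_two_pow (n := m)
      have := Nat.one_le_two_pow (n := 2 * m)
      rw [e] at h1
      have : 2 ^ (2 * m + 1) - 1 < 2 ^ (2 * m + 1) + 2 ^ (m + 1) + 1 :=
        lt_of_le_of_lt ((Nat.sub_le _ _).trans (Nat.le_add_right _ _)) (Nat.lt_succ_self _)
      omega
    · -- the smaller torus still is no divisor
      have h2 := Subgroup.card_dvd_of_le hc
      rw [Subgroup.card_map_of_injective (MulAut.conj c).injective, card_HSub hF, hF, e] at h2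
      have := Nat.eq_one_of_dvd_coprimes c2 h2 dvd_rfl
      have h4 := (tori_coprime hF hm (a := 2 ^ (2 * m + 1) - 2 ^ (m + 1) + 1) (b := 2 ^ (2 * m + 1) - 2 ^ (m + 1) + 1)
        (Or.inr (Or.inr rfl)) (Or.inr (Or.inr rfl))).2.1
      omega

/-- the torus class of order `q - 1` is that of `HSub` -/
theorem conj_HSub_of_card {z : Cfsg.Sz F m} (hz : ¬ IsTwo z)
    (h : Nat.card ↥(Subgroup.centralizer ({z} : Set (Cfsg.Sz F m))) = 2 ^ (2 * m + 1) - 1) :
    ∃ c, (HSub hF).map (MulAut.conj c).toMonoidHom = Subgroup.centralizer ({z} : Set (Cfsg.Sz F m)) := by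
  have hf : ¬ Free z := fun hf => (free_iff_card hm hF hz).1 hf h
  obtain ⟨a, b, hab, ha, hb⟩ := two_fixed_of_not_free hm hF hz hf
  obtain ⟨c, hc⟩ := centralizer_two_fixed hm hF (fun e => hz ⟨0, by rw [e, one_pow]⟩) hab ha hb
  refine ⟨c, (Subgroup.eq_of_le_of_card_ge hc ?_).symm⟩
  rw [Subgroup.card_map_of_injective (MulAut.conj c).injective, card_HSub hF, hF, h]

/-- centralisers of the same order are conjugate -/
theorem Tset_conj {d : ℕ} {C C' : Subgroup (Cfsg.Sz F m)} (hC : C ∈ Tset F m d) (hC' : C' ∈ Tset F m d) :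
    ∃ c, C.map (MulAut.conj c).toMonoidHom = C' := by
  obtain ⟨z, hz, rfl, hd⟩ := hC
  obtain ⟨z', hz', rfl, hd'⟩ := hC'
  by_cases hA : d = 2 ^ (2 * m + 1) - 1
  · obtain ⟨c, hc⟩ := conj_HSub_of_card hm hF hz (hd.trans hA)
    obtain ⟨c', hc'⟩ := conj_HSub_of_card hm hF hz' (hd'.trans hA)
    refine ⟨c' * c⁻¹, ?_⟩
    rw [← hc, ← hc', conjMap_conjMap, inv_mul_cancel_right]
  · have hf := (free_iff_card hm hF hz).2 (by rw [hd]; exact hA)
    have hf' := (free_iff_card hm hF hz').2 (by rw [hd']; exact hA)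
    have hne : d ≠ 1 := fun e => hz ⟨0, by
      have h1 : z ∈ Subgroup.centralizer ({z} : Set (Cfsg.Sz F m)) := Subgroup.mem_centralizer_singleton_iff.2 rfl
      rw [Subgroup.eq_bot_of_card_eq _ (hd.trans e), Subgroup.mem_bot] at h1
      rw [h1, one_pow]⟩
    obtain ⟨r, hr, hrd⟩ := Nat.exists_prime_and_dvd hne
    exact torus_conj hm hF (free_centralizer hm hF hf) (free_centralizer hm hF hf') hr (hd ▸ hrd) (hd' ▸ hrd)

theorem conj_Tset {d : ℕ} {C : Subgroup (Cfsg.Sz F m)} (hC : C ∈ Tset F m d) (c : Cfsg.Sz F m) :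
    C.map (MulAut.conj c).toMonoidHom ∈ Tset F m d := by
  obtain ⟨z, hz, rfl, hd⟩ := hC
  refine ⟨c * z * c⁻¹, fun h => hz ?_, (centralizer_conj c z).symm, ?_⟩
  · simpa [mul_assoc] using h.conj c⁻¹
  · rw [Subgroup.card_map_of_injective (MulAut.conj c).injective, hd]

/-- the basic data for the three orders -/
theorem Tset_rep {d : ℕ}
    (hd : d ∈ ({2 ^ (2 * m + 1) - 1, 2 ^ (2 * m + 1) + 2 ^ (m + 1) + 1,
        2 ^ (2 * m + 1) - 2 ^ (m + 1) + 1} : Set ℕ)) :
    ∃ C ∈ Tset F m d, Nat.card ↥(Subgroup.normalizer (C : Set (Cfsg.Sz F m))) =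
      (if d = 2 ^ (2 * m + 1) - 1 then 2 else 4) * d := by
  obtain ⟨c1, c2, -⟩ := tori_coprime' hF hm
  have h8 := eight_le_q hF hm
  rw [hF] at h8
  have hfree : ∀ k, k = 2 ^ (2 * m + 1) + 2 ^ (m + 1) + 1 ∨ k = 2 ^ (2 * m + 1) - 2 ^ (m + 1) + 1 →
      ∃ C ∈ Tset F m k, Nat.card ↥(Subgroup.normalizer (C : Set (Cfsg.Sz F m))) =
        (if k = 2 ^ (2 * m + 1) - 1 then 2 else 4) * k := by
    intro k hk
    have hne : k ≠ 2 ^ (2 * m + 1) - 1 := by
      intro e
      rcases hk with rfl | rfl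
      · have := Nat.eq_one_of_dvd_coprimes c1 dvd_rfl (dvd_of_eq e.symm); omega
      · have := Nat.eq_one_of_dvd_coprimes c2 dvd_rfl (dvd_of_eq e.symm); omega
    obtain ⟨T, hT, hTc, hTN⟩ := exists_tori hm hF hk
    obtain ⟨y, hy, hfree, rfl⟩ := id hT
    refine ⟨_, ⟨y, fun ht => ?_, rfl, hTc⟩, by rw [if_neg hne, hTN]⟩
    obtain ⟨a, ha, -⟩ := two_fix hm hF (g := y) (fun e => by rw [e, orderOf_one] at hy; exact Nat.not_prime_one hy) ht
    exact hfree a ha
  simp only [Set.mem_insert_iff, Set.mem_singleton_iff] at hd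
  rcases hd with rfl | hd | hd
  · classical
    obtain ⟨k, hk⟩ := Fintype.exists_ne_of_one_lt_card (α := Fˣ) (by rw [Fintype.card_units, hF]; omega) 1
    have hkF : InF (2 * m + 1) (k : F) := by unfold InF; rw [← hF, FiniteField.pow_card]
    have hcard : Nat.card ↥(Subgroup.centralizer ({HS hF k} : Set (Cfsg.Sz F m))) = 2 ^ (2 * m + 1) - 1 := by
      have := (nform_top hm hF).card_CM_torus hm hF hk
      rwa [CM, inf_top_eq] at this
    refine ⟨_, ⟨HS hF k, NForm.not_two_HS hF hm hk, rfl, hcard⟩, ?_⟩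
    rw [if_pos rfl]
    have hN : Nat.card ↥(NC (HS hF k : Cfsg.Sz F m)) = 2 * (2 ^ (2 * m + 1) - 1) := by
      have hW : WS hF ∈ NC (HS hF k : Cfsg.Sz F m) := by
        have hwx : WS hF * HS hF k * (WS hF)⁻¹ = (HS hF k : Cfsg.Sz F m)⁻¹ := by
          rw [inv_eq_of_mul_eq_one_right (WS_sq hF), ← HS_inv hF]
          exact Subtype.ext (WHW k)
        have h1 : (Subgroup.centralizer ({HS hF k} : Set (Cfsg.Sz F m))).map (MulAut.conj (WS hF)).toMonoidHom =
            Subgroup.centralizer {HS hF k} := by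
          rw [← centralizer_conj, hwx]
          ext y
          rw [Subgroup.mem_centralizer_singleton_iff, Subgroup.mem_centralizer_singleton_iff]
          exact Commute.inv_right_iff
        refine Subgroup.mem_normalizer_iff.2 fun y => ⟨fun hy => h1 ▸ ⟨y, hy, rfl⟩, fun hy => ?_⟩
        rw [← h1] at hy
        obtain ⟨v, hv, e'⟩ := hy
        exact (MulAut.conj (WS hF)).injective e' ▸ hv
      have hWn : WS hF ∉ Subgroup.centralizer ({HS hF k} : Set (Cfsg.Sz F m)) := by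
        intro hW'
        obtain ⟨l, -, hl⟩ := ((nform_top hm hF).CM_torus hm hF hk _).1
          (Subgroup.mem_inf.2 ⟨hW', Subgroup.mem_top _⟩)
        have := WS_smul_inf hF (m := m)
        rw [hl, HS_smul_inf hF] at this
        exact inf_ne_zero' this
      obtain ⟨j, hj4, hj⟩ := nontwo_normalizer_index hm hF (NForm.not_two_HS hF hm hk)
      have hj' : Nat.card ↥(NC (HS hF k : Cfsg.Sz F m)) =
          j * Nat.card ↥(Subgroup.centralizer ({HS hF k} : Set (Cfsg.Sz F m))) := hj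
      rcases (nform_top hm hF).NM_torus hm hF hk hkF with e | ⟨hle, -⟩
      · rw [NM, CM, inf_top_eq, inf_top_eq] at e
        exact absurd (e ▸ hW) hWn
      · rw [NM, CM, inf_top_eq, inf_top_eq, hcard] at hle
        rw [hj', hcard] at hle ⊢
        have hj2 : j ≤ 2 := Nat.le_of_mul_le_mul_right hle (by omega)
        have hj1 : j ≠ 1 := fun e => by
          subst e
          rw [one_mul] at hj'
          exact hWn ((Subgroup.eq_of_le_of_card_ge (Subgroup.le_normalizer (H := Subgroup.centralizer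
            ({HS hF k} : Set (Cfsg.Sz F m)))) hj'.le) ▸ hW)
        have hj0 : j ≠ 0 := fun e => by rw [e] at hj4; norm_num at hj4
        rw [show j = 2 by omega]
    exact hN
  · exact hd ▸ hfree _ (Or.inl rfl)
  · exact hd ▸ hfree _ (Or.inr rfl)

theorem Tset_normalizer {d : ℕ}
    (hd : d ∈ ({2 ^ (2 * m + 1) - 1, 2 ^ (2 * m + 1) + 2 ^ (m + 1) + 1,
        2 ^ (2 * m + 1) - 2 ^ (m + 1) + 1} : Set ℕ)) {C : Subgroup (Cfsg.Sz F m)} (hC : C ∈ Tset F m d) :
    Nat.card ↥(Subgroup.normalizer (C : Set (Cfsg.Sz F m))) =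
      (if d = 2 ^ (2 * m + 1) - 1 then 2 else 4) * d := by
  obtain ⟨C0, hC0, h0⟩ := Tset_rep hm hF hd
  obtain ⟨c, rfl⟩ := Tset_conj hm hF hC0 hC
  rw [← h0, ← Subgroup.map_normalizer_eq_of_bijective C0 (f := (MulAut.conj c).toMonoidHom)
    (MulAut.conj c).bijective, Subgroup.card_map_of_injective (MulAut.conj c).injective]

/-- the number of conjugates -/
theorem card_Tset {d : ℕ}
    (hd : d ∈ ({2 ^ (2 * m + 1) - 1, 2 ^ (2 * m + 1) + 2 ^ (m + 1) + 1,
        2 ^ (2 * m + 1) - 2 ^ (m + 1) + 1} : Set ℕ)) :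
    Nat.card (Tset F m d) * ((if d = 2 ^ (2 * m + 1) - 1 then 2 else 4) * d) = Nat.card (Cfsg.Sz F m) := by
  classical
  haveI : Fintype (Cfsg.Sz F m) := Fintype.ofFinite _
  haveI : Fintype (Subgroup (Cfsg.Sz F m)) := Fintype.ofFinite _
  obtain ⟨C0, hC0, h0⟩ := Tset_rep hm hF hd
  rw [← h0]
  have h1 := Finset.card_eq_sum_card_fiberwise (s := (Finset.univ : Finset (Cfsg.Sz F m)))
    (t := (Tset F m d).toFinset) (f := fun c => C0.map (MulAut.conj c).toMonoidHom)
    (fun c _ => Set.mem_toFinset.2 (conj_Tset hm hF hC0 c))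
  rw [Finset.sum_congr rfl (g := fun _ => Nat.card ↥(Subgroup.normalizer (C0 : Set (Cfsg.Sz F m)))),
    Finset.sum_const, smul_eq_mul, Finset.card_univ, Set.toFinset_card, ← Nat.card_eq_fintype_card,
    ← Nat.card_eq_fintype_card] at h1
  · exact h1.symm
  intro C hC
  obtain ⟨c0, rfl⟩ := Tset_conj hm hF hC0 (Set.mem_toFinset.1 hC)
  rw [Nat.card_eq_fintype_card, Fintype.card_subtype]
  refine Finset.card_bij' (fun c _ => c0⁻¹ * c) (fun n _ => c0 * n) ?_ ?_ ?_ ?_
  · intro c hc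
    simp only [Finset.mem_filter, Finset.mem_univ, true_and] at hc ⊢
    have h2 : C0.map (MulAut.conj (c0⁻¹ * c)).toMonoidHom = C0 := by
      rw [← conjMap_conjMap, hc, conjMap_conjMap, inv_mul_cancel, map_one]
      ext g; simp [Subgroup.mem_map]
    refine Subgroup.mem_normalizer_iff.2 fun y => ⟨fun hy => h2 ▸ ⟨y, hy, rfl⟩, fun hy => ?_⟩
    rw [← h2] at hy
    obtain ⟨v, hv, e'⟩ := hy
    exact (MulAut.conj (c0⁻¹ * c)).injective e' ▸ hv
  · intro n hn
    simp only [Finset.mem_filter, Finset.mem_univ, true_and] at hn ⊢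
    rw [← conjMap_conjMap]
    congr 1
    ext y
    rw [mem_conjMap]
    have := Subgroup.mem_normalizer_iff.1 (inv_mem hn) y
    rw [inv_inv] at this
    exact this.symm
  · intro c _; exact mul_inv_cancel_left _ _
  · intro n _; exact inv_mul_cancel_left _ _

theorem orderOf_two_or_four {z g : Cfsg.Sz F m} (hz : ¬ IsTwo z) (hg : g ∈ NC z) (hg2 : IsTwo g)
    (hg1 : g ≠ 1) : orderOf g = 2 ∨ orderOf g = 4 := by
  have h := orderOf_dvd_of_pow_eq_one (four_of_two hm hF hz hg hg2)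
  have h4 : orderOf g ≤ 4 := Nat.le_of_dvd (by norm_num) h
  have h1 : orderOf g ≠ 1 := fun e => hg1 (orderOf_eq_one_iff.1 e)
  have h0 := orderOf_pos g
  rcases (show orderOf g = 2 ∨ orderOf g = 3 ∨ orderOf g = 4 by omega) with e | e | e
  · exact Or.inl e
  · rw [e] at h; norm_num at h
  · exact Or.inr e

/-- the involutions and the elements of order four of a normaliser -/
theorem NC_counts {z : Cfsg.Sz F m} (hz : ¬ IsTwo z) {f : ℕ}
    (hf : Nat.card ↥(NC z) = f * Nat.card ↥(Subgroup.centralizer ({z} : Set (Cfsg.Sz F m))))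
    (hf2 : f = 2 ∨ f = 4) :
    Nat.card {g : Cfsg.Sz F m // g ∈ NC z ∧ orderOf g = 2} = Nat.card ↥(Subgroup.centralizer ({z} : Set (Cfsg.Sz F m))) ∧
    Nat.card {g : Cfsg.Sz F m // g ∈ NC z ∧ orderOf g = 4} =
      (f - 2) * Nat.card ↥(Subgroup.centralizer ({z} : Set (Cfsg.Sz F m))) := by
  classical
  haveI : Fintype (Cfsg.Sz F m) := Fintype.ofFinite _
  set C := Subgroup.centralizer ({z} : Set (Cfsg.Sz F m)) with hCdef
  set d := Nat.card ↥C with hddef
  have hCM : CM (⊤ : Subgroup (Cfsg.Sz F m)) z = C := inf_top_eq _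
  have hNM : NM (⊤ : Subgroup (Cfsg.Sz F m)) z = NC z := inf_top_eq _
  have hinvN : ∀ g : Cfsg.Sz F m, g * z * g⁻¹ = z⁻¹ → g ∈ NC z := by
    intro g hg
    have h1 : C.map (MulAut.conj g).toMonoidHom = C := by
      rw [hCdef, ← centralizer_conj, hg]
      ext y
      rw [Subgroup.mem_centralizer_singleton_iff, Subgroup.mem_centralizer_singleton_iff]
      exact Commute.inv_right_iff
    refine Subgroup.mem_normalizer_iff.2 fun y => ⟨fun hy => ?_, fun hy => ?_⟩
    · rw [← hCdef, ← h1]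
      exact ⟨y, hy, rfl⟩
    rw [← hCdef, ← h1] at hy
    obtain ⟨v, hv, e'⟩ := hy
    exact (MulAut.conj g).injective e' ▸ hv
  have h2 : Nat.card {g : Cfsg.Sz F m // g ∈ NC z ∧ orderOf g = 2} = d := by
    have := card_inverting hm hF (M := ⊤) (Subgroup.mem_top z) hz (f := f) (by rw [hCM, hNM]; exact hf)
    rw [hCM, if_pos (by rcases hf2 with rfl | rfl <;> norm_num)] at this
    refine Eq.trans ?_ this
    rw [Nat.card_eq_fintype_card, Fintype.card_subtype]
    congr 1
    ext g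
    simp only [Finset.mem_filter, Finset.mem_univ, true_and, Subgroup.mem_top]
    exact ⟨fun h => ⟨h.2, invol_inverts hm hF hz h.1 h.2 z (Subgroup.mem_centralizer_singleton_iff.2 rfl)⟩,
      fun h => ⟨hinvN g h.2, h.1⟩⟩
  refine ⟨h2, ?_⟩
  have hA : (Finset.univ.filter fun g : Cfsg.Sz F m => g ∈ NC z) =
      (Finset.univ.filter fun g : Cfsg.Sz F m => g ∈ C) ∪
        ((Finset.univ.filter fun g : Cfsg.Sz F m => g ∈ NC z ∧ orderOf g = 2) ∪
          (Finset.univ.filter fun g : Cfsg.Sz F m => g ∈ NC z ∧ orderOf g = 4)) := by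
    ext g
    simp only [Finset.mem_filter, Finset.mem_univ, true_and, Finset.mem_union]
    constructor
    · intro hg
      by_cases hgt : IsTwo g
      · by_cases hg1 : g = 1
        · exact Or.inl (hg1 ▸ one_mem _)
        · rcases orderOf_two_or_four hm hF hz hg hgt hg1 with e | e
          exacts [Or.inr (Or.inl ⟨hg, e⟩), Or.inr (Or.inr ⟨hg, e⟩)]
      · exact Or.inl (mem_C_of_nontwo hm hF hz hg hgt)
    · rintro (hg | ⟨hg, -⟩ | ⟨hg, -⟩)
      exacts [Subgroup.le_normalizer hg, hg, hg]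
  have hdis : ∀ g ∈ C, orderOf g ≠ 2 ∧ orderOf g ≠ 4 := by
    intro g hg
    have h := Subgroup.orderOf_dvd_natCard _ hg
    have hodd := odd_centralizer hm hF hz
    exact ⟨fun e => hodd ((dvd_of_eq e.symm).trans h),
      fun e => hodd ((show 2 ∣ 4 by norm_num).trans ((dvd_of_eq e.symm).trans h))⟩
  have h3 := congrArg Finset.card hA
  rw [Finset.card_union_of_disjoint, Finset.card_union_of_disjoint] at h3
  · simp only [← Fintype.card_subtype, ← Nat.card_eq_fintype_card] at h3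
    rw [hf, h2] at h3
    have h4 : f * d = d + (d + Nat.card {g : Cfsg.Sz F m // g ∈ NC z ∧ orderOf g = 4}) := h3
    rcases hf2 with rfl | rfl <;> omega
  · rw [Finset.disjoint_left]
    intro g hg hg'
    simp only [Finset.mem_filter, Finset.mem_univ, true_and] at hg hg'
    omega
  · rw [Finset.disjoint_left]
    intro g hg hg'
    simp only [Finset.mem_filter, Finset.mem_univ, true_and, Finset.mem_union] at hg hg'
    rcases hg' with ⟨-, e⟩ | ⟨-, e⟩
    exacts [(hdis g hg).1 e, (hdis g hg).2 e]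

omit hm in
theorem involution_power {x : Cfsg.Sz F m} (hx : orderOf x = 2 ∨ orderOf x = 4) :
    ∃ i, orderOf (x ^ i) = 2 := by
  rcases hx with e | e
  · exact ⟨1, by rw [pow_one, e]⟩
  · exact ⟨2, by rw [orderOf_pow' _ two_ne_zero, e]; rfl⟩

omit hm in
theorem isTwo_of_order {x : Cfsg.Sz F m} (hx : orderOf x = 2 ∨ orderOf x = 4) : IsTwo x ∧ x ≠ 1 := by
  refine ⟨⟨2, orderOf_dvd_iff_pow_eq_one.1 ?_⟩, fun e => ?_⟩
  · rcases hx with e | e <;> rw [e] <;> norm_num
  · rw [e, orderOf_one] at hx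
    omega

/-- the elements of a normaliser fixing the fixed point of one of its 2-elements -/
theorem card_NC_stab {z x : Cfsg.Sz F m} {a : suzukiOvoid F m} (hz : ¬ IsTwo z) {f : ℕ}
    (hf : Nat.card ↥(NC z) = f * Nat.card ↥(Subgroup.centralizer ({z} : Set (Cfsg.Sz F m))))
    (hf2 : f = 2 ∨ f = 4) (hxN : x ∈ NC z) (hx : orderOf x = 2 ∨ orderOf x = 4) (ha : x • a = a) :
    Nat.card {g : Cfsg.Sz F m // g ∈ NC z ∧ g • a = a} = f := by
  classical
  haveI : Fintype (Cfsg.Sz F m) := Fintype.ofFinite _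
  obtain ⟨hxt, hx1⟩ := isTwo_of_order hF hx
  set C := Subgroup.centralizer ({z} : Set (Cfsg.Sz F m)) with hCdef
  haveI : (C.subgroupOf (NC z)).Normal := Subgroup.normal_in_normalizer
  refine le_antisymm ?_ ?_
  · have hidx : (C.subgroupOf (NC z)).index = f := by
      have h1 := (C.subgroupOf (NC z)).card_mul_index
      rw [Nat.card_congr (Subgroup.subgroupOfEquivOfLe (Subgroup.le_normalizer (H := C))).toEquiv, hf,
        mul_comm f] at h1
      exact Nat.eq_of_mul_eq_mul_left Nat.card_pos h1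
    rw [← hidx, Subgroup.index_eq_card]
    refine Nat.card_le_card_of_injective
      (fun g => (QuotientGroup.mk ⟨g.1, g.2.1⟩ : ↥(NC z) ⧸ C.subgroupOf (NC z))) fun g g' e => ?_
    have h0 := QuotientGroup.eq.1 (id e :
      (QuotientGroup.mk (⟨g.1, g.2.1⟩ : ↥(NC z)) : ↥(NC z) ⧸ C.subgroupOf (NC z)) = QuotientGroup.mk ⟨g'.1, g'.2.1⟩)
    have h1 : (g.1)⁻¹ * g'.1 ∈ C := h0
    have h2 : ((g.1)⁻¹ * g'.1) • a = a := by rw [mul_smul, g'.2.2, inv_smul_eq_iff, g.2.2]
    exact Subtype.ext (inv_mul_eq_one.1 (two_NC_fix hm hF hz hxN hx1 hxt ha h1 h2))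
  · rcases hf2 with rfl | rfl
    · have : Nat.card (Fin 2) ≤ Nat.card {g : Cfsg.Sz F m // g ∈ NC z ∧ g • a = a} :=
        Nat.card_le_card_of_injective
          (![⟨1, one_mem _, one_smul _ _⟩, ⟨x, hxN, ha⟩] : Fin 2 → {g : Cfsg.Sz F m // g ∈ NC z ∧ g • a = a})
          (by intro i j; fin_cases i <;> fin_cases j <;> simp [Subtype.ext_iff, hx1, hx1.symm])
      simpa using this
    · rcases hx with ho | ho
      · -- the centraliser of the involution inside the normaliser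
        obtain ⟨hinv, -⟩ := NC_counts hm hF hz hf (Or.inr rfl)
        set N := NC z
        set X : N := ⟨x, hxN⟩
        let φ : N → {g : Cfsg.Sz F m // g ∈ N ∧ orderOf g = 2} := fun g =>
          ⟨g * x * (g : Cfsg.Sz F m)⁻¹, mul_mem (mul_mem g.2 hxN) (inv_mem g.2),
            ((orderOf_injective (MulAut.conj (g : Cfsg.Sz F m)).toMonoidHom (MulAut.conj (g : Cfsg.Sz F m)).injective x) :).trans ho⟩
        obtain ⟨p, hp, hpu⟩ := two_fix hm hF hx1 hxt
        have hle : (Finset.univ : Finset N).card ≤ Nat.card {g : Cfsg.Sz F m // g ∈ N ∧ g • a = a} *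
            (Finset.univ.image φ).card := by
          refine Finset.card_le_mul_card_image _ _ fun u hu => ?_
          obtain ⟨g₀, -, rfl⟩ := Finset.mem_image.1 hu
          rw [Nat.card_eq_fintype_card, ← Finset.card_univ]
          refine Finset.card_le_card_of_injOn (fun g => if h : φ g = φ g₀ then
            ⟨(g₀ : Cfsg.Sz F m)⁻¹ * g, mul_mem (inv_mem g₀.2) g.2, ?_⟩ else ⟨1, one_mem _, one_smul _ _⟩) ?_ ?_
          · have e : (g : Cfsg.Sz F m) * x * (g : Cfsg.Sz F m)⁻¹ = g₀ * x * (g₀ : Cfsg.Sz F m)⁻¹ :=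
              congrArg Subtype.val h
            have hc : ((g₀ : Cfsg.Sz F m)⁻¹ * g) * x = x * ((g₀ : Cfsg.Sz F m)⁻¹ * g) := by
              calc ((g₀ : Cfsg.Sz F m)⁻¹ * g) * x = (g₀ : Cfsg.Sz F m)⁻¹ * (g * x * (g : Cfsg.Sz F m)⁻¹) * g := by group
                _ = _ := by rw [e]; group
            exact (hpu _ (centralizer_maps_fixed hF hc ha)).trans (hpu _ ha).symm
          · intro g _; exact Finset.mem_univ _
          · intro g hg g' hg' e
            simp only [Finset.coe_filter, Set.mem_setOf_eq, Finset.mem_univ, true_and] at hg hg'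
            simp only [hg, hg', dite_true, Subtype.mk.injEq] at e
            exact Subtype.ext (mul_left_cancel e)
        have h2 : (Finset.univ.image φ).card ≤ Nat.card {g : Cfsg.Sz F m // g ∈ N ∧ orderOf g = 2} := by
          rw [Nat.card_eq_fintype_card]; exact Finset.card_le_univ _
        rw [Finset.card_univ, ← Nat.card_eq_fintype_card, hf] at hle
        rw [hinv] at h2
        have hd0 : 0 < Nat.card ↥C := Nat.card_pos
        exact Nat.le_of_mul_le_mul_right (hle.trans (Nat.mul_le_mul_left _ h2)) hd0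
      · have : Nat.card ↥(Subgroup.zpowers x) ≤ Nat.card {g : Cfsg.Sz F m // g ∈ NC z ∧ g • a = a} := by
          refine Nat.card_le_card_of_injective (fun g => ⟨g.1, (Subgroup.zpowers_le.2 hxN) g.2,
            (Subgroup.zpowers_le.2 (show x ∈ MulAction.stabilizer (Cfsg.Sz F m) a from ha)) g.2⟩) fun g g' e => ?_
          exact Subtype.ext (congrArg Subtype.val e :)
        rwa [Nat.card_zpowers, ho] at this

/-- an element of order four is conjugate to any other or to its inverse -/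
theorem conj_order_four {x y : Cfsg.Sz F m} (hx : orderOf x = 4) (hy : orderOf y = 4) :
    ∃ g, g * x * g⁻¹ = y ∨ g * x * g⁻¹ = y⁻¹ := by
  classical
  have hS := isSuzField hF
  haveI := trans_ovoid hF (m := m)
  have norm : ∀ z : Cfsg.Sz F m, orderOf z = 4 → ∃ c b, c * z * c⁻¹ = TS hF 1 b := by
    intro z hz
    obtain ⟨hzt, hz1⟩ := isTwo_of_order hF (Or.inr hz)
    obtain ⟨p, hp, -⟩ := two_fix hm hF hz1 hzt
    obtain ⟨c, hc⟩ := MulAction.exists_smul_eq (Cfsg.Sz F m) p (oInf F m)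
    obtain ⟨a, b, hab⟩ := mem_U_of_two hm hF (hzt.conj c)
      (show (c * z * c⁻¹) • oInf F m = oInf F m by rw [mul_smul, mul_smul, ← hc, inv_smul_smul, hp])
    have e : c * z * c⁻¹ = TS hF a b := Subtype.ext hab
    have ha : a ≠ 0 := by
      rintro rfl
      have h2 : (c * z * c⁻¹) ^ 2 = 1 := by rw [e, sq, TS_sq' hF, mul_zero, TS_zero' hF]
      rw [conj_pow, conj_eq_one_iff] at h2
      have := orderOf_dvd_of_pow_eq_one h2
      rw [hz] at this
      norm_num at this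
    refine ⟨HS hF (Units.mk0 a ha)⁻¹ * c, th m ((Units.mk0 a ha)⁻¹ : Fˣ).val * ((Units.mk0 a ha)⁻¹ : Fˣ).val * b, ?_⟩
    rw [_root_.mul_inv_rev, show HS hF (Units.mk0 a ha)⁻¹ * c * z * (c⁻¹ * (HS hF (Units.mk0 a ha)⁻¹)⁻¹) =
      HS hF (Units.mk0 a ha)⁻¹ * (c * z * c⁻¹) * (HS hF (Units.mk0 a ha)⁻¹)⁻¹ by group, e, H_conj_T hF]
    congr 1
    simp [ha]
  obtain ⟨c, b, hc⟩ := norm x hx
  obtain ⟨c', b', hc'⟩ := norm y hy
  set S := Finset.univ.image fun u : F => th m u + u with hSdef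
  have hker : ∀ u : F, th m u + u = 0 → u = 0 ∨ u = 1 := by
    intro u hu
    have h1 : th m u = u := by rw [eq_neg_of_add_eq_zero_left hu, neg_eq hS]
    have h2 := congrArg (th m) h1
    rw [th_th hS, h1] at h2
    rcases mul_eq_zero.1 (show u * (u - 1) = 0 by linear_combination h2) with h0 | h0
    exacts [Or.inl h0, Or.inr (sub_eq_zero.1 h0)]
  have hnot : ∀ u : F, th m u + u ≠ 1 := by
    intro u hu
    have h1 : th m u = 1 + u := by
      calc th m u = th m u + u + u := by rw [add_assoc, add_self hS, add_zero]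
        _ = _ := by rw [hu]
    have h2 := congrArg (th m) h1
    rw [th_th hS, th_add hS, th_one hS, h1, ← add_assoc, add_self hS, zero_add] at h2
    rcases mul_eq_zero.1 (show u * (u - 1) = 0 by linear_combination h2) with h0 | h0
    · rw [h0, th_zero hS, add_zero] at hu; exact zero_ne_one hu
    · rw [sub_eq_zero.1 h0, th_one hS, add_self hS] at hu; exact zero_ne_one hu
  have hS2 : Fintype.card F ≤ 2 * S.card := by
    rw [← Finset.card_univ]
    refine (Finset.card_le_mul_card_image Finset.univ 2 fun v hv => ?_)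
    obtain ⟨u, -, rfl⟩ := Finset.mem_image.1 hv
    refine le_trans (Finset.card_le_card (t := {u, u + 1}) fun w hw => ?_) Finset.card_le_two
    simp only [Finset.mem_filter, Finset.mem_univ, true_and] at hw
    rcases hker (w + u) (by rw [th_add hS, add_add_add_comm, hw, add_self hS]) with e | e
    · simp [show w = u by rw [← add_zero w, ← add_self hS u, ← add_assoc, e, zero_add]]
    · simp [show w = u + 1 by rw [← e, add_comm w u, ← add_assoc, add_self hS, zero_add]]
  have hcov : ∀ v : F, v ∈ S ∨ v + 1 ∈ S := by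
    intro v
    by_contra hv
    push Not at hv
    have hd : Disjoint S (S.image (· + 1)) := by
      rw [Finset.disjoint_left]
      intro w hw hw'
      obtain ⟨u, -, rfl⟩ := Finset.mem_image.1 hw
      obtain ⟨w', hw', e⟩ := Finset.mem_image.1 hw'
      obtain ⟨u', -, rfl⟩ := Finset.mem_image.1 hw'
      exact hnot (u + u') (by
        rw [th_add hS, add_add_add_comm, ← e, add_comm (th m u' + u') 1, add_assoc, add_self hS, add_zero])
    have hsub : S ∪ S.image (· + 1) ⊆ Finset.univ.erase v := by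
      intro w hw
      refine Finset.mem_erase.2 ⟨?_, Finset.mem_univ _⟩
      rintro rfl
      rcases Finset.mem_union.1 hw with h0 | h0
      · exact hv.1 h0
      · obtain ⟨w', hw', e⟩ := Finset.mem_image.1 h0
        exact hv.2 (by rw [← e, add_assoc, add_self hS, add_zero]; exact hw')
    have := Finset.card_le_card hsub
    rw [Finset.card_union_of_disjoint hd, Finset.card_image_of_injective _ (add_left_injective 1),
      Finset.card_erase_of_mem (Finset.mem_univ _), Finset.card_univ] at this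
    have := Fintype.card_pos (α := F)
    omega
  have hconj : ∀ u : F, (TS hF u 0 : Cfsg.Sz F m) * TS hF 1 b * (TS hF u 0)⁻¹ = TS hF 1 (b + (th m u + u)) := by
    intro u
    rw [mul_inv_eq_iff_eq_mul, TS_mul' hF, TS_mul' hF, th_one hS]
    have h2 := two_eq_zero hS
    congr 1 <;> first | linear_combination (-u) * h2 | ring
  have hfin : ∀ v, (∃ u, th m u + u = b + v) → ∃ g, g * x * g⁻¹ = c'⁻¹ * TS hF 1 v * c' := by
    rintro v ⟨u, hu⟩
    refine ⟨c'⁻¹ * TS hF u 0 * c, ?_⟩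
    calc c'⁻¹ * TS hF u 0 * c * x * (c'⁻¹ * TS hF u 0 * c)⁻¹
        = c'⁻¹ * (TS hF u 0 * (c * x * c⁻¹) * (TS hF u 0)⁻¹) * c' := by group
      _ = _ := by rw [hc, hconj, hu, ← add_assoc, add_self hS, zero_add]
  rcases hcov (b + b') with h | h <;> obtain ⟨u, -, hu⟩ := Finset.mem_image.1 h
  · obtain ⟨g, hg⟩ := hfin b' ⟨u, hu⟩
    exact ⟨g, Or.inl (by rw [hg, ← hc']; group)⟩
  · obtain ⟨g, hg⟩ := hfin (b' + 1) ⟨u, by rw [hu, add_assoc]⟩
    refine ⟨g, Or.inr ?_⟩
    have : (c' * y * c'⁻¹)⁻¹ = TS hF 1 (b' + 1) := by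
      rw [hc', TS_inv' hF, th_one hS, one_mul]
    rw [hg, ← this]
    group

/-- the number of normalisers of given type through a 2-element -/
theorem count_through {d ν : ℕ}
    (hd : d ∈ ({2 ^ (2 * m + 1) - 1, 2 ^ (2 * m + 1) + 2 ^ (m + 1) + 1,
        2 ^ (2 * m + 1) - 2 ^ (m + 1) + 1} : Set ℕ))
    {o : ℕ} (ho : o = 2 ∨ o = 4)
    (hν : ∀ z : Cfsg.Sz F m, ¬ IsTwo z → Subgroup.centralizer ({z} : Set (Cfsg.Sz F m)) ∈ Tset F m d →
      Nat.card {g : Cfsg.Sz F m // g ∈ NC z ∧ orderOf g = o} = ν)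
    {x : Cfsg.Sz F m} (hx : orderOf x = o) :
    Nat.card {C : Subgroup (Cfsg.Sz F m) // C ∈ Tset F m d ∧ x ∈ Subgroup.normalizer (C : Set (Cfsg.Sz F m))} *
      Nat.card {g : Cfsg.Sz F m // orderOf g = o} = Nat.card (Tset F m d) * ν := by
  classical
  haveI : Fintype (Cfsg.Sz F m) := Fintype.ofFinite _
  haveI : Fintype (Subgroup (Cfsg.Sz F m)) := Fintype.ofFinite _
  set X := Finset.univ.filter fun g : Cfsg.Sz F m => orderOf g = o with hXdef
  set Ts := (Tset F m d).toFinset with hTdef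
  have hnc : ∀ (C : Subgroup (Cfsg.Sz F m)) (g y : Cfsg.Sz F m),
      g * y * g⁻¹ ∈ Subgroup.normalizer ((C.map (MulAut.conj g).toMonoidHom : Subgroup (Cfsg.Sz F m)) : Set (Cfsg.Sz F m)) ↔
        y ∈ Subgroup.normalizer (C : Set (Cfsg.Sz F m)) := by
    intro C g y
    rw [← Subgroup.map_normalizer_eq_of_bijective C (f := (MulAut.conj g).toMonoidHom)
      (MulAut.conj g).bijective, mem_conjMap]
    rw [show g⁻¹ * (g * y * g⁻¹) * g = y by group]
  have hinv : ∀ y y' : Cfsg.Sz F m, (∃ g, g * y * g⁻¹ = y' ∨ g * y * g⁻¹ = y'⁻¹) →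
      (Ts.filter fun C => y ∈ Subgroup.normalizer ((C : Subgroup (Cfsg.Sz F m)) : Set (Cfsg.Sz F m))).card =
      (Ts.filter fun C => y' ∈ Subgroup.normalizer ((C : Subgroup (Cfsg.Sz F m)) : Set (Cfsg.Sz F m))).card := by
    rintro y y' ⟨g, hg⟩
    have key : ∀ C : Subgroup (Cfsg.Sz F m), y' ∈ Subgroup.normalizer ((C.map (MulAut.conj g).toMonoidHom : Subgroup (Cfsg.Sz F m)) : Set (Cfsg.Sz F m)) ↔
        y ∈ Subgroup.normalizer (C : Set (Cfsg.Sz F m)) := by
      intro C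
      rw [← hnc C g y]
      rcases hg with e | e <;> rw [e]
      exact inv_mem_iff.symm
    have hid : ∀ C : Subgroup (Cfsg.Sz F m),
        (C.map (MulAut.conj g⁻¹).toMonoidHom).map (MulAut.conj g).toMonoidHom = C := by
      intro C
      rw [conjMap_conjMap, mul_inv_cancel, map_one]
      ext v; simp [Subgroup.mem_map]
    refine Finset.card_bij' (fun C _ => C.map (MulAut.conj g).toMonoidHom)
      (fun C _ => C.map (MulAut.conj g⁻¹).toMonoidHom) ?_ ?_ ?_ ?_
    · intro C hC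
      simp only [hTdef, Finset.mem_filter, Set.mem_toFinset] at hC ⊢
      exact ⟨conj_Tset hm hF hC.1 g, (key C).2 hC.2⟩
    · intro C hC
      simp only [hTdef, Finset.mem_filter, Set.mem_toFinset] at hC ⊢
      refine ⟨conj_Tset hm hF hC.1 g⁻¹, (key _).1 ?_⟩
      rw [hid]; exact hC.2
    · intro C _
      rw [conjMap_conjMap, inv_mul_cancel, map_one]
      ext v; simp [Subgroup.mem_map]
    · intro C _; exact hid C
  have h1 := Finset.sum_card_bipartiteAbove_eq_sum_card_bipartiteBelow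
    (fun (y : Cfsg.Sz F m) (C : Subgroup (Cfsg.Sz F m)) => y ∈ Subgroup.normalizer (C : Set (Cfsg.Sz F m)))
    (s := X) (t := Ts)
  simp only [Finset.bipartiteAbove, Finset.bipartiteBelow] at h1
  rw [Finset.sum_congr rfl (g := fun _ => (Ts.filter fun C =>
      x ∈ Subgroup.normalizer ((C : Subgroup (Cfsg.Sz F m)) : Set (Cfsg.Sz F m))).card) (fun y hy => hinv y x ?_),
    Finset.sum_const, smul_eq_mul, Finset.sum_congr rfl (g := fun _ => ν), Finset.sum_const, smul_eq_mul] at h1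
  · rw [mul_comm, Nat.card_eq_fintype_card, Nat.card_eq_fintype_card, Nat.card_eq_fintype_card,
      Fintype.card_subtype, Fintype.card_subtype, ← Set.toFinset_card, ← h1]
    congr 2
    ext C
    simp [hTdef]
  · intro C hC
    obtain ⟨z, hz, rfl, hzd⟩ := Set.mem_toFinset.1 hC
    rw [← hν z hz ⟨z, hz, rfl, hzd⟩, Nat.card_eq_fintype_card, Fintype.card_subtype]
    congr 1
    ext g
    simp [hXdef, and_comm]
  · simp only [hXdef, Finset.mem_filter, Finset.mem_univ, true_and] at hy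
    rcases ho with rfl | rfl
    · obtain ⟨g, hg⟩ := conj_invol hm hF hy hx
      exact ⟨g, Or.inl hg⟩
    · exact conj_order_four hm hF hy hx

theorem card_stab (a : suzukiOvoid F m) :
    Nat.card {g : Cfsg.Sz F m // g • a = a} = Fintype.card F ^ 2 * (Fintype.card F - 1) := by
  haveI := trans_ovoid hF (m := m)
  obtain ⟨c, hc⟩ := MulAction.exists_smul_eq (Cfsg.Sz F m) a (oInf F m)
  rw [← card_stab_inf hm hF]
  refine Nat.card_congr ((Equiv.subtypeEquiv (MulAut.conj c).toEquiv fun g => ?_))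
  rw [← smul_inf_iff]
  show g • a = a ↔ (c * g * c⁻¹) • oInf F m = oInf F m
  rw [← hc, mul_smul, mul_smul, inv_smul_smul, smul_left_cancel_iff]

theorem closure_iff_two (hp : (2 * m + 1).Prime) {x : Cfsg.Sz F m} (hx : orderOf x = 2 ∨ orderOf x = 4)
    {a : suzukiOvoid F m} (ha : x • a = a) (y : Cfsg.Sz F m) :
    Group.IsSolvable ↥(Subgroup.closure ({x, y} : Set (Cfsg.Sz F m))) ↔
      y • a = a ∨ ∃ z : Cfsg.Sz F m, ¬ IsTwo z ∧ x ∈ NC z ∧ y ∈ NC z := by
  obtain ⟨hxt, hx1⟩ := isTwo_of_order hF hx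
  rw [solvable_pair_iff hm hF hp]
  refine or_congr ⟨?_, fun h => ⟨a, ha, h⟩⟩ Iff.rfl
  rintro ⟨b, hb, hyb⟩
  obtain ⟨p, -, hp⟩ := two_fix hm hF hx1 hxt
  rwa [(hp _ ha).trans (hp _ hb).symm]

/-- the solubilizer of a 2-element -/
theorem sol_two (hp : (2 * m + 1).Prime) {x : Cfsg.Sz F m} (hx : orderOf x = 2 ∨ orderOf x = 4) :
    Nat.card {y : Cfsg.Sz F m // Group.IsSolvable ↥(Subgroup.closure ({x, y} : Set (Cfsg.Sz F m)))} =
      Fintype.card F ^ 2 * (Fintype.card F - 1) +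
      Nat.card {C : Subgroup (Cfsg.Sz F m) // C ∈ Tset F m (2 ^ (2 * m + 1) - 1) ∧
        x ∈ Subgroup.normalizer (C : Set (Cfsg.Sz F m))} * (2 * ((2 ^ (2 * m + 1) - 1) - 1)) +
      Nat.card {C : Subgroup (Cfsg.Sz F m) // C ∈ Tset F m (2 ^ (2 * m + 1) + 2 ^ (m + 1) + 1) ∧
        x ∈ Subgroup.normalizer (C : Set (Cfsg.Sz F m))} * (4 * ((2 ^ (2 * m + 1) + 2 ^ (m + 1) + 1) - 1)) +
      Nat.card {C : Subgroup (Cfsg.Sz F m) // C ∈ Tset F m (2 ^ (2 * m + 1) - 2 ^ (m + 1) + 1) ∧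
        x ∈ Subgroup.normalizer (C : Set (Cfsg.Sz F m))} * (4 * ((2 ^ (2 * m + 1) - 2 ^ (m + 1) + 1) - 1)) := by
  classical
  haveI : Fintype (Cfsg.Sz F m) := Fintype.ofFinite _
  haveI : Fintype (Subgroup (Cfsg.Sz F m)) := Fintype.ofFinite _
  obtain ⟨hxt, hx1⟩ := isTwo_of_order hF hx
  obtain ⟨a, ha, hau⟩ := two_fix hm hF hx1 hxt
  set A := Finset.univ.filter fun y : Cfsg.Sz F m => y • a = a with hAdef
  set Ts := fun d => Finset.univ.filter fun C : Subgroup (Cfsg.Sz F m) =>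
    C ∈ Tset F m d ∧ x ∈ Subgroup.normalizer (C : Set (Cfsg.Sz F m)) with hTsdef
  set W := fun C : Subgroup (Cfsg.Sz F m) => Finset.univ.filter fun y : Cfsg.Sz F m =>
    y ∈ Subgroup.normalizer (C : Set (Cfsg.Sz F m)) ∧ y • a ≠ a with hWdef
  obtain ⟨c1, c2, c3⟩ := tori_coprime' hF hm
  set dA := 2 ^ (2 * m + 1) - 1 with hdA
  set dP := 2 ^ (2 * m + 1) + 2 ^ (m + 1) + 1 with hdP
  set dM := 2 ^ (2 * m + 1) - 2 ^ (m + 1) + 1 with hdM
  have hgt : ∀ d ∈ ({dA, dP, dM} : Set ℕ), 1 < d := fun d hd => (tori_coprime hF hm hd hd).2.1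
  have hne1 : dA ≠ dP := fun e => by
    have := Nat.eq_one_of_dvd_coprimes c1 dvd_rfl (dvd_of_eq e); have := hgt dA (Or.inl rfl); omega
  have hne2 : dA ≠ dM := fun e => by
    have := Nat.eq_one_of_dvd_coprimes c2 dvd_rfl (dvd_of_eq e); have := hgt dA (Or.inl rfl); omega
  have hne3 : dP ≠ dM := fun e => by
    have := Nat.eq_one_of_dvd_coprimes c3 dvd_rfl (dvd_of_eq e); have := hgt dP (Or.inr (Or.inl rfl)); omega
  -- two normalisers meet only over the fixed point
  have huniq : ∀ z z' y : Cfsg.Sz F m, ¬ IsTwo z → ¬ IsTwo z' → x ∈ NC z → y ∈ NC z → x ∈ NC z' → y ∈ NC z' →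
      y • a ≠ a → Subgroup.centralizer ({z} : Set (Cfsg.Sz F m)) = Subgroup.centralizer {z'} := by
    intro z z' y hz hz' hxz hyz hxz' hyz' hya
    obtain ⟨i, hi⟩ := involution_power hF hx
    set t := x ^ i with htdef
    have htt : t * t = 1 := by rw [← sq, ← hi, pow_orderOf_eq_one]
    have ht1 : t ≠ 1 := fun e => by rw [e, orderOf_one] at hi; exact absurd hi (by norm_num)
    have hta : t • a = a := by
      have : x ∈ MulAction.stabilizer (Cfsg.Sz F m) a := ha
      exact Subgroup.pow_mem _ this i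
    have ho' : orderOf (y * t * y⁻¹) = 2 :=
      ((orderOf_injective (MulAut.conj y).toMonoidHom (MulAut.conj y).injective t) :).trans hi
    have hnt : ¬ IsTwo (t * (y * t * y⁻¹)) := by
      intro ht
      have hc : t * (y * t * y⁻¹) = y * t * y⁻¹ * t :=
        NForm.invol_comm (F := F) hm hF htt (by rw [← sq, ← ho', pow_orderOf_eq_one]) ht1
          (fun e => ht1 (conj_eq_one_iff.1 e)) (nform_top hm hF) (Subgroup.mem_top _) (Subgroup.mem_top _) ht
      obtain ⟨p, -, hpu⟩ := two_fix hm hF (g := y * t * y⁻¹) (fun e => ht1 (conj_eq_one_iff.1 e))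
        ((show IsTwo t from ⟨1, by rw [pow_one, sq, htt]⟩).conj y)
      have h1 : (y * t * y⁻¹) • (y • a) = y • a := by rw [mul_smul, mul_smul, inv_smul_smul, hta]
      have h2 := centralizer_maps_fixed hF hc.symm hta
      obtain ⟨p', -, hpu'⟩ := two_fix hm hF ht1 ⟨1, by rw [pow_one, sq, htt]⟩
      have h3 : (y * t * y⁻¹) • a = a := (hpu' _ h2).trans (hpu' _ hta).symm
      exact hya ((hpu _ h1).trans (hpu _ h3).symm)
    have hm1 := fun (w : Cfsg.Sz F m) (hw : ¬ IsTwo w) (hxw : x ∈ NC w) (hyw : y ∈ NC w) =>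
      ((nontwo_centralizer hm hF hw).2 _
        (invol_mul_mem hm hF hw (Subgroup.pow_mem _ hxw i) hi
          (mul_mem (mul_mem hyw (Subgroup.pow_mem _ hxw i)) (inv_mem hyw)) ho')
        (fun e => hnt ⟨0, by rw [e, one_pow]⟩)).2
    exact (hm1 z hz hxz hyz).symm.trans (hm1 z' hz' hxz' hyz')
  have hWcard : ∀ d ∈ ({dA, dP, dM} : Set ℕ), ∀ C ∈ Ts d, (W C).card = (if d = dA then 2 else 4) * (d - 1) := by
    intro d hd C hC
    simp only [hTsdef, Finset.mem_filter, Finset.mem_univ, true_and] at hC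
    obtain ⟨hCT, hxC⟩ := hC
    have hN := Tset_normalizer hm hF hd hCT
    obtain ⟨z, hz, rfl, hzd⟩ := hCT
    rw [← hdA] at hN
    set f := if d = dA then 2 else 4 with hfdef
    have hst := card_NC_stab hm hF hz (f := f) (by rw [hzd]; exact hN)
      (by rw [hfdef]; split_ifs <;> simp) hxC hx ha
    have h1 := Finset.card_filter_add_card_filter_not
      (s := Finset.univ.filter fun y : Cfsg.Sz F m => y ∈ NC z) (fun y => y • a = a)
    rw [Finset.filter_filter, Finset.filter_filter, ← Fintype.card_subtype,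
      ← Nat.card_eq_fintype_card, hst] at h1
    have h2 : (Finset.univ.filter fun y : Cfsg.Sz F m => y ∈ NC z).card = f * d := by
      rw [← Fintype.card_subtype, ← Nat.card_eq_fintype_card]; exact hN
    rw [h2] at h1
    rw [Nat.mul_sub, mul_one, ← h1, add_tsub_cancel_left]
  have hdisj : ∀ d, ((Ts d : Finset _) : Set (Subgroup (Cfsg.Sz F m))).PairwiseDisjoint W := by
    intro d C hC C' hC' hne
    rw [Function.onFun, Finset.disjoint_left]
    intro y hy hy'
    simp only [hTsdef, Finset.coe_filter, Finset.mem_univ, true_and, Set.mem_setOf_eq] at hC hC'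
    simp only [hWdef, Finset.mem_filter, Finset.mem_univ, true_and] at hy hy'
    obtain ⟨⟨z, hz, rfl, -⟩, hxC⟩ := hC
    obtain ⟨⟨z', hz', rfl, -⟩, hxC'⟩ := hC'
    exact hne (huniq z z' y hz hz' hxC hy.1 hxC' hy'.1 hy.2)
  have hdisj2 : ∀ d d', d ≠ d' → Disjoint ((Ts d).biUnion W) ((Ts d').biUnion W) := by
    intro d d' hne
    rw [Finset.disjoint_left]
    intro y hy hy'
    simp only [hTsdef, hWdef, Finset.mem_biUnion, Finset.mem_filter, Finset.mem_univ, true_and] at hy hy'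
    obtain ⟨C, ⟨⟨z, hz, rfl, hzd⟩, hxC⟩, hyC, hya⟩ := hy
    obtain ⟨C', ⟨⟨z', hz', rfl, hzd'⟩, hxC'⟩, hyC', -⟩ := hy'
    have := huniq z z' y hz hz' hxC hyC hxC' hyC' hya
    exact hne (hzd.symm.trans (by rw [this]; exact hzd'))
  have hdisj3 : ∀ d, Disjoint A ((Ts d).biUnion W) := by
    intro d
    rw [Finset.disjoint_left]
    intro y hy hy'
    simp only [hAdef, hWdef, Finset.mem_biUnion, Finset.mem_filter, Finset.mem_univ, true_and] at hy hy'
    obtain ⟨C, -, -, h⟩ := hy'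
    exact h hy
  have hall : (Finset.univ.filter fun y : Cfsg.Sz F m =>
      Group.IsSolvable ↥(Subgroup.closure ({x, y} : Set (Cfsg.Sz F m)))) =
      A ∪ (Ts dA).biUnion W ∪ (Ts dP).biUnion W ∪ (Ts dM).biUnion W := by
    ext y
    simp only [Finset.mem_filter, Finset.mem_univ, true_and, Finset.mem_union, hAdef, hTsdef, hWdef,
      Finset.mem_biUnion, closure_iff_two hm hF hp hx ha]
    constructor
    · rintro (h | ⟨z, hz, hxz, hyz⟩)
      · exact Or.inl (Or.inl (Or.inl h))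
      · by_cases hya : y • a = a
        · exact Or.inl (Or.inl (Or.inl hya))
        have hc := centralizer_card hm hF hz
        rw [Set.mem_insert_iff, Set.mem_insert_iff, Set.mem_singleton_iff] at hc
        rcases hc with e | e | e
        · exact Or.inl (Or.inl (Or.inr ⟨_, ⟨⟨z, hz, rfl, e⟩, hxz⟩, hyz, hya⟩))
        · exact Or.inl (Or.inr ⟨_, ⟨⟨z, hz, rfl, e⟩, hxz⟩, hyz, hya⟩)
        · exact Or.inr ⟨_, ⟨⟨z, hz, rfl, e⟩, hxz⟩, hyz, hya⟩
    · rintro (((h | ⟨C, ⟨⟨z, hz, rfl, -⟩, hxz⟩, hyz, -⟩) | ⟨C, ⟨⟨z, hz, rfl, -⟩, hxz⟩, hyz, -⟩) |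
        ⟨C, ⟨⟨z, hz, rfl, -⟩, hxz⟩, hyz, -⟩)
      exacts [Or.inl h, Or.inr ⟨z, hz, hxz, hyz⟩, Or.inr ⟨z, hz, hxz, hyz⟩, Or.inr ⟨z, hz, hxz, hyz⟩]
  rw [Nat.card_eq_fintype_card, Fintype.card_subtype, hall,
    Finset.card_union_of_disjoint (Finset.disjoint_union_left.2 ⟨Finset.disjoint_union_left.2
      ⟨hdisj3 _, hdisj2 _ _ hne2⟩, hdisj2 _ _ hne3⟩),
    Finset.card_union_of_disjoint (Finset.disjoint_union_left.2 ⟨hdisj3 _, hdisj2 _ _ hne1⟩),
    Finset.card_union_of_disjoint (hdisj3 _), Finset.card_biUnion (hdisj _), Finset.card_biUnion (hdisj _),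
    Finset.card_biUnion (hdisj _), Finset.sum_congr rfl (hWcard dA (Or.inl rfl)),
    Finset.sum_congr rfl (hWcard dP (Or.inr (Or.inl rfl))),
    Finset.sum_congr rfl (hWcard dM (Or.inr (Or.inr rfl))), Finset.sum_const, Finset.sum_const,
    Finset.sum_const, if_pos rfl, if_neg (Ne.symm hne1), if_neg (Ne.symm hne2)]
  simp only [smul_eq_mul, hTsdef, hAdef, ← Fintype.card_subtype, ← Nat.card_eq_fintype_card]
  rw [card_stab hm hF a, Nat.card_eq_fintype_card (α := F)]

end CfsgLib.Lie.Suz
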