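import Cfsg.Agent.Lib.Lie.Suz.Sub.Classify
import Cfsg.Prelude.Def_Transfer

/-!
# Consequences of the classification of the subgroups
-/

set_option autoImplicit false
set_option maxHeartbeats 800000

namespace CfsgLib.Lie.Suz

open Cfsg
open scoped MatrixGroups Pointwise

variable {F : Type*} [Field F] [Fintype F] {m : ℕ}

variable (hm : 1 ≤ m) (hF : Fintype.card F = 2 ^ (2 * m + 1))
include hm hF

omit hm in
theorem trans_ovoid : MulAction.IsPretransitive (Cfsg.Sz F m) (suzukiOvoid F m) := by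
  haveI := two_trans hF (m := m)
  exact MulAction.isPretransitive_of_is_two_pretransitive

omit hm in
theorem U_smul_inf {g : Cfsg.Sz F m} (hg : g ∈ U hF) : g • oInf F m = oInf F m := by
  obtain ⟨a, b, e⟩ := hg
  rw [show g = TS hF a b from Subtype.ext e, TS_smul_inf hF]

omit hm in
theorem eight_le_q (hm : 1 ≤ m) : 8 ≤ Fintype.card F := by
  rw [hF]
  calc 8 = 2 ^ 3 := rfl
    _ ≤ _ := Nat.pow_le_pow_right (by norm_num) (by omega)

/-- the translations fix no other point -/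
theorem U_fix_unique {b : suzukiOvoid F m} (h : ∀ g ∈ U hF, g • b = b) : b = oInf F m := by
  by_contra hne
  refine not_two_of_two_fix hm hF (g := TS hF 0 1)
    (fun e => one_ne_zero (TS_inj hF (e.trans (TS_zero' hF).symm)).2)
    (isTwo_of_mem_U hF (TS_mem_U hF 0 1)) (Ne.symm hne) (TS_smul_inf hF 0 1) (h _ (TS_mem_U hF 0 1))

/-- the Sylow 2-subgroup of the translations -/
theorem exists_U_sylow : ∃ P : Sylow 2 (Cfsg.Sz F m), (P : Subgroup (Cfsg.Sz F m)) = U hF :=
  ⟨(U_isPGroup hF).toSylow (U_index_not_dvd hm hF), rfl⟩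

/-- every Sylow 2-subgroup is conjugate to the translations -/
theorem sylow_two_conj (P : Sylow 2 (Cfsg.Sz F m)) :
    ∃ c : Cfsg.Sz F m, (P : Subgroup (Cfsg.Sz F m)) = (U hF).map (MulAut.conj c).toMonoidHom := by
  obtain ⟨P0, hP0⟩ := exists_U_sylow hm hF
  obtain ⟨c, hc⟩ := MulAction.exists_smul_eq (Cfsg.Sz F m) P0 P
  refine ⟨c, ?_⟩
  rw [← hc, Sylow.coe_subgroup_smul, hP0]
  rfl

theorem normalizer_U :
    Subgroup.normalizer ((U hF : Subgroup (Cfsg.Sz F m)) : Set (Cfsg.Sz F m)) =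
      MulAction.stabilizer (Cfsg.Sz F m) (suzukiPointInfinity F) := by
  ext g
  constructor
  · intro hg
    refine mem_stab_of_normalizes hm hF fun u hu => ?_
    have := (Subgroup.mem_normalizer_iff.1 (inv_mem hg) u).1 hu
    rwa [inv_inv] at this
  · intro hg
    rw [Subgroup.mem_normalizer_iff]
    intro u
    constructor
    · intro hu
      have := normalizes_of_mem_stab hm hF (inv_mem hg) hu
      rwa [inv_inv] at this
    · intro hu
      have := normalizes_of_mem_stab hm hF hg hu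
      rwa [show g⁻¹ * (g * u * g⁻¹) * g = u by group] at this

/-- the normaliser of a Sylow 2-subgroup is the stabiliser of its fixed point -/
theorem normalizer_conj_U (c g : Cfsg.Sz F m) :
    g ∈ Subgroup.normalizer (((U hF).map (MulAut.conj c).toMonoidHom : Subgroup (Cfsg.Sz F m)) : Set (Cfsg.Sz F m)) ↔
      g • (c • oInf F m) = c • oInf F m := by
  have h := Subgroup.map_normalizer_eq_of_bijective (U hF : Subgroup (Cfsg.Sz F m))
    (f := (MulAut.conj c).toMonoidHom) (MulAut.conj c).bijective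
  rw [← h, normalizer_U hm hF, mem_conjMap, ← smul_inf_iff, mul_smul, mul_smul, inv_smul_eq_iff]

theorem two_fixed_of_not_free {x : Cfsg.Sz F m} (hx : ¬ IsTwo x) (hf : ¬ Free x) :
    ∃ a b : suzukiOvoid F m, a ≠ b ∧ x • a = a ∧ x • b = b := by
  simp only [Free, not_forall, not_not] at hf
  obtain ⟨a, ha⟩ := hf
  have hx1 : x ≠ 1 := fun h => hx ⟨0, by rw [h, one_pow]⟩
  by_contra hc
  push Not at hc
  obtain ⟨i, hi⟩ := centralizer_one_fixed hm hF hx1 ha
    (fun b hb => by_contra fun hne => hc a b (Ne.symm hne) ha hb)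
    ⟨x, Subgroup.mem_centralizer_singleton_iff.2 rfl⟩
  exact hx ⟨i, congrArg Subtype.val hi⟩

omit hm in
theorem card_HSub : Nat.card ↥(HSub hF : Subgroup (Cfsg.Sz F m)) = Fintype.card F - 1 := by
  classical
  rw [← Fintype.card_units, ← Nat.card_eq_fintype_card]
  refine (Nat.card_eq_of_bijective (fun k : Fˣ => (⟨HS hF k, k, rfl⟩ : ↥(HSub hF : Subgroup (Cfsg.Sz F m))))
    ⟨fun k l e => HS_injective hF (congrArg Subtype.val e), ?_⟩).symm
  rintro ⟨_, k, rfl⟩
  exact ⟨k, rfl⟩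

omit hm in
/-- the product of the two orders of fixed-point-free tori -/
theorem tori_prod : (2 ^ (2 * m + 1) + 2 ^ (m + 1) + 1) * (2 ^ (2 * m + 1) - 2 ^ (m + 1) + 1) =
    Fintype.card F ^ 2 + 1 := by
  have hle : 2 ^ (m + 1) ≤ 2 ^ (2 * m + 1) := Nat.pow_le_pow_right (by norm_num) (by omega)
  obtain ⟨d, hd⟩ := Nat.exists_eq_add_of_le hle
  have h2 : 2 ^ (m + 1) * 2 ^ (m + 1) = 2 * 2 ^ (2 * m + 1) := by
    rw [← pow_succ', ← pow_add]; congr 1; omega
  rw [hF, hd, Nat.add_sub_cancel_left]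
  rw [hd] at h2
  nlinarith

/-- the orders of the centralisers -/
theorem centralizer_card {x : Cfsg.Sz F m} (hx : ¬ IsTwo x) :
    Nat.card ↥(Subgroup.centralizer ({x} : Set (Cfsg.Sz F m))) ∈
      ({2 ^ (2 * m + 1) - 1, 2 ^ (2 * m + 1) + 2 ^ (m + 1) + 1,
        2 ^ (2 * m + 1) - 2 ^ (m + 1) + 1} : Set ℕ) := by
  have hx1 : x ≠ 1 := fun h => hx ⟨0, by rw [h, one_pow]⟩
  by_cases hf : Free x
  · have hT := free_centralizer hm hF hf
    have hxC : x ∈ Subgroup.centralizer ({x} : Set (Cfsg.Sz F m)) :=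
      Subgroup.mem_centralizer_singleton_iff.2 rfl
    obtain ⟨r, hr, hrd⟩ := Nat.exists_prime_and_dvd (show Nat.card ↥(Subgroup.centralizer ({x} : Set (Cfsg.Sz F m))) ≠ 1 from
      fun e => hx1 (Subgroup.mem_bot.1 (Subgroup.eq_bot_of_card_eq _ e ▸ hxC)))
    have hrn := hrd.trans (torus_card_dvd hm hF hT)
    rw [← tori_prod hF (m := m)] at hrn
    rcases hr.dvd_mul.1 hrn with h | h
    · obtain ⟨T, hT', hc, -⟩ := exists_tori hm hF (Or.inl rfl)
      obtain ⟨c, e⟩ := torus_conj hm hF hT hT' hr hrd (hc.symm ▸ h)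
      right; left
      rw [← hc, ← e, Subgroup.card_map_of_injective (MulAut.conj c).injective]
    · obtain ⟨T, hT', hc, -⟩ := exists_tori hm hF (Or.inr rfl)
      obtain ⟨c, e⟩ := torus_conj hm hF hT hT' hr hrd (hc.symm ▸ h)
      right; right
      show _ = _
      rw [← hc, ← e, Subgroup.card_map_of_injective (MulAut.conj c).injective]
  · obtain ⟨a, b, hab, ha, hb⟩ := two_fixed_of_not_free hm hF hx hf
    obtain ⟨c, hc⟩ := centralizer_two_fixed hm hF hx1 hab ha hb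
    left
    have he : Subgroup.centralizer ({x} : Set (Cfsg.Sz F m)) = (HSub hF).map (MulAut.conj c).toMonoidHom := by
      refine le_antisymm hc ?_
      obtain ⟨_, ⟨l, rfl⟩, hl⟩ := hc (Subgroup.mem_centralizer_singleton_iff.2 rfl :
        x ∈ Subgroup.centralizer ({x} : Set (Cfsg.Sz F m)))
      rintro _ ⟨_, ⟨k, rfl⟩, rfl⟩
      refine Subgroup.mem_centralizer_singleton_iff.2 ?_
      rw [← hl, ← map_mul, ← map_mul, ← HS_mul hF, ← HS_mul hF, mul_comm]
    rw [he, Subgroup.card_map_of_injective (MulAut.conj c).injective, card_HSub hF, hF]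

omit hm in
theorem SubSz_card' (hm : 1 ≤ m) {n : ℕ} (h3 : 3 ≤ n) (hn : n ∣ 2 * m + 1) :
    ∃ k, n = 2 * k + 1 ∧ 1 ≤ k ∧ k ≤ m ∧
      Nat.card ↥(SubSz hm hF n) = (2 ^ n) ^ 2 * ((2 ^ n) ^ 2 + 1) * (2 ^ n - 1) := by
  obtain ⟨k, rfl⟩ : Odd n := Odd.of_dvd_nat ⟨m, rfl⟩ hn
  haveI : Fact (Nat.Prime 2) := ⟨Nat.prime_two⟩
  haveI : Fintype (GaloisField 2 (2 * k + 1)) := Fintype.ofFinite _
  have hK : Fintype.card (GaloisField 2 (2 * k + 1)) = 2 ^ (2 * k + 1) := by
    rw [← Nat.card_eq_fintype_card]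
    exact GaloisField.card 2 _ (by omega)
  have := Nat.le_of_dvd (by omega) hn
  refine ⟨k, rfl, by omega, by omega, ?_⟩
  rw [card_SubSz hm hF hK hn (by omega), hK]

/-- a proper subgroup contains a small power of two only -/
theorem sub_lt {n : ℕ} (h3 : 3 ≤ n) (hn : n ∣ 2 * m + 1) (hne : n ≠ 2 * m + 1) :
    (2 ^ n) ^ 2 + 1 < Fintype.card F := by
  obtain ⟨c, hc⟩ := hn
  have hc3 : 3 ≤ c := by
    have h0 : c ≠ 0 := fun e => by rw [e, mul_zero] at hc; omega
    have h1 : c ≠ 1 := fun e => hne (by rw [hc, e, mul_one])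
    have h2 : c ≠ 2 := fun e => by rw [e] at hc; omega
    omega
  have h4 : n * 3 ≤ n * c := Nat.mul_le_mul_left n hc3
  rw [hF]
  calc (2 ^ n) ^ 2 + 1 < (2 ^ n) ^ 3 := by
        have h8 : 8 ≤ 2 ^ n := (Nat.pow_le_pow_right (show 0 < 2 by norm_num) h3)
        nlinarith
    _ ≤ 2 ^ (2 * m + 1) := by
        rw [← pow_mul]
        exact Nat.pow_le_pow_right (by norm_num) (by omega)

/-- maximal subgroups over the Sylow 2-subgroup -/
theorem le_normalizer_sylow (P : Sylow 2 (Cfsg.Sz F m)) {M : Subgroup (Cfsg.Sz F m)} (hM : M ≠ ⊤)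
    (hP : (P : Subgroup (Cfsg.Sz F m)) ≤ M) :
    M ≤ Subgroup.normalizer ((P : Subgroup (Cfsg.Sz F m)) : Set (Cfsg.Sz F m)) := by
  obtain ⟨c, hc⟩ := sylow_two_conj hm hF P
  have hPcard : Nat.card ↥(P : Subgroup (Cfsg.Sz F m)) = Fintype.card F ^ 2 := by
    rw [hc, Subgroup.card_map_of_injective (MulAut.conj c).injective, card_U hF]
  have hdvd : Fintype.card F ^ 2 ∣ Nat.card M := hPcard ▸ Subgroup.card_dvd_of_le hP
  have h8 := eight_le_q hF hm
  have hq2 : ∀ d : ℕ, ¬ 2 ∣ d → ∀ e : ℕ, Fintype.card F ^ 2 ∣ e * d → Fintype.card F ^ 2 ∣ e := by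
    intro d hd e he
    refine (Nat.Coprime.dvd_of_dvd_mul_right ?_ he)
    rw [hF, ← pow_mul]
    exact Nat.Coprime.pow_left _ ((Nat.prime_two.coprime_iff_not_dvd).2 hd)
  rcases subgroup_cases hm hF M with ⟨a, ha⟩ | ⟨x, hx, hxM⟩ | ⟨d, n, h3, hn, hd⟩
  · have h1 : a = c • oInf F m := by
      rw [← inv_smul_eq_iff]
      refine U_fix_unique hm hF fun u hu => ?_
      have := ha (c * u * c⁻¹) (hP (hc ▸ ⟨u, hu, rfl⟩))
      rw [mul_smul, mul_smul] at this
      exact eq_inv_smul_iff.2 this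
    intro g hg
    rw [hc]
    exact (normalizer_conj_U hm hF c g).2 (by rw [← h1]; exact ha g hg)
  · exfalso
    obtain ⟨k, hk4, hk⟩ := nontwo_normalizer_index hm hF hx
    have h1 := hdvd.trans (Subgroup.card_dvd_of_le hxM)
    rw [hk] at h1
    have h2 := Nat.le_of_dvd (by norm_num) ((hq2 _ (odd_centralizer hm hF hx) k h1).trans hk4)
    have h3 := Nat.pow_le_pow_left h8 2
    omega
  · exfalso
    obtain ⟨k, hnk, hk1, -, hcard⟩ := SubSz_card' hF hm h3 hn
    have hMc : Nat.card M = Nat.card ↥(SubSz hm hF n) := by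
      rw [← hd, Subgroup.card_map_of_injective (MulAut.conj d).injective]
    rw [hMc, hcard, mul_assoc] at hdvd
    have hodd : ¬ 2 ∣ ((2 ^ n) ^ 2 + 1) * (2 ^ n - 1) := by
      have h2n : 2 ∣ 2 ^ n := dvd_pow_self 2 (by omega)
      have := Nat.one_le_two_pow (n := n)
      rw [Nat.prime_two.dvd_mul]
      rintro (h | h)
      · have := dvd_pow h2n two_ne_zero; omega
      · omega
    have h2 := hq2 _ hodd _ hdvd
    rw [Nat.pow_dvd_pow_iff two_ne_zero, hF, Nat.pow_dvd_pow_iff_le_right (by norm_num)] at h2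
    have hn' : n = 2 * m + 1 := le_antisymm (Nat.le_of_dvd (by omega) hn) h2
    refine hM ?_
    rw [hn', SubSz_top hm hF] at hd
    apply Subgroup.map_injective (f := (MulAut.conj d).toMonoidHom) (MulAut.conj d).injective
    rw [hd]
    exact (Subgroup.map_top_of_surjective _ (MulAut.conj d).surjective).symm

theorem normalizer_sylow_ne_top (P : Sylow 2 (Cfsg.Sz F m)) :
    Subgroup.normalizer ((P : Subgroup (Cfsg.Sz F m)) : Set (Cfsg.Sz F m)) ≠ ⊤ := by
  obtain ⟨c, hc⟩ := sylow_two_conj hm hF P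
  intro h
  have h1 : c * WS hF * c⁻¹ ∈ Subgroup.normalizer ((P : Subgroup (Cfsg.Sz F m)) : Set (Cfsg.Sz F m)) := by
    rw [h]; exact Subgroup.mem_top _
  rw [hc, normalizer_conj_U hm hF c, mul_smul, mul_smul, inv_smul_smul, WS_smul_inf hF] at h1
  exact inf_ne_zero' (MulAction.injective c h1).symm

/-- the maximal subgroups -/
theorem subgroup_type {M : Subgroup (Cfsg.Sz F m)} (hM : M ≠ ⊤) :
    (∃ P : Sylow 2 (Cfsg.Sz F m),
      M ≤ Subgroup.normalizer ((P : Subgroup (Cfsg.Sz F m)) : Set (Cfsg.Sz F m))) ∨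
    (∃ x : Cfsg.Sz F m, ¬ IsTwo x ∧ M ≤ Subgroup.normalizer
        ((Subgroup.centralizer ({x} : Set (Cfsg.Sz F m)) : Subgroup (Cfsg.Sz F m)) : Set (Cfsg.Sz F m))) ∨
    ∃ (c : Cfsg.Sz F m) (k : ℕ), 1 ≤ k ∧ k < m ∧ 2 * k + 1 ∣ 2 * m + 1 ∧
        M.map (MulAut.conj c).toMonoidHom = SubSz hm hF (2 * k + 1) := by
  rcases subgroup_cases hm hF M with ⟨a, ha⟩ | h | ⟨c, n, h3, hn, hc⟩
  · left
    haveI := trans_ovoid hF (m := m)
    obtain ⟨c, hc⟩ := MulAction.exists_smul_eq (Cfsg.Sz F m) (oInf F m) a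
    obtain ⟨P0, hP0⟩ := exists_U_sylow hm hF
    refine ⟨c • P0, fun g hg => ?_⟩
    rw [Sylow.coe_subgroup_smul, hP0]
    exact (normalizer_conj_U hm hF c g).2 (by rw [hc]; exact ha g hg)
  · exact Or.inr (Or.inl h)
  · obtain ⟨k, rfl, hk1, hkm, -⟩ := SubSz_card' hF hm h3 hn
    refine Or.inr (Or.inr ⟨c, k, hk1, lt_of_le_of_ne hkm fun e => hM ?_, hn, hc⟩)
    subst e
    rw [SubSz_top hm hF] at hc
    apply Subgroup.map_injective (f := (MulAut.conj c).toMonoidHom) (MulAut.conj c).injective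
    rw [hc]
    exact (Subgroup.map_top_of_surjective _ (MulAut.conj c).surjective).symm

/-- two elements generate -/
theorem two_generated : ∃ a b : Cfsg.Sz F m, Subgroup.closure ({a, b} : Set (Cfsg.Sz F m)) = ⊤ := by
  obtain ⟨T, hT, hTc, hTN⟩ := exists_tori hm hF (Or.inl rfl)
  haveI := torus_cyclic hm hF hT
  obtain ⟨a, ha⟩ := IsCyclic.exists_ofOrder_eq_natCard (α := T)
  rw [← Subgroup.orderOf_coe, hTc] at ha
  have htbig : Fintype.card F < 2 ^ (2 * m + 1) + 2 ^ (m + 1) + 1 := by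
    rw [hF]
    exact Nat.lt_succ_of_le (Nat.le_add_right _ _)
  set t := 2 ^ (2 * m + 1) + 2 ^ (m + 1) + 1 with ht
  have hto : ¬ 2 ∣ t := by
    have h1 : 2 ∣ 2 ^ (2 * m + 1) := dvd_pow_self 2 (by omega)
    have h2 : 2 ∣ 2 ^ (m + 1) := dvd_pow_self 2 (by omega)
    omega
  have h8 := eight_le_q hF hm
  have ha1 : (a : Cfsg.Sz F m) ≠ 1 := fun e => by
    rw [e, orderOf_one] at ha
    omega
  obtain ⟨b, hb⟩ : ∃ b, b ∉ Subgroup.normalizer (T : Set (Cfsg.Sz F m)) := by
    by_contra hall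
    push Not at hall
    have htop : Subgroup.normalizer (T : Set (Cfsg.Sz F m)) = ⊤ := (Subgroup.eq_top_iff' _).2 hall
    rw [htop, Subgroup.card_top, card_Sz hm hF] at hTN
    have h2 : 8 * 8 ≤ Fintype.card F ^ 2 := by rw [sq]; exact Nat.mul_le_mul h8 h8
    have h3 : 64 * (Fintype.card F ^ 2 + 1) * 1 ≤ Fintype.card F ^ 2 * (Fintype.card F ^ 2 + 1) * (Fintype.card F - 1) :=
      Nat.mul_le_mul (Nat.mul_le_mul_right _ (by omega)) (by omega)
    rw [hTN] at h3
    have h4 : t ≤ 2 * Fintype.card F + 1 := by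
      have : 2 ^ (m + 1) ≤ 2 ^ (2 * m + 1) := Nat.pow_le_pow_right (by norm_num) (by omega)
      omega
    nlinarith
  refine ⟨a, b, ?_⟩
  by_contra hne
  set M := Subgroup.closure ({(a : Cfsg.Sz F m), b} : Set (Cfsg.Sz F m))
  have haM : (a : Cfsg.Sz F m) ∈ M := Subgroup.subset_closure (by simp)
  have hbM : b ∈ M := Subgroup.subset_closure (by simp)
  have hfree := (torus_elt hm hF hT a.2 ha1).1
  rcases subgroup_cases hm hF M with ⟨p, hp⟩ | ⟨x, hx, hxM⟩ | ⟨c, n, h3, hn, hc⟩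
  · exact hfree p (hp _ haM)
  · obtain ⟨k, hk4, hk⟩ := nontwo_normalizer_index hm hF hx
    set C := Subgroup.centralizer ({x} : Set (Cfsg.Sz F m)) with hC
    have haC : (a : Cfsg.Sz F m) ∈ C := by
      set N := Subgroup.normalizer ((C : Subgroup (Cfsg.Sz F m)) : Set (Cfsg.Sz F m))
      haveI : (C.subgroupOf N).Normal := Subgroup.normal_in_normalizer
      have hidx : (C.subgroupOf N).index = k := by
        have h1 := (C.subgroupOf N).card_mul_index
        rw [Nat.card_congr (Subgroup.subgroupOfEquivOfLe (Subgroup.le_normalizer (H := C))).toEquiv, hk,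
          mul_comm k] at h1
        exact Nat.eq_of_mul_eq_mul_left Nat.card_pos h1
      let g : N := ⟨a, hxM haM⟩
      have h1 : orderOf (QuotientGroup.mk (s := C.subgroupOf N) g) ∣ Nat.gcd t k := by
        refine Nat.dvd_gcd ?_ ?_
        · rw [← ha, show (orderOf (a : Cfsg.Sz F m)) = orderOf g from Subgroup.orderOf_coe g]
          exact orderOf_map_dvd (QuotientGroup.mk' (C.subgroupOf N)) g
        · rw [← hidx, Subgroup.index_eq_card]
          exact orderOf_dvd_natCard _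
      have hcop : Nat.gcd t k = 1 := by
        have h4 : Nat.Coprime t (2 ^ 2) :=
          Nat.Coprime.pow_right 2 ((Nat.prime_two.coprime_iff_not_dvd).2 hto).symm
        exact Nat.Coprime.coprime_dvd_right hk4 h4
      rw [hcop, Nat.dvd_one, orderOf_eq_one_iff, QuotientGroup.eq_one_iff] at h1
      exact h1
    have hCT : C = T := by
      rw [hC, ← ((nontwo_centralizer hm hF hx).2 _ haC ha1).2]
      exact (torus_elt hm hF hT a.2 ha1).2
    exact hb (hCT ▸ hxM hbM)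
  · obtain ⟨k, hnk, -, -, hcard⟩ := SubSz_card' hF hm h3 hn
    have hne' : n ≠ 2 * m + 1 := fun e => hne (by
      rw [e, SubSz_top hm hF] at hc
      apply Subgroup.map_injective (f := (MulAut.conj c).toMonoidHom) (MulAut.conj c).injective
      rw [hc]
      exact (Subgroup.map_top_of_surjective _ (MulAut.conj c).surjective).symm)
    have hlt := sub_lt hm hF h3 hn hne'
    have h1 : t ∣ (2 ^ n) ^ 2 * ((2 ^ n) ^ 2 + 1) * (2 ^ n - 1) := by
      rw [← hcard, ← hc, Subgroup.card_map_of_injective (MulAut.conj c).injective, ← ha]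
      exact Subgroup.orderOf_dvd_natCard _ haM
    have hcop : Nat.Coprime t (2 ^ n - 1) := by
      refine Nat.coprime_of_dvd fun r hr h2 h3' => ?_
      have h4 : r ∣ Fintype.card F - 1 := h3'.trans (hF ▸ Nat.pow_sub_one_dvd_pow_sub_one 2 hn)
      have h5 : r ∣ Fintype.card F ^ 2 + 1 := by
        rw [← tori_prod hF (m := m)]; exact h2.trans (dvd_mul_right _ _)
      have h6 : r ∣ Fintype.card F ^ 2 - 1 := by
        rw [show Fintype.card F ^ 2 - 1 = Fintype.card F ^ 2 - 1 ^ 2 by simp, Nat.sq_sub_sq]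
        exact h4.mul_left _
      have h7 := Nat.dvd_sub h5 h6
      have h8' : 1 ≤ Fintype.card F ^ 2 := Nat.one_le_pow _ _ (by omega)
      rw [show Fintype.card F ^ 2 + 1 - (Fintype.card F ^ 2 - 1) = 2 by omega] at h7
      exact hto (((Nat.prime_dvd_prime_iff_eq hr Nat.prime_two).1 h7) ▸ h2)
    have h2 : t ∣ (2 ^ n) ^ 2 + 1 := by
      refine Nat.Coprime.dvd_of_dvd_mul_left ?_ (hcop.dvd_of_dvd_mul_right h1)
      rw [← pow_mul]
      exact Nat.Coprime.pow_right _ ((Nat.prime_two.coprime_iff_not_dvd).2 hto).symm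
    have h5 := Nat.le_of_dvd (by positivity) h2
    omega

/-- a 2-element lies in one Sylow 2-subgroup only -/
theorem sylow_unique_of_mem {P Q : Sylow 2 (Cfsg.Sz F m)} {g : Cfsg.Sz F m} (hg : g ≠ 1)
    (hP : g ∈ (P : Subgroup (Cfsg.Sz F m))) (hQ : g ∈ (Q : Subgroup (Cfsg.Sz F m))) : P = Q := by
  obtain ⟨c, hc⟩ := sylow_two_conj hm hF P
  obtain ⟨d, hd⟩ := sylow_two_conj hm hF Q
  rw [hc] at hP
  rw [hd] at hQ
  have hfix : ∀ e : Cfsg.Sz F m, g ∈ (U hF).map (MulAut.conj e).toMonoidHom →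
      g • (e • oInf F m) = e • oInf F m := by
    rintro e ⟨u, hu, rfl⟩
    show (e * u * e⁻¹) • (e • oInf F m) = e • oInf F m
    rw [mul_smul, mul_smul, inv_smul_smul, U_smul_inf hF hu]
  obtain ⟨i, hi⟩ : IsTwo g := by
    obtain ⟨u, hu, rfl⟩ := hP
    exact (isTwo_of_mem_U hF hu).conj c
  obtain ⟨p, -, hp⟩ := two_fix hm hF hg ⟨i, hi⟩
  have he : c • oInf F m = d • oInf F m := (hp _ (hfix c hP)).trans (hp _ (hfix d hQ)).symm
  have h1 : c⁻¹ * d ∈ Subgroup.normalizer ((U hF : Subgroup (Cfsg.Sz F m)) : Set (Cfsg.Sz F m)) := by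
    rw [normalizer_U hm hF, ← smul_inf_iff, mul_smul, ← he, inv_smul_smul]
  apply Sylow.ext
  rw [hc, hd]
  ext y
  rw [mem_conjMap, mem_conjMap]
  have := Subgroup.mem_normalizer_iff.1 (inv_mem h1) (c⁻¹ * y * c)
  rw [this]
  constructor <;> intro h <;> simpa [mul_assoc] using h

theorem exists_sylow_of_two {g : Cfsg.Sz F m} (hg : IsTwo g) :
    ∃ P : Sylow 2 (Cfsg.Sz F m), g ∈ (P : Subgroup (Cfsg.Sz F m)) := by
  obtain ⟨i, hi⟩ := hg
  obtain ⟨j, -, hj⟩ := (Nat.dvd_prime_pow Nat.prime_two).1 (orderOf_dvd_of_pow_eq_one hi)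
  obtain ⟨P, hP⟩ := IsPGroup.exists_le_sylow (p := 2) (P := Subgroup.zpowers g)
    (IsPGroup.of_card (n := j) (by rw [Nat.card_zpowers, hj]))
  exact ⟨P, hP (Subgroup.mem_zpowers g)⟩

omit hm in
theorem tori_coprime (hm : 1 ≤ m) {a b : ℕ}
    (ha : a ∈ ({2 ^ (2 * m + 1) - 1, 2 ^ (2 * m + 1) + 2 ^ (m + 1) + 1,
        2 ^ (2 * m + 1) - 2 ^ (m + 1) + 1} : Set ℕ))
    (hb : b ∈ ({2 ^ (2 * m + 1) - 1, 2 ^ (2 * m + 1) + 2 ^ (m + 1) + 1,
        2 ^ (2 * m + 1) - 2 ^ (m + 1) + 1} : Set ℕ)) : ¬ 2 ∣ a ∧ 1 < a ∧ (a ∣ b → a = b) := by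
  simp only [Set.mem_insert_iff, Set.mem_singleton_iff] at ha hb
  set q := 2 ^ (2 * m + 1)
  set r := 2 ^ (m + 1) with hr
  have h2q : 2 ∣ q := dvd_pow_self 2 (by omega)
  have h2r : 2 ∣ r := dvd_pow_self 2 (by omega)
  have hr4 : 4 ≤ r := hr ▸ (Nat.pow_le_pow_right (show 0 < 2 by norm_num) (show 2 ≤ m + 1 by omega))
  have hq : 2 * r ≤ q := by
    show 2 * 2 ^ (m + 1) ≤ 2 ^ (2 * m + 1)
    rw [← pow_succ']
    exact Nat.pow_le_pow_right (by norm_num) (by omega)
  have hodd : ¬ 2 ∣ a := by omega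
  refine ⟨hodd, by omega, fun hab => ?_⟩
  by_contra hne
  obtain ⟨t, ht⟩ := hab
  have ht0 : t ≠ 0 := fun e => by rw [e, mul_zero] at ht; omega
  have ht1 : t ≠ 1 := fun e => hne (by rw [ht, e, mul_one])
  have ht2 : t ≠ 2 := fun e => by rw [e] at ht; omega
  have h3 : a * 3 ≤ b := ht ▸ Nat.mul_le_mul_left a (show 3 ≤ t by omega)
  omega

/-- the partition -/
theorem partition {g : Cfsg.Sz F m} (hg : g ≠ 1) :
    ∃! V : Subgroup (Cfsg.Sz F m), ((∃ P : Sylow 2 (Cfsg.Sz F m), V = (P : Subgroup (Cfsg.Sz F m))) ∨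
      (IsCyclic ↥V ∧ Nat.card ↥V ∈ ({2 ^ (2 * m + 1) - 1, 2 ^ (2 * m + 1) + 2 ^ (m + 1) + 1,
        2 ^ (2 * m + 1) - 2 ^ (m + 1) + 1} : Set ℕ))) ∧ g ∈ V := by
  by_cases ht : IsTwo g
  · obtain ⟨P, hP⟩ := exists_sylow_of_two hm hF ht
    refine ⟨P, ⟨Or.inl ⟨P, rfl⟩, hP⟩, ?_⟩
    rintro V ⟨⟨Q, rfl⟩ | ⟨-, hc⟩, hgV⟩
    · rw [sylow_unique_of_mem hm hF hg hgV hP]
    · exfalso
      obtain ⟨i, hi⟩ := ht
      obtain ⟨j, -, hj⟩ := (Nat.dvd_prime_pow Nat.prime_two).1 (orderOf_dvd_of_pow_eq_one hi)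
      have hj0 : j ≠ 0 := fun e => hg (orderOf_eq_one_iff.1 (by rw [hj, e, pow_zero]))
      exact (tori_coprime hF hm hc hc).1
        ((dvd_pow_self 2 hj0).trans (hj ▸ Subgroup.orderOf_dvd_natCard _ hgV))
  · have hgC : g ∈ Subgroup.centralizer ({g} : Set (Cfsg.Sz F m)) :=
      Subgroup.mem_centralizer_singleton_iff.2 rfl
    refine ⟨_, ⟨Or.inr ⟨(nontwo_centralizer hm hF ht).1, centralizer_card hm hF ht⟩, hgC⟩, ?_⟩
    rintro V ⟨⟨Q, rfl⟩ | ⟨hV, hc⟩, hgV⟩
    · obtain ⟨i, hi⟩ := Q.2 ⟨g, hgV⟩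
      exact absurd ⟨i, congrArg Subtype.val hi⟩ ht
    · have hle : V ≤ Subgroup.centralizer ({g} : Set (Cfsg.Sz F m)) := fun v hv => by
        haveI := hV
        letI := IsCyclic.commGroup (α := ↥V)
        exact Subgroup.mem_centralizer_singleton_iff.2
          (congrArg Subtype.val (mul_comm (⟨v, hv⟩ : V) ⟨g, hgV⟩))
      exact Subgroup.eq_of_le_of_card_ge hle
        ((tori_coprime hF hm hc (centralizer_card hm hF ht)).2.2 (Subgroup.card_dvd_of_le hle)).ge

/-- no element of order four is real -/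
theorem real_two_element (P : Sylow 2 (Cfsg.Sz F m)) {g : Cfsg.Sz F m}
    (hg : g ∈ (P : Subgroup (Cfsg.Sz F m))) (h1 : g ≠ 1) : IsConj g g⁻¹ ↔ orderOf g = 2 := by
  have hS := isSuzField hF
  constructor
  · intro hconj
    obtain ⟨c, hc⟩ := sylow_two_conj hm hF P
    rw [hc] at hg
    obtain ⟨u, ⟨a, b, hab⟩, rfl⟩ := hg
    obtain rfl : u = TS hF a b := Subtype.ext hab
    obtain ⟨h, hh⟩ := isConj_iff.1 hconj
    have e : (c⁻¹ * h * c) * TS hF a b * (c⁻¹ * h * c)⁻¹ = (TS hF a b : Cfsg.Sz F m)⁻¹ := by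
      have hh' : h * (c * TS hF a b * c⁻¹) * h⁻¹ = (c * TS hF a b * c⁻¹)⁻¹ := hh
      calc (c⁻¹ * h * c) * TS hF a b * (c⁻¹ * h * c)⁻¹
          = c⁻¹ * (h * (c * TS hF a b * c⁻¹) * h⁻¹) * c := by group
        _ = _ := by rw [hh']; group
    set k := c⁻¹ * h * c
    have hu1 : (TS hF a b : Cfsg.Sz F m) ≠ 1 := fun e' => h1 (by rw [e', map_one])
    show orderOf (c * TS hF a b * c⁻¹) = 2
    rw [← MulAut.conj_apply, MulEquiv.orderOf_eq]
    refine orderOf_eq_prime ?_ hu1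
    rw [sq, TS_sq' hF]
    by_cases ha : a = 0
    · rw [ha, mul_zero, TS_zero' hF]
    exfalso
    obtain ⟨p, -, hp⟩ := two_fix hm hF hu1 (isTwo_of_mem_U hF (TS_mem_U hF a b))
    have hk : k • oInf F m = oInf F m := by
      have h2 : (TS hF a b : Cfsg.Sz F m) • (k • oInf F m) = k • oInf F m := by
        have h3 : (k * TS hF a b * k⁻¹) • (k • oInf F m) = k • oInf F m := by
          rw [mul_smul, mul_smul, inv_smul_smul, TS_smul_inf hF]
        rw [e, inv_smul_eq_iff] at h3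
        exact h3.symm
      exact (hp _ h2).trans (hp _ (TS_smul_inf hF a b)).symm
    obtain ⟨x, y, l, hl⟩ := (mem_stab_inf hm hF).1 (smul_inf_iff.1 hk)
    rw [hl, mul_inv_eq_iff_eq_mul, TS_inv' hF, mul_assoc (TS hF x y), H_conj_T' hF, ← mul_assoc,
      ← mul_assoc, TS_mul' hF, TS_mul' hF] at e
    obtain ⟨e1, e2, -⟩ := TH_inj' hF e
    have hla : (l : F) * a = a := add_left_cancel (e1.trans (add_comm a x))
    obtain rfl : l = 1 := Units.ext (mul_right_cancel₀ ha (hla.trans (one_mul a).symm))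
    simp only [Units.val_one, th_one hS, one_mul] at e2
    have h2 : th m x * a = th m a * a + th m a * x := by linear_combination e2
    have hx : x = x / a * a := (div_mul_cancel₀ x ha).symm
    set lam := x / a
    rw [hx, th_mul hS] at h2
    have h3 : th m lam = 1 + lam := by
      have h0 : th m a * a ≠ 0 := mul_ne_zero (fun e' => ha (th_eq_zero hS e')) ha
      apply mul_right_cancel₀ h0
      linear_combination h2
    have h4 : lam ^ 2 = lam := by
      have h5 := congrArg (th m) h3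
      rw [th_th hS, th_add hS, th_one hS, h3, ← add_assoc, add_self hS, zero_add] at h5
      exact h5
    rcases mul_eq_zero.1 (show lam * (lam - 1) = 0 by linear_combination h4) with h0 | h0
    · rw [h0, th_zero hS, add_zero] at h3
      exact zero_ne_one h3
    · rw [sub_eq_zero.1 h0, th_one hS, add_self hS] at h3
      exact one_ne_zero h3
  · intro h
    have : g⁻¹ = g := inv_eq_of_mul_eq_one_right (by rw [← sq, ← h, pow_orderOf_eq_one])
    rw [this]

/-- subgroups isomorphic to a smaller Suzuki group are conjugate to the subfield subgroup -/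
theorem conj_SubSz_of_iso {K : Type*} [Field K] [Fintype K] {k : ℕ} (hk : 1 ≤ k)
    (hK : Fintype.card K = 2 ^ (2 * k + 1)) (hdiv : 2 * k + 1 ∣ 2 * m + 1)
    {S : Subgroup (Cfsg.Sz F m)} (e : Nonempty (↥S ≃* ↥(Cfsg.Sz K k))) :
    ∃ c : Cfsg.Sz F m, S.map (MulAut.conj c).toMonoidHom = SubSz hm hF (2 * k + 1) := by
  obtain ⟨e⟩ := e
  haveI := simple hk hK
  haveI hsimp : IsSimpleGroup ↥S :=
    haveI : Nontrivial ↥S := e.toEquiv.nontrivial
    IsSimpleGroup.isSimpleGroup_of_surjective e.symm.toMonoidHom e.symm.surjective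
  set f := fun s : ℕ => s ^ 2 * (s ^ 2 + 1) * (s - 1) with hf
  have hcard : Nat.card S = f (2 ^ (2 * k + 1)) := by
    rw [Nat.card_congr e.toEquiv, card_Sz hk hK, hK]
  have hab : NoAb S := by
    intro A hA hn hc
    have hN : (A.subgroupOf S).Normal := ⟨fun a ha g => hn g g.2 a ha⟩
    rcases hsimp.eq_bot_or_eq_top_of_normal _ hN with h | h
    · rw [Subgroup.subgroupOf_eq_bot, disjoint_iff, inf_eq_left.2 hA] at h
      exact h
    · exfalso
      have hcomm : ∀ x y : Cfsg.Sz K k, x * y = y * x := by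
        intro x y
        apply e.symm.injective
        rw [map_mul, map_mul]
        exact Subtype.ext (hc _ ((Subgroup.eq_top_iff' _).1 h (e.symm x)) _
          ((Subgroup.eq_top_iff' _).1 h (e.symm y)))
      have h2 : commutator (Cfsg.Sz K k) = ⊥ := by
        rw [commutator_def, Subgroup.commutator_eq_bot_iff_le_centralizer]
        intro x _
        rw [Subgroup.mem_centralizer_iff]
        exact fun y _ => hcomm y x
      rw [perfect hk hK] at h2
      haveI := hsimp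
      exact top_ne_bot h2
  have hS : S ≠ ⊥ := fun h => by
    subst h
    exact not_subsingleton_iff_nontrivial.2 hsimp.toNontrivial inferInstance
  have hnofix : ¬ ∃ a : suzukiOvoid F m, ∀ g ∈ S, g • a = a := by
    rintro ⟨a, ha⟩
    haveI := trans_ovoid hF (m := m)
    obtain ⟨c, hc⟩ := MulAction.exists_smul_eq (Cfsg.Sz F m) a (oInf F m)
    have hle : S.map (MulAut.conj c).toMonoidHom ≤
        MulAction.stabilizer (Cfsg.Sz F m) (suzukiPointInfinity F) := by
      rintro _ ⟨g, hg, rfl⟩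
      refine smul_inf_iff.1 ?_
      show (c * g * c⁻¹) • oInf F m = oInf F m
      rw [← hc, mul_smul, mul_smul, inv_smul_smul, ha g hg]
    have h1 := Subgroup.card_dvd_of_le hle
    rw [Subgroup.card_map_of_injective (MulAut.conj c).injective, hcard, card_stab_inf hm hF] at h1
    obtain ⟨j, hj⟩ := hdiv
    have hjodd : Odd j := Odd.of_dvd_nat ⟨m, rfl⟩ (Dvd.intro_left _ hj.symm)
    set s := 2 ^ (2 * k + 1)
    have hq : Fintype.card F = s ^ j := by rw [hF, hj, pow_mul]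
    have hs1 : s ^ 2 + 1 ≠ 1 := by
      have : 0 < s ^ 2 := by positivity
      omega
    obtain ⟨r, hr, hrd⟩ := Nat.exists_prime_and_dvd hs1
    have hr2 : r ≠ 2 := by
      rintro rfl
      have : 2 ∣ s ^ 2 := dvd_pow (dvd_pow_self 2 (by omega)) two_ne_zero
      omega
    have h2 : r ∣ Fintype.card F ^ 2 * (Fintype.card F - 1) :=
      (hrd.trans ((dvd_mul_left _ _).trans (dvd_mul_right _ _))).trans h1
    have h3 : r ∣ Fintype.card F ^ 2 + 1 := by
      refine hrd.trans ?_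
      rw [hq, show (s ^ j) ^ 2 = (s ^ 2) ^ j from (pow_mul s j 2).symm.trans ((congrArg (s ^ ·) (mul_comm j 2)).trans (pow_mul s 2 j))]
      simpa using hjodd.nat_add_dvd_pow_add_pow (s ^ 2) 1
    rcases hr.dvd_mul.1 h2 with h4 | h4
    · exact hr2 ((Nat.prime_dvd_prime_iff_eq hr Nat.prime_two).1
        (hr.dvd_of_dvd_pow (hF ▸ hr.dvd_of_dvd_pow h4)))
    · have h5 : r ∣ Fintype.card F ^ 2 - 1 := by
        rw [show Fintype.card F ^ 2 - 1 = Fintype.card F ^ 2 - 1 ^ 2 by simp, Nat.sq_sub_sq]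
        exact h4.mul_left _
      have h6 := Nat.dvd_sub h3 h5
      have h7 : 1 ≤ Fintype.card F ^ 2 := Nat.one_le_pow _ _ Fintype.card_pos
      rw [show Fintype.card F ^ 2 + 1 - (Fintype.card F ^ 2 - 1) = 2 by omega] at h6
      exact hr2 ((Nat.prime_dvd_prime_iff_eq hr Nat.prime_two).1 h6)
  obtain ⟨c, n, hn⟩ := exists_nform hm hF hS hab hnofix
  refine ⟨c, ?_⟩
  have he := hn.eq_SubSz hm hF (nofix_conj hF hnofix c)
  obtain ⟨-, -, -, -, hcn⟩ := SubSz_card' hF hm hn.three_le hn.dvd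
  have h1 : f (2 ^ n) = f (2 ^ (2 * k + 1)) := by
    rw [← hcard, ← Subgroup.card_map_of_injective (K := S) (f := (MulAut.conj c).toMonoidHom) (MulAut.conj c).injective, he]
    exact hcn.symm
  have hmono : ∀ a b : ℕ, 2 ≤ a → a < b → f a < f b := by
    intro a b ha hab
    simp only [hf]
    have h2 : a ^ 2 < b ^ 2 := Nat.pow_lt_pow_left hab two_ne_zero
    have h3 : a ^ 2 * (a ^ 2 + 1) < b ^ 2 * (b ^ 2 + 1) := Nat.mul_lt_mul'' h2 (by omega)
    exact Nat.mul_lt_mul'' h3 (by omega)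
  have h2n : ∀ i, 1 ≤ i → 2 ≤ 2 ^ i := fun i hi => (Nat.pow_le_pow_right (show 0 < 2 by norm_num) hi)
  rcases lt_trichotomy (2 ^ n) (2 ^ (2 * k + 1)) with hl | hl | hl
  · exact absurd h1 (hmono _ _ (h2n _ (by have := hn.three_le; omega)) hl).ne
  · rw [he, Nat.pow_right_injective le_rfl hl]
  · exact absurd h1.symm (hmono _ _ (h2n _ (by omega)) hl).ne

/-- elementary abelian TI-subgroups -/
theorem TI_iff (n : ℕ) (hn : 2 ≤ n) :
    (∃ E : Subgroup (Cfsg.Sz F m), Cfsg.IsElementaryAbelian 2 E ∧ Nat.card ↥E = 2 ^ n ∧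
      ∀ x : Cfsg.Sz F m, E ⊓ E.map (MulAut.conj x).toMonoidHom ≠ ⊥ →
        x ∈ Subgroup.normalizer (E : Set (Cfsg.Sz F m))) ↔ n ∣ 2 * m + 1 := by
  classical
  have hS := isSuzField hF
  constructor
  · rintro ⟨E, ⟨hEc, hE2⟩, hEcard, hTI⟩
    obtain ⟨P, hP⟩ := IsPGroup.exists_le_sylow (p := 2) (P := E) (IsPGroup.of_card hEcard)
    obtain ⟨c, hc⟩ := sylow_two_conj hm hF P
    have hB : ∀ g ∈ E, ∃ b, g = c * TS hF 0 b * c⁻¹ := by
      intro g hg
      have := hP hg
      rw [hc] at this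
      obtain ⟨u, ⟨a, b, hab⟩, rfl⟩ := this
      obtain rfl : u = TS hF a b := Subtype.ext hab
      refine ⟨b, ?_⟩
      have h2 : c * (TS hF a b * TS hF a b) * c⁻¹ = (1 : Cfsg.Sz F m) := by
        rw [show c * (TS hF a b * TS hF a b) * c⁻¹ = (c * TS hF a b * c⁻¹) * (c * TS hF a b * c⁻¹) by group,
          ← sq]
        exact hE2 _ hg
      rw [conj_eq_one_iff, TS_sq' hF, ← TS_zero' hF] at h2
      rcases mul_eq_zero.1 (TS_inj hF h2).2 with h0 | h0
      · rw [th_eq_zero hS h0]; rfl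
      · rw [h0]; rfl
    set B := Finset.univ.filter fun b : F => c * TS hF 0 b * c⁻¹ ∈ E with hBdef
    have hmem : ∀ {b}, b ∈ B ↔ c * TS hF 0 b * c⁻¹ ∈ E := fun {b} => by simp [hBdef]
    have hBcard : B.card = 2 ^ n := by
      rw [← hEcard, hBdef, ← Fintype.card_subtype, ← Nat.card_eq_fintype_card]
      refine Nat.card_eq_of_bijective (fun b => (⟨_, b.2⟩ : E)) ⟨fun b b' e => ?_, ?_⟩
      · exact Subtype.ext (TS_inj hF (mul_left_cancel (mul_right_cancel (congrArg Subtype.val e)))).2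
      · rintro ⟨g, hg⟩
        obtain ⟨b, rfl⟩ := hB g hg
        exact ⟨⟨b, hg⟩, rfl⟩
    have hB0 : (0 : F) ∈ B := hmem.2 (by rw [TS_zero' hF, mul_one, mul_inv_cancel]; exact one_mem _)
    have h4 : 2 ^ 2 ≤ 2 ^ n := Nat.pow_le_pow_right (by norm_num) hn
    obtain ⟨b0, hb0, hb00⟩ : ∃ b ∈ B, b ≠ 0 := by
      by_contra hno
      push Not at hno
      have : B.card ≤ 1 := Finset.card_le_one.2 fun x hx y hy => (hno x hx).trans (hno y hy).symm
      omega
    -- the multipliers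
    let L : Subgroup Fˣ :=
      { carrier := {l | ∀ b, (l : F) * b ∈ B ↔ b ∈ B}
        one_mem' := fun b => by rw [Units.val_one, one_mul]
        mul_mem' := fun {l l'} h h' b => by rw [Units.val_mul, mul_assoc]; exact (h _).trans (h' _)
        inv_mem' := fun {l} h b => by
          refine (h _).symm.trans ?_
          rw [← mul_assoc, ← Units.val_mul, mul_inv_cancel, Units.val_one, one_mul] }
    have hLmem : ∀ {l}, l ∈ L ↔ ∀ b, (l : F) * b ∈ B ↔ b ∈ B := fun {l} => Iff.rfl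
    have hkey : ∀ b ∈ B, ∀ hb : b ≠ 0, Units.mk0 (b / b0) (div_ne_zero hb hb00) ∈ L := by
      intro b hb hbne
      obtain ⟨k, hk⟩ := exists_kth_eq (m := m) hF (div_ne_zero hbne hb00)
      set x := c * HS hF k * c⁻¹ with hx
      have hconj : ∀ b', x * (c * TS hF 0 b' * c⁻¹) * x⁻¹ = c * TS hF 0 (b / b0 * b') * c⁻¹ := by
        intro b'
        rw [← hk, show x * (c * TS hF 0 b' * c⁻¹) * x⁻¹ = c * (HS hF k * TS hF 0 b' * (HS hF k)⁻¹) * c⁻¹ by
          rw [hx]; group, H_conj_T hF, mul_zero]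
      have hx1 : x ∈ Subgroup.normalizer (E : Set (Cfsg.Sz F m)) := by
        refine hTI x fun hbot => ?_
        have hmem2 : c * TS hF 0 b * c⁻¹ ∈ E ⊓ E.map (MulAut.conj x).toMonoidHom := by
          refine Subgroup.mem_inf.2 ⟨hmem.1 hb, c * TS hF 0 b0 * c⁻¹, hmem.1 hb0, ?_⟩
          show x * _ * x⁻¹ = _
          rw [hconj, div_mul_cancel₀ _ hb00]
        rw [hbot, Subgroup.mem_bot, conj_eq_one_iff] at hmem2
        exact hbne (TS_inj hF (hmem2.trans (TS_zero' hF).symm)).2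
      refine hLmem.2 fun b' => ?_
      rw [hmem, hmem, Units.val_mk0, ← hconj]
      exact ((Subgroup.mem_normalizer_iff.1 hx1) _).symm
    have hLcard : Nat.card L + 1 = 2 ^ n := by
      rw [← hBcard, show B = insert 0 ((Finset.univ.filter fun l => l ∈ L).image fun l : Fˣ => (l : F) * b0) by
        ext b
        simp only [Finset.mem_insert, Finset.mem_image, Finset.mem_filter, Finset.mem_univ, true_and]
        constructor
        · intro hb
          by_cases hb' : b = 0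
          · exact Or.inl hb'
          · exact Or.inr ⟨_, hkey b hb hb', by rw [Units.val_mk0, div_mul_cancel₀ _ hb00]⟩
        · rintro (rfl | ⟨l, hl, rfl⟩)
          exacts [hB0, (hLmem.1 hl b0).2 hb0],
        Finset.card_insert_of_notMem, Finset.card_image_of_injective, ← Fintype.card_subtype,
        ← Nat.card_eq_fintype_card]
      · exact fun l l' e => Units.ext (mul_right_cancel₀ hb00 e)
      · simp only [Finset.mem_image, not_exists, not_and]
        exact fun l _ => mul_ne_zero l.ne_zero hb00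
    have h1 : Nat.card L ∣ Fintype.card F - 1 := by
      rw [← Fintype.card_units, ← Nat.card_eq_fintype_card]
      exact Subgroup.card_subgroup_dvd_card L
    rw [show Nat.card L = 2 ^ n - 1 by omega, hF] at h1
    have h2 := Nat.pow_sub_one_gcd_pow_sub_one 2 n (2 * m + 1)
    rw [Nat.gcd_eq_left h1] at h2
    have h3 : 2 ^ n = 2 ^ Nat.gcd n (2 * m + 1) := by
      have := Nat.one_le_two_pow (n := n)
      have := Nat.one_le_two_pow (n := Nat.gcd n (2 * m + 1))
      omega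
    rw [Nat.pow_right_injective le_rfl h3]
    exact Nat.gcd_dvd_right _ _
  · intro hd
    let E : Subgroup (Cfsg.Sz F m) :=
      { carrier := {g | ∃ b, InF n b ∧ g = TS hF 0 b}
        one_mem' := ⟨0, InF.zero, (TS_zero' hF).symm⟩
        mul_mem' := fun {u v} ⟨b, hb, e⟩ ⟨b', hb', e'⟩ => ⟨b + b', InF.add hF hb hb', by
          rw [e, e', TS_mul' hF, mul_zero, add_zero, add_zero]⟩
        inv_mem' := fun {u} ⟨b, hb, e⟩ => ⟨b, hb, by rw [e, TS_inv' hF, mul_zero, add_zero]⟩ }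
    refine ⟨E, ⟨⟨⟨?_⟩⟩, ?_⟩, ?_, ?_⟩
    · rintro ⟨_, b, hb, rfl⟩ ⟨_, b', hb', rfl⟩
      apply Subtype.ext
      show TS hF 0 b * TS hF 0 b' = TS hF 0 b' * TS hF 0 b
      rw [TS_mul' hF, TS_mul' hF, add_comm b]
    · rintro _ ⟨b, hb, rfl⟩
      rw [sq, TS_sq' hF, mul_zero, TS_zero' hF]
    · rw [← card_inF hF hd]
      refine (Nat.card_eq_of_bijective (fun b : {b : F // InF n b} => (⟨TS hF 0 b.1, b.1, b.2, rfl⟩ : E))
        ⟨fun b b' e => Subtype.ext (TS_inj hF (congrArg Subtype.val e)).2, ?_⟩).symm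
      rintro ⟨_, b, hb, rfl⟩
      exact ⟨⟨b, hb⟩, rfl⟩
    · intro x hx
      obtain ⟨g, hg, hg1⟩ := (Subgroup.bot_or_exists_ne_one _).resolve_left hx
      obtain ⟨⟨b, hb, rfl⟩, ⟨_, ⟨b', hb', rfl⟩, hxe⟩⟩ := Subgroup.mem_inf.1 hg
      have hxe' : x * TS hF 0 b' * x⁻¹ = TS hF 0 b := hxe
      obtain ⟨p, -, hp⟩ := two_fix hm hF hg1 (isTwo_of_mem_U hF (TS_mem_U hF 0 b))
      have hfix : x • oInf F m = oInf F m := by
        refine (hp _ ?_).trans (hp _ (TS_smul_inf hF 0 b)).symm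
        rw [← hxe', mul_smul, mul_smul, inv_smul_smul, TS_smul_inf hF]
      obtain ⟨u, v, k, rfl⟩ := (mem_stab_inf hm hF).1 (smul_inf_iff.1 hfix)
      have hconj : ∀ d, TS hF u v * HS hF k * TS hF 0 d * (TS hF u v * HS hF k)⁻¹ =
          TS hF 0 (th m (k : F) * k * d) := by
        intro d
        rw [mul_assoc (TS hF u v), H_conj_T' hF, mul_zero, _root_.mul_inv_rev]
        calc TS hF u v * (TS hF 0 (th m (k : F) * k * d) * HS hF k) * ((HS hF k)⁻¹ * (TS hF u v)⁻¹)
            = (TS hF u v * TS hF 0 (th m (k : F) * k * d)) * (TS hF u v)⁻¹ := by group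
          _ = (TS hF 0 (th m (k : F) * k * d) * TS hF u v) * (TS hF u v)⁻¹ := by
              rw [show TS hF u v * TS hF 0 (th m (k : F) * k * d) = TS hF 0 (th m (k : F) * k * d) * TS hF u v from
                Subtype.ext (T_zero_comm hS u v _).symm]
          _ = _ := mul_inv_cancel_right _ _
      rw [hconj] at hxe'
      have hb'' := (TS_inj hF hxe').2
      have hb0 : b' ≠ 0 := fun e => by
        rw [e, mul_zero] at hb''
        exact hg1 (by rw [← hb'', TS_zero' hF])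
      have hkk : InF n (th m (k : F) * k) := by
        rw [show th m (k : F) * k = b * b'⁻¹ by rw [← hb'']; field_simp]
        exact hb.mul hb'.inv
      have hkk0 : th m (k : F) * k ≠ 0 := mul_ne_zero (fun e => k.ne_zero (th_eq_zero hS e)) k.ne_zero
      refine Subgroup.mem_normalizer_iff.2 fun y => ⟨?_, ?_⟩
      · rintro ⟨d, hd', rfl⟩
        exact ⟨_, hkk.mul hd', hconj d⟩
      · rintro ⟨d, hd', e⟩
        refine ⟨(th m (k : F) * k)⁻¹ * d, hkk.inv.mul hd', ?_⟩
        apply (MulAut.conj (TS hF u v * HS hF k)).injective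
        rw [MulAut.conj_apply, MulAut.conj_apply, e, hconj, mul_inv_cancel_left₀ hkk0]

end CfsgLib.Lie.Suz
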