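import Cfsg.Agent.Lib.Lie.Suz.Sub.Orbit
import Mathlib.Tactic.LinearCombination

/-!
# The subgroups of the Suzuki group

Every subgroup fixes a point, normalises the centraliser of an element which is not a 2-element, or is
conjugate to a subfield subgroup.
-/

set_option autoImplicit false
set_option maxHeartbeats 1600000

namespace CfsgLib.Lie.Suz

open Cfsg
open scoped MatrixGroups Pointwise

/-- arithmetic for one further class -/
theorem arith_single {N K s e a DA R : ℤ} (hN : N = 1 + K * s) (hK : 1 ≤ K) (he : 7 ≤ e) (hs : e + 1 ≤ s)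
    (hDA : 2 * DA + N * s = N * s * e) (hR : DA + R + 1 + N * s = N * s * e + N)
    (hcl : 2 * a * R = N * s * e * (a - 1)) (hp : DA * e + R * a + N * e * e = N * e * (N * e)) :
    s = e + 1 ∧ a = e + 2 := by
  have hN0 : N ≠ 0 := by rw [hN]; nlinarith
  have hs0 : s ≠ 0 := by omega
  have h1 : N * (a - e) = 2 * a * K := by
    apply mul_left_cancel₀ hs0
    linear_combination -hcl + a * hR * 2 - a * hDA + 2 * a * hN
  have h2 : a = 2 * e * K - e + 2 := by
    have : (N * s * e) * (2 * e * K - e + 2 - a) = 0 := by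
      linear_combination -2 * hp + e * hDA + hcl - 2 * N * e * e * hN
    rcases mul_eq_zero.1 this with h | h
    · exact absurd h (mul_ne_zero (mul_ne_zero hN0 hs0) (by omega))
    · linarith
  subst hN
  subst h2
  have h3 : (1 + K * s) * (e * K - e + 1) = K * (2 * e * K - e + 2) := by nlinarith
  by_cases hK1 : K = 1
  · subst hK1
    constructor <;> linarith
  · exfalso
    have hK2 : 2 ≤ K := by omega
    have h4 : 0 < e * K - e + 1 := by nlinarith
    have h5 : K * (e + 1) * (e * K - e + 1) ≤ (1 + K * s) * (e * K - e + 1) :=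
      mul_le_mul_of_nonneg_right (by nlinarith) h4.le
    nlinarith [mul_le_mul_of_nonneg_left (show (1 : ℤ) ≤ K - 1 by omega) (show (0 : ℤ) ≤ e * (e - 1) by nlinarith)]

/-- arithmetic for two further classes -/
theorem arith_two {N K s e a b DA DB DC R : ℤ} (hN : N = 1 + K * s) (hK : 1 ≤ K) (he : 7 ≤ e)
    (hDA : 2 * DA + N * s = N * s * e) (hR : DA + R + 1 + N * s = N * s * e + N) (hBC : R = DB + DC)
    (hB : 4 * a * DB = N * s * e * (a - 1)) (hC : 4 * b * DC = N * s * e * (b - 1))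
    (hp : DA * e + DB * a + DC * b + N * e * e = N * e * (N * e)) (hs : 0 < s) :
    a + b = 4 * e * K - 2 * e + 4 ∧ N * (2 * a * b - e * (a + b)) = 4 * a * b * K := by
  have hN0 : N ≠ 0 := by rw [hN]; nlinarith
  constructor
  · have : (N * s * e) * (4 * e * K - 2 * e + 4 - (a + b)) = 0 := by
      linear_combination -4 * hp + 2 * e * hDA + hB + hC - 4 * N * e * e * hN
    rcases mul_eq_zero.1 this with h | h
    · exact absurd h (mul_ne_zero (mul_ne_zero hN0 hs.ne') (by omega))
    · linarith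
  · subst hBC
    apply mul_left_cancel₀ hs.ne'
    linear_combination 4 * a * b * hR - 2 * a * b * hDA - b * hB - a * hC + 4 * a * b * hN

theorem fin_eq {a b e K s : ℤ} (h : a * b = 1 + K * s)
    (h4 : 2 * a * b - e * (4 * e * K - 2 * e + 4) = 4 * K) :
    K * (2 * e * e + 2 - s) = (e - 1) * (e - 1) := by
  apply mul_left_cancel₀ (two_ne_zero (α := ℤ))
  linear_combination -h4 + 2 * h

theorem fin_not_small {e K : ℤ} (he : 7 ≤ e) (hK : 1 ≤ K)
    (h : K * (2 * e * e + 2 - (e + 1)) = (e - 1) * (e - 1)) : False := by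
  have h1 : 1 * (2 * e * e + 2 - (e + 1)) ≤ K * (2 * e * e + 2 - (e + 1)) :=
    mul_le_mul_of_nonneg_right hK (by nlinarith)
  nlinarith

theorem fin_full {e K : ℤ} (he : 7 ≤ e) (h : K * (2 * e * e + 2 - (e + 1) * (e + 1)) = (e - 1) * (e - 1)) :
    K = 1 := by
  have : (K - 1) * ((e - 1) * (e - 1)) = 0 := by linear_combination h
  rcases mul_eq_zero.1 this with h0 | h0
  · linarith
  · nlinarith

/-- a class is not small -/
theorem class_big {d f a g k : ℕ} (hf : f ≤ k) (h5 : 5 ≤ a) (he : d * f * a + g = g * a) :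
    4 * g ≤ 5 * k * d := by
  refine Nat.le_of_mul_le_mul_right ?_ (show 0 < a by omega)
  have h1 : d * f * a ≤ d * k * a := Nat.mul_le_mul_right a (Nat.mul_le_mul_left _ hf)
  have h2 : 5 * g ≤ a * g := Nat.mul_le_mul_right g h5
  nlinarith

theorem four_small {d a g : ℕ} (hg : 0 < g) (he : d * 4 * a + g = g * a) : 4 * d < g := by
  refine Nat.lt_of_mul_lt_mul_right (a := a) ?_
  nlinarith

theorem dvd_four {f : ℕ} (h : f ∣ 4) : f = 1 ∨ f = 2 ∨ f = 4 := by
  have h4 : f ≤ 4 := Nat.le_of_dvd (by norm_num) h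
  interval_cases f <;> simp_all

variable {F : Type*} [Field F] [Fintype F] {m : ℕ}

theorem DM_mem {M : Subgroup (Cfsg.Sz F m)} {x y : Cfsg.Sz F m} (hy : y ∈ DM M x) : y ∈ M := by
  obtain ⟨h, hh, u, hu, -, rfl⟩ := hy
  exact mul_mem (mul_mem hh (Subgroup.mem_inf.1 hu).2) (inv_mem hh)

variable (hm : 1 ≤ m) (hF : Fintype.card F = 2 ^ (2 * m + 1))
include hm hF

namespace NForm

variable {M : Subgroup (Cfsg.Sz F m)} {n : ℕ}

theorem three_not_card (_h : NForm hF M n) : ¬ 3 ∣ Nat.card M := fun h3 =>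
  three_not_dvd hm hF (h3.trans (Subgroup.card_subgroup_dvd_card M))

/-- two involutions whose product is a 2-element commute -/
theorem invol_comm {z z' : Cfsg.Sz F m} (hz : z * z = 1) (hz' : z' * z' = 1) (hz1 : z ≠ 1) (hz1' : z' ≠ 1)
    (h : NForm hF M n) (hM : z ∈ M) (hM' : z' ∈ M) (ht : IsTwo (z * z')) : z * z' = z' * z := by
  by_cases hx1 : z * z' = 1
  · rw [show z' = z from (eq_inv_of_mul_eq_one_right hx1).trans (inv_eq_of_mul_eq_one_right hz)]
  obtain ⟨p, hp, hpu⟩ := two_fix hm hF hx1 ht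
  have hzi : z⁻¹ = z := inv_eq_of_mul_eq_one_right hz
  have hzi' : z'⁻¹ = z' := inv_eq_of_mul_eq_one_right hz'
  have hzp : z • p = p := by
    refine hpu _ ?_
    have e : z * z' * z = z * (z * z')⁻¹ := by
      rw [_root_.mul_inv_rev, hzi, hzi', ← mul_assoc]
    rw [← mul_smul, e, mul_smul, inv_smul_eq_iff.2 hp.symm]
  have hzp' : z' • p = p := by
    rw [mul_smul] at hp
    exact MulAction.injective z (hp.trans hzp.symm)
  haveI : MulAction.IsPretransitive (Cfsg.Sz F m) (suzukiOvoid F m) := by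
    haveI := two_trans hF (m := m)
    exact MulAction.isPretransitive_of_is_two_pretransitive
  obtain ⟨c, hc⟩ := MulAction.exists_smul_eq (Cfsg.Sz F m) p (oInf F m)
  have key : ∀ w : Cfsg.Sz F m, w * w = 1 → w • p = p → ∃ b, c * w * c⁻¹ = TS hF 0 b := by
    intro w hw hwp
    obtain ⟨a, b, hab⟩ := mem_U_of_two hm hF (IsTwo.conj ⟨1, by rw [pow_one, sq, hw]⟩ c)
      (show (c * w * c⁻¹) • oInf F m = oInf F m by rw [mul_smul, mul_smul, ← hc, inv_smul_smul, hwp])
    have e : c * w * c⁻¹ = TS hF a b := Subtype.ext hab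
    have h2 : (TS hF a b : Cfsg.Sz F m) * TS hF a b = 1 := by
      rw [← e]
      calc c * w * c⁻¹ * (c * w * c⁻¹) = c * (w * w) * c⁻¹ := by group
        _ = 1 := by rw [hw, mul_one, mul_inv_cancel]
    rw [TS_sq' hF, ← TS_zero' hF] at h2
    rcases mul_eq_zero.1 (TS_inj hF h2).2 with h0 | h0
    · exact ⟨b, by rw [e, th_eq_zero (isSuzField hF) h0]⟩
    · exact ⟨b, by rw [e, h0]⟩
  obtain ⟨b, hb⟩ := key z hz hzp
  obtain ⟨b', hb'⟩ := key z' hz' hzp'
  apply (MulAut.conj c).injective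
  simp only [map_mul, MulAut.conj_apply, hb, hb', TS_mul' hF, add_comm b b', add_zero,
    th_zero (isSuzField hF), mul_zero]

/-- commuting involutions have the same fixed point -/
theorem comm_card (h : NForm hF M n) (hnofix : ¬ ∃ a : suzukiOvoid F m, ∀ g ∈ M, g • a = a)
    {z : Cfsg.Sz F m} (hz : z ∈ M) (hzo : orderOf z = 2) :
    Nat.card {z' : Cfsg.Sz F m // z' ∈ M ∧ orderOf z' = 2 ∧ z * z' = z' * z} = 2 ^ n - 1 := by
  have h01 : TS hF 0 1 ∈ M := (h.centre 1).2 InF.one
  have ho1 : orderOf (TS hF 0 1 : Cfsg.Sz F m) = 2 := by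
    refine orderOf_eq_prime ?_ (fun e => one_ne_zero (TS_inj hF (e.trans (TS_zero' hF).symm)).2)
    rw [sq, TS_sq' hF, th_zero (isSuzField hF), mul_zero, TS_zero' hF]
  obtain ⟨g, hg, rfl⟩ := invol_conj hm hF hnofix h01 hz ho1 hzo
  rw [← h.card_invol_U hm hF]
  refine (Nat.card_eq_of_bijective (fun u : {u : Cfsg.Sz F m // u ∈ M ⊓ U hF ∧ u ≠ 1 ∧ u * u = 1} =>
    (⟨g * u.1 * g⁻¹, mul_mem (mul_mem hg (Subgroup.mem_inf.1 u.2.1).1) (inv_mem hg),
      orderOf_eq_prime (by rw [conj_pow, sq, u.2.2.2, mul_one, mul_inv_cancel])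
        (fun e => u.2.2.1 (conj_eq_one_iff.1 e)), by
      obtain ⟨⟨-, a, b, hab⟩, -, -⟩ := u.2
      have hc : TS hF 0 1 * u.1 = u.1 * TS hF 0 1 := by
        rw [show u.1 = TS hF a b from Subtype.ext hab]
        exact Subtype.ext (T_zero_comm (isSuzField hF) a b 1)
      calc g * TS hF 0 1 * g⁻¹ * (g * u.1 * g⁻¹) = g * (TS hF 0 1 * u.1) * g⁻¹ := by group
        _ = g * (u.1 * TS hF 0 1) * g⁻¹ := by rw [hc]
        _ = _ := by group⟩ :
      {z' : Cfsg.Sz F m // z' ∈ M ∧ orderOf z' = 2 ∧ g * TS hF 0 1 * g⁻¹ * z' = z' * (g * TS hF 0 1 * g⁻¹)}))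
    ⟨?_, ?_⟩).symm
  · intro u u' e
    exact Subtype.ext (mul_left_cancel (mul_right_cancel (congrArg Subtype.val e)))
  · rintro ⟨z', hz', ho', hc⟩
    have hc' : (g⁻¹ * z' * g) * TS hF 0 1 = TS hF 0 1 * (g⁻¹ * z' * g) := by
      calc (g⁻¹ * z' * g) * TS hF 0 1 = g⁻¹ * (z' * (g * TS hF 0 1 * g⁻¹)) * g := by group
        _ = g⁻¹ * (g * TS hF 0 1 * g⁻¹ * z') * g := by rw [hc]
        _ = _ := by group
    have h2 : (g⁻¹ * z' * g) * (g⁻¹ * z' * g) = 1 := by
      calc (g⁻¹ * z' * g) * (g⁻¹ * z' * g) = g⁻¹ * (z' * z') * g := by group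
        _ = 1 := by rw [← sq, ← ho', pow_orderOf_eq_one, mul_one, inv_mul_cancel]
    have hne : g⁻¹ * z' * g ≠ 1 := fun e => by
      rw [show z' = 1 from conj_eq_one_iff.1 (show g⁻¹ * z' * g⁻¹⁻¹ = 1 by rwa [inv_inv]), orderOf_one] at ho'
      exact absurd ho' (by norm_num)
    obtain ⟨p, hp, hpu⟩ := two_fix hm hF (g := TS hF 0 1)
      (fun e => by rw [e, orderOf_one] at ho1; exact absurd ho1 (by norm_num))
      ⟨1, orderOf_dvd_iff_pow_eq_one.1 (dvd_of_eq (ho1.trans (pow_one 2).symm))⟩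
    have hfix : (g⁻¹ * z' * g) • oInf F m = oInf F m :=
      (hpu _ (centralizer_maps_fixed hF hc' (TS_smul_inf hF 0 1))).trans (hpu _ (TS_smul_inf hF 0 1)).symm
    refine ⟨⟨g⁻¹ * z' * g, Subgroup.mem_inf.2 ⟨mul_mem (mul_mem (inv_mem hg) hz') hg,
      mem_U_of_two hm hF ⟨1, by rw [pow_one, sq, h2]⟩ hfix⟩, hne, h2⟩, Subtype.ext ?_⟩
    show g * (g⁻¹ * z' * g) * g⁻¹ = z'
    group

/-- the main count: the translations are full, and the orbit is as small as possible -/
theorem orbit_eq (h : NForm hF M n) (hnofix : ¬ ∃ a : suzukiOvoid F m, ∀ g ∈ M, g • a = a) :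
    (∀ a b : F, TS hF a b ∈ M ↔ InF n a ∧ InF n b) ∧ Nat.card (OInf M) = 1 + 2 ^ n * 2 ^ n ∧
      ∃ w ∈ M, w • oInf F m = oZero F m ∧ w • oZero F m = oInf F m := by
  classical
  haveI : Fintype (Cfsg.Sz F m) := Fintype.ofFinite _
  obtain ⟨K, hK, hN⟩ := h.exists_K hm hF hnofix
  have hg := h.card_eq hm hF
  set N := Nat.card (OInf M) with hNdef
  set s' := Nat.card ↥(M ⊓ U hF) with hsdef
  set e := 2 ^ n - 1 with hedef
  have he7 : 7 ≤ e := h.seven_le hm hF
  have hs1 : e + 1 = 2 ^ n := by omega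
  have hss : s' = e + 1 ∨
      ((∀ a b : F, TS hF a b ∈ M ↔ InF n a ∧ InF n b) ∧ s' = (e + 1) * (e + 1)) := by
    rcases h.card_MU hm hF with hc | ⟨hc, hc'⟩
    · exact Or.inl (by rw [hs1, ← hc])
    · exact Or.inr ⟨hc, by rw [hs1, ← hc']⟩
  have hs8 : e + 1 ≤ s' := by
    rcases hss with hc | ⟨-, hc⟩ <;> rw [hc]
    exact Nat.le_mul_of_pos_left _ (by omega)
  set S := Finset.univ.filter fun z : Cfsg.Sz F m => z ∈ M ∧ ¬ IsTwo z with hSdef
  -- the number of elements which are not 2-elements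
  have hScard : S.card + 1 + N * s' = N * s' * e + N := by
    have h1 : (Finset.univ.filter fun z : Cfsg.Sz F m => z ∈ M ∧ z ≠ 1 ∧ IsTwo z).card + N = N * s' := by
      have h2 := h.count_two hm hF hnofix (fun _ => True) (fun _ _ _ => trivial)
      have h3 : Nat.card {u : Cfsg.Sz F m // u ∈ M ⊓ U hF ∧ u ≠ 1 ∧ True} + 1 = s' := by
        rw [hsdef, Nat.card_eq_fintype_card, Nat.card_eq_fintype_card, Fintype.card_subtype,
          Fintype.card_subtype]
        rw [show (Finset.univ.filter fun u : Cfsg.Sz F m => u ∈ M ⊓ U hF ∧ u ≠ 1 ∧ True) =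
          (Finset.univ.filter fun u : Cfsg.Sz F m => u ∈ M ⊓ U hF).erase 1 by
            ext u; simp [and_comm, and_left_comm],
          Finset.card_erase_of_mem (by simp [one_mem]), Nat.sub_add_cancel]
        exact Finset.card_pos.2 ⟨1, by simp [one_mem]⟩
      simp only [and_true] at h2 h3
      rw [Nat.card_eq_fintype_card, Fintype.card_subtype] at h2
      rw [h2, ← h3, mul_add, mul_one]
    have h2 : (Finset.univ.filter fun z : Cfsg.Sz F m => z ∈ M).card = N * s' * e := by
      rw [← hg, Nat.card_eq_fintype_card, Fintype.card_subtype]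
    have h3 : (Finset.univ.filter fun z : Cfsg.Sz F m => z ∈ M) =
        insert 1 (S ∪ Finset.univ.filter fun z : Cfsg.Sz F m => z ∈ M ∧ z ≠ 1 ∧ IsTwo z) := by
      ext z
      simp only [hSdef, Finset.mem_filter, Finset.mem_univ, true_and, Finset.mem_insert, Finset.mem_union]
      constructor
      · intro hz
        by_cases h1 : z = 1
        · exact Or.inl h1
        by_cases ht : IsTwo z
        · exact Or.inr (Or.inr ⟨hz, h1, ht⟩)
        · exact Or.inr (Or.inl ⟨hz, ht⟩)
      · rintro (rfl | ⟨hz, -⟩ | ⟨hz, -⟩)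
        exacts [one_mem _, hz, hz]
    rw [h3, Finset.card_insert_of_notMem, Finset.card_union_of_disjoint] at h2
    · omega
    · rw [Finset.disjoint_left]
      intro z hz hz'
      simp only [hSdef, Finset.mem_filter] at hz hz'
      exact hz.2.2 hz'.2.2.2
    · simp only [hSdef, Finset.mem_union, Finset.mem_filter, Finset.mem_univ, true_and]
      rintro (⟨-, hz⟩ | ⟨-, hz, -⟩)
      exacts [hz ⟨0, by simp⟩, hz rfl]
  -- classes
  set D := fun x : Cfsg.Sz F m => Finset.univ.filter fun y => y ∈ DM M x with hDdef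
  have hDS : ∀ x ∈ S, D x ⊆ S := by
    intro x hx y hy
    simp only [hSdef, hDdef, Finset.mem_filter, Finset.mem_univ, true_and] at hx hy ⊢
    exact ⟨(DM_spec hm hF hx.2 hy).1, (DM_spec hm hF hx.2 hy).2.1⟩
  have hcls : ∀ x ∈ S, ∃ f a : ℕ, f ∣ 4 ∧ 5 ≤ a ∧ ¬ 2 ∣ a ∧ a ∣ N * s' * e ∧
      Nat.card ↥(CM M x) = a ∧ Nat.card ↥(NM M x) = f * a ∧
      (D x).card * f * a + N * s' * e = N * s' * e * a := by
    intro x hx
    simp only [hSdef, Finset.mem_filter, Finset.mem_univ, true_and] at hx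
    obtain ⟨f, hf, hfc⟩ := NM_index hm hF (M := M) hx.2
    obtain ⟨hodd, h5⟩ := CM_card hm hF hx.1 hx.2
    refine ⟨f, _, hf, h5, hodd, hg ▸ Subgroup.card_dvd_of_le inf_le_right, rfl, hfc, ?_⟩
    have h1 := card_DM hm hF (M := M) hx.2
    rw [hfc, hg] at h1
    rw [mul_assoc ((D x).card), h1, Nat.mul_sub, mul_one, Nat.sub_add_cancel (Nat.le_mul_of_pos_right _ (by omega))]
  have hdisj : ∀ x ∈ S, ∀ x' ∈ S, x' ∉ DM M x → Disjoint (D x) (D x') := by
    intro x hx x' hx' hne
    simp only [hSdef, Finset.mem_filter, Finset.mem_univ, true_and] at hx hx'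
    rw [Finset.disjoint_left]
    intro y hy hy'
    simp only [hDdef, Finset.mem_filter, Finset.mem_univ, true_and] at hy hy'
    exact hne (DM_symm hm hF hx.2 hx'.2 hx'.1 hy hy')
  -- the torus class
  obtain ⟨⟨k, hkF⟩, hk1⟩ : ∃ k : {k : Fˣ // InF n (k : F)}, k ≠ ⟨1, InF.one⟩ := by
    haveI : Fintype {k : Fˣ // InF n (k : F)} := Fintype.ofFinite _
    refine Fintype.exists_ne_of_one_lt_card ?_ _
    rw [← Nat.card_eq_fintype_card, card_inF_units hF h.dvd]
    omega
  have hk1 : k ≠ 1 := fun hk => hk1 (Subtype.ext hk)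
  have hxA : HS hF k ∈ S := by
    simp only [hSdef, Finset.mem_filter, Finset.mem_univ, true_and]
    exact ⟨(h.torus k).2 hkF, not_two_HS hF hm hk1⟩
  have hCMA := h.card_CM_torus hm hF hk1
  obtain ⟨f, a, hf4, -, -, -, ha, hfA, hDA⟩ := hcls _ hxA
  obtain rfl : a = e := ha.symm.trans hCMA
  have hN2 : 2 ≤ N := by rw [hN]; have := Nat.mul_pos (show 0 < K by omega) (show 0 < s' by omega); omega
  have hNs : 8 * N ≤ N * s' := by rw [mul_comm]; exact Nat.mul_le_mul_left N (by omega)
  have hNse : N * s' * 7 ≤ N * s' * e := Nat.mul_le_mul_left _ he7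
  -- any class is big
  have hbig : ∀ x ∈ S, N * s' * e ≤ 5 * (D x).card := by
    intro x hx
    obtain ⟨f, a, hf, h5, -, -, -, -, he⟩ := hcls x hx
    have := class_big (k := 4) (Nat.le_of_dvd (by norm_num) hf) h5 he
    omega
  rcases h.NM_torus hm hF hk1 hkF with hNC | ⟨hNle, w, hw, hwi, hwz⟩
  · -- no element inverts the torus
    exfalso
    rw [hNC, hCMA] at hfA
    obtain rfl : f = 1 := Nat.eq_of_mul_eq_mul_right (show 0 < e by omega) (by rw [one_mul]; exact hfA.symm)
    rw [mul_one] at hDA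
    have hDA' : (D (HS hF k)).card + N * s' = N * s' * e := by
      apply Nat.eq_of_mul_eq_mul_right (show 0 < e by omega)
      rw [add_mul]
      linarith
    by_cases hex : ∃ x ∈ S, x ∉ DM M (HS hF k)
    · obtain ⟨x, hx, hxn⟩ := hex
      have h1 := hbig x hx
      have h2 := Finset.card_le_card (Finset.union_subset (hDS _ hxA) (hDS _ hx))
      rw [Finset.card_union_of_disjoint (hdisj _ hxA _ hx hxn)] at h2
      omega
    · push Not at hex
      have : S = D (HS hF k) := Finset.Subset.antisymm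
        (fun x hx => Finset.mem_filter.2 ⟨Finset.mem_univ _, hex x hx⟩) (hDS _ hxA)
      rw [this] at hScard
      omega
  -- `f = 2`
  have hf2 : f ≤ 2 := by
    rw [hfA, hCMA] at hNle
    exact Nat.le_of_mul_le_mul_right hNle (by omega)
  rcases (show f = 1 ∨ f = 2 by
      have := dvd_four hf4
      omega) with rfl | rfl
  · exfalso
    have hwN : w ∈ NM M (HS hF k) := by
      refine Subgroup.mem_inf.2 ⟨?_, hw⟩
      obtain ⟨l, hl⟩ : ∃ l : Fˣ, WS hF * w = HS hF l := (mem_stab_pair hm hF).1 (Subgroup.mem_inf.2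
        ⟨MulAction.mem_stabilizer_iff.2 (congrArg Subtype.val
          (show (WS hF * w) • oInf F m = oInf F m by rw [mul_smul, hwi, WS_smul_zero hF])),
         MulAction.mem_stabilizer_iff.2 (congrArg Subtype.val
          (show (WS hF * w) • oZero F m = oZero F m by rw [mul_smul, hwz, WS_smul_inf hF]))⟩)
      have hwx : w * HS hF k * w⁻¹ = (HS hF k)⁻¹ := by
        have e1 : w = WS hF * HS hF l := by rw [← hl, ← mul_assoc, WS_sq hF, one_mul]
        rw [e1]
        calc WS hF * HS hF l * HS hF k * (WS hF * HS hF l)⁻¹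
            = WS hF * (HS hF l * HS hF k * (HS hF l)⁻¹) * (WS hF)⁻¹ := by group
          _ = WS hF * HS hF k * (WS hF)⁻¹ := by
              rw [← HS_mul hF, mul_comm l k, HS_mul hF, mul_inv_cancel_right]
          _ = WS hF * HS hF k * WS hF := by rw [inv_eq_of_mul_eq_one_right (WS_sq hF)]
          _ = _ := by rw [← HS_inv hF]; exact Subtype.ext (WHW k)
      have h1 : (Subgroup.centralizer ({HS hF k} : Set (Cfsg.Sz F m))).map (MulAut.conj w).toMonoidHom =
          Subgroup.centralizer {HS hF k} := by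
        rw [← centralizer_conj, hwx]
        ext y
        rw [Subgroup.mem_centralizer_singleton_iff, Subgroup.mem_centralizer_singleton_iff]
        exact Commute.inv_right_iff
      refine Subgroup.mem_normalizer_iff.2 fun y => ⟨fun hy => h1 ▸ ⟨y, hy, rfl⟩, fun hy => ?_⟩
      rw [← h1] at hy
      obtain ⟨v, hv, e'⟩ := hy
      exact (MulAut.conj w).injective e' ▸ hv
    have hle : NM M (HS hF k) ≤ CM M (HS hF k) := by
      refine (Subgroup.eq_of_le_of_card_ge (CM_le M _) ?_).ge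
      rw [hfA, one_mul, hCMA]
    obtain ⟨l, -, hl⟩ := (h.CM_torus hm hF hk1 _).1 (hle hwN)
    rw [hl, HS_smul_inf hF] at hwi
    exact inf_ne_zero' hwi
  have hDA2 : 2 * (D (HS hF k)).card + N * s' = N * s' * e := by
    apply Nat.eq_of_mul_eq_mul_right (show 0 < e by omega)
    rw [add_mul]
    linarith
  -- the pairs of involutions
  set I := Finset.univ.filter fun z : Cfsg.Sz F m => z ∈ M ∧ orderOf z = 2 with hIdef
  have hI : I.card = N * e := by
    have h2 := h.count_two hm hF hnofix (fun z => z * z = 1) (fun c x hx => by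
      calc c * x * c⁻¹ * (c * x * c⁻¹) = c * (x * x) * c⁻¹ := by group
        _ = 1 := by rw [hx, mul_one, mul_inv_cancel])
    rw [h.card_invol_U hm hF] at h2
    rw [← h2, Nat.card_eq_fintype_card, Fintype.card_subtype, hIdef]
    congr 1
    ext z
    simp only [Finset.mem_filter, Finset.mem_univ, true_and]
    constructor
    · rintro ⟨hz, ho⟩
      refine ⟨hz, fun e => ?_, ⟨1, orderOf_dvd_iff_pow_eq_one.1 (dvd_of_eq (ho.trans (pow_one 2).symm))⟩,
        by rw [← sq, ← ho, pow_orderOf_eq_one]⟩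
      rw [e, orderOf_one] at ho
      exact absurd ho (by norm_num)
    · rintro ⟨hz, h1, -, hzz⟩
      exact ⟨hz, orderOf_eq_prime (by rw [sq, hzz]) h1⟩
  set P := (I ×ˢ I).filter fun p => p.1 * p.2 ≠ p.2 * p.1 with hPdef
  have hI2 : ∀ {z}, z ∈ I → z ∈ M ∧ z * z = 1 ∧ z ≠ 1 ∧ orderOf z = 2 := by
    intro z hz
    simp only [hIdef, Finset.mem_filter, Finset.mem_univ, true_and] at hz
    refine ⟨hz.1, by rw [← sq, ← hz.2, pow_orderOf_eq_one], fun e => ?_, hz.2⟩
    rw [e, orderOf_one] at hz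
    exact absurd hz.2 (by norm_num)
  have hPcard : P.card + N * e * e = N * e * (N * e) := by
    rw [hPdef]
    have h1 : ((I ×ˢ I).filter fun p => p.1 * p.2 = p.2 * p.1).card = N * e * e := by
      rw [Finset.card_eq_sum_card_fiberwise (f := Prod.fst) (t := I)
        (fun p hp => (Finset.mem_product.1 (Finset.mem_filter.1 hp).1).1)]
      rw [Finset.sum_congr rfl (g := fun _ => e), Finset.sum_const, smul_eq_mul, hI]
      intro z hz
      obtain ⟨hzM, -, -, hzo⟩ := hI2 hz
      rw [hedef, ← h.comm_card hm hF hnofix hzM hzo, Nat.card_eq_fintype_card, Fintype.card_subtype]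
      refine Finset.card_bij' (fun p _ => p.2) (fun z' _ => (z, z')) ?_ ?_ ?_ ?_
      · intro p hp
        simp only [hIdef, Finset.mem_filter, Finset.mem_product, Finset.mem_univ, true_and] at hp ⊢
        obtain ⟨⟨⟨-, h1, h2⟩, h3⟩, rfl⟩ := hp
        exact ⟨h1, h2, h3⟩
      · intro z' hz'
        simp only [hIdef, Finset.mem_filter, Finset.mem_product, Finset.mem_univ, true_and] at hz' ⊢
        exact ⟨⟨⟨⟨hzM, hzo⟩, hz'.1, hz'.2.1⟩, hz'.2.2⟩, trivial⟩
      · intro p hp
        exact Prod.ext (Finset.mem_filter.1 hp).2.symm rfl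
      · intro z' _
        rfl
    have h2 := Finset.card_filter_add_card_filter_not (s := I ×ˢ I) (fun p => p.1 * p.2 = p.2 * p.1)
    rw [h1, Finset.card_product, hI] at h2
    rw [← h2, add_comm]
  let wt := fun x : Cfsg.Sz F m =>
    (Finset.univ.filter fun z => z ∈ M ∧ orderOf z = 2 ∧ z * x * z⁻¹ = x⁻¹).card
  have hsum : P.card = ∑ x ∈ S, wt x := by
    have hmap : ∀ p ∈ P, p.1 * p.2 ∈ S := by
      intro p hp
      simp only [hPdef, Finset.mem_filter, Finset.mem_product] at hp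
      obtain ⟨⟨h1, h2⟩, hne⟩ := hp
      obtain ⟨h1M, h1s, h11, -⟩ := hI2 h1
      obtain ⟨h2M, h2s, h21, -⟩ := hI2 h2
      simp only [hSdef, Finset.mem_filter, Finset.mem_univ, true_and]
      exact ⟨mul_mem h1M h2M, fun ht => hne (invol_comm hm hF h1s h2s h11 h21 h h1M h2M ht)⟩
    rw [Finset.card_eq_sum_card_fiberwise hmap]
    refine Finset.sum_congr rfl fun x hx => ?_
    simp only [hSdef, Finset.mem_filter, Finset.mem_univ, true_and] at hx
    refine Finset.card_bij' (fun p _ => p.1) (fun z _ => (z, z * x)) ?_ ?_ ?_ ?_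
    · intro p hp
      simp only [hPdef, Finset.mem_filter, Finset.mem_product, Finset.mem_univ, true_and] at hp ⊢
      obtain ⟨⟨⟨h1, h2⟩, -⟩, rfl⟩ := hp
      obtain ⟨h1M, h1s, -, h1o⟩ := hI2 h1
      obtain ⟨-, h2s, -, -⟩ := hI2 h2
      refine ⟨h1M, h1o, ?_⟩
      rw [_root_.mul_inv_rev, inv_eq_of_mul_eq_one_right h1s, inv_eq_of_mul_eq_one_right h2s,
        ← mul_assoc p.1, h1s, one_mul]
    · intro z hz
      simp only [Finset.mem_filter, Finset.mem_univ, true_and] at hz
      obtain ⟨hzM, hzo, hzx⟩ := hz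
      have hzz : z * z = 1 := by rw [← sq, ← hzo, pow_orderOf_eq_one]
      have hzi : z⁻¹ = z := inv_eq_of_mul_eq_one_right hzz
      rw [hzi] at hzx
      have hsq : (z * x) * (z * x) = 1 := by
        calc (z * x) * (z * x) = (z * x * z) * x := by group
          _ = 1 := by rw [hzx, inv_mul_cancel]
      simp only [hPdef, hIdef, Finset.mem_filter, Finset.mem_product, Finset.mem_univ, true_and]
      refine ⟨⟨⟨⟨hzM, hzo⟩, mul_mem hzM hx.1, orderOf_eq_prime (by rw [sq, hsq]) ?_⟩, ?_⟩,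
        by rw [← mul_assoc, hzz, one_mul]⟩
      · intro e
        refine hx.2 ⟨1, ?_⟩
        rw [mul_eq_one_iff_inv_eq, hzi] at e
        rw [pow_one, sq, ← e, hzz]
      · intro e
        refine hx.2 ⟨1, ?_⟩
        rw [← mul_assoc, hzz, one_mul] at e
        rw [pow_one, sq]
        calc x * x = x * (z * x * z) := by rw [← e]
          _ = 1 := by rw [hzx, mul_inv_cancel]
    · intro p hp
      simp only [hPdef, Finset.mem_filter, Finset.mem_product] at hp
      obtain ⟨⟨⟨h1, -⟩, -⟩, rfl⟩ := hp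
      refine Prod.ext rfl ?_
      show p.1 * (p.1 * p.2) = p.2
      rw [← mul_assoc, (hI2 h1).2.1, one_mul]
    · intro z _
      rfl
  have hwD : ∀ x ∈ S, ∀ fx ax, Nat.card ↥(CM M x) = ax → Nat.card ↥(NM M x) = fx * ax → 2 ∣ fx →
      ∑ y ∈ D x, wt y = (D x).card * ax := by
    intro x hx fx ax hax hfx h2
    rw [Finset.sum_congr rfl (g := fun _ => ax), Finset.sum_const, smul_eq_mul]
    intro y hy
    simp only [hSdef, hDdef, Finset.mem_filter, Finset.mem_univ, true_and] at hx hy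
    obtain ⟨hyM, hy2, hyc, hyn⟩ := DM_spec hm hF hx.2 hy
    show (Finset.univ.filter fun z => z ∈ M ∧ orderOf z = 2 ∧ z * y * z⁻¹ = y⁻¹).card = ax
    rw [card_inverting hm hF hyM hy2 (f := fx) (by rw [hyn, hyc, hfx, hax]), if_pos h2, hyc, hax]
  have hwA := hwD _ hxA 2 e ha hfA (dvd_refl 2)
  set xA := HS hF k with hxAdef
  -- a second class
  obtain ⟨B, hB, hBA⟩ : ∃ B ∈ S, B ∉ DM M xA := by
    by_contra hex
    push Not at hex
    have hSD : S = D xA := Finset.Subset.antisymm
      (fun x hx => Finset.mem_filter.2 ⟨Finset.mem_univ _, hex x hx⟩) (hDS _ hxA)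
    rw [hSD] at hScard
    omega
  obtain ⟨fB, a, hfB4, ha5, haodd, hag, haB, hfBc, hDB⟩ := hcls B hB
  have hsubAB : D xA ∪ D B ⊆ S := Finset.union_subset (hDS _ hxA) (hDS _ hB)
  have hcardAB : (D xA ∪ D B).card = (D xA).card + (D B).card :=
    Finset.card_union_of_disjoint (hdisj _ hxA _ hB hBA)
  have hltR : (D xA).card + (D B).card ≤ S.card := hcardAB ▸ Finset.card_le_card hsubAB
  have hbigB := hbig B hB
  have hsharp : ∀ x ∈ S, ∀ f a, f * 2 ≤ 4 → (D x).card * f * a + N * s' * e = N * s' * e * a → 5 ≤ a →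
      2 * (N * s' * e) ≤ 5 * (D x).card := by
    intro x _ f a hf he h5
    have := class_big (k := 2) (by omega) h5 he
    omega
  have hfBv : fB = 1 ∨ fB = 2 ∨ fB = 4 := dvd_four hfB4
  have hfB1 : fB ≠ 1 := by
    rintro rfl
    have := class_big le_rfl ha5 hDB
    omega
  by_cases hex : ∃ C ∈ S, C ∉ DM M xA ∧ C ∉ DM M B
  · obtain ⟨C, hC, hCA, hCB⟩ := hex
    obtain ⟨fC, b, hfC4, hb5, hbodd, hbg, hbC, hfCc, hDC⟩ := hcls C hC
    have hdAC := hdisj _ hxA _ hC hCA
    have hdBC := hdisj _ hB _ hC hCB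
    have hsub3 : D xA ∪ D B ∪ D C ⊆ S := Finset.union_subset hsubAB (hDS _ hC)
    have hcard3 : (D xA ∪ D B ∪ D C).card = (D xA).card + (D B).card + (D C).card := by
      rw [Finset.card_union_of_disjoint (Finset.disjoint_union_left.2 ⟨hdAC, hdBC⟩), hcardAB]
    have hle3 := hcard3 ▸ Finset.card_le_card hsub3
    have hbigC := hbig C hC
    have hfB : fB = 4 := by
      rcases hfBv with hq | hq | hq
      · exact absurd hq hfB1
      · have := hsharp B hB fB a (by omega) hDB ha5
        omega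
      · exact hq
    have hfC : fC = 4 := by
      by_contra hne
      have h2 : fC * 2 ≤ 4 := by have := dvd_four hfC4; omega
      have := hsharp C hC fC b h2 hDC hb5
      omega
    subst hfB hfC
    -- there is no further class
    have hS3 : S = D xA ∪ D B ∪ D C := by
      refine Finset.Subset.antisymm (fun x hx => ?_) hsub3
      by_contra hxn
      simp only [Finset.mem_union, hDdef, Finset.mem_filter, Finset.mem_univ, true_and, not_or] at hxn
      obtain ⟨⟨hx1, hx2⟩, hx3⟩ := hxn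
      have h4' := Finset.card_le_card (Finset.union_subset hsub3 (hDS _ hx))
      rw [Finset.card_union_of_disjoint (Finset.disjoint_union_left.2
        ⟨Finset.disjoint_union_left.2 ⟨hdisj _ hxA _ hx hx1, hdisj _ hB _ hx hx2⟩, hdisj _ hC _ hx hx3⟩),
        hcard3] at h4'
      have := hbig x hx
      omega
    have hPsum : P.card = (D xA).card * e + (D B).card * a + (D C).card * b := by
      rw [hsum, hS3, Finset.sum_union (Finset.disjoint_union_left.2 ⟨hdAC, hdBC⟩),
        Finset.sum_union (hdisj _ hxA _ hB hBA), hwA, hwD B hB 4 a haB hfBc (by norm_num),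
        hwD C hC 4 b hbC hfCc (by norm_num)]
    rw [hPsum] at hPcard
    rw [hS3, hcard3] at hScard
    zify at hScard hDB hDC hDA2 hPcard hN hs8 he7 hK
    obtain ⟨hab, hkey⟩ := arith_two (N := (N : ℤ)) (K := (K : ℤ)) (s := (s' : ℤ)) (e := (e : ℤ)) (a := (a : ℤ))
      (b := (b : ℤ)) (DA := ((D xA).card : ℤ)) (DB := ((D B).card : ℤ)) (DC := ((D C).card : ℤ))
      (R := ((D B).card : ℤ) + (D C).card)
      hN hK he7 hDA2 (by linarith) rfl (by linarith) (by linarith) (by linarith) (by omega)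
    -- `a * b` divides the size of the orbit
    have hcop_s : ∀ u : ℕ, ¬ 2 ∣ u → Nat.Coprime u s' := by
      intro u hu
      obtain ⟨j, hj⟩ : ∃ j, s' = 2 ^ j := by
        rcases hss with hc | ⟨-, hc⟩
        · exact ⟨n, by rw [hc, hs1]⟩
        · exact ⟨n + n, by rw [hc, hs1, pow_add]⟩
      rw [hj]
      exact Nat.Coprime.pow_right _ (Nat.Coprime.symm ((Nat.prime_two.coprime_iff_not_dvd).2 hu))
    have hmeet : ∀ x ∈ S, ∀ y ∈ S, y ∉ DM M x →
        Nat.Coprime (Nat.card ↥(CM M y)) (Nat.card ↥(CM M x)) := by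
      intro x hx y hy hne
      rw [Nat.coprime_iff_gcd_eq_one]
      by_contra hg1
      obtain ⟨r, hr, hrd⟩ := Nat.exists_prime_and_dvd hg1
      simp only [hSdef, Finset.mem_filter, Finset.mem_univ, true_and] at hx hy
      obtain ⟨z, hz, hz'⟩ := DM_meet hm hF hx.1 hx.2 hy.2 hr (hrd.trans (Nat.gcd_dvd_right _ _))
        (hrd.trans (Nat.gcd_dvd_left _ _))
      exact hne (DM_symm hm hF hx.2 hy.2 hy.1 hz hz')
    have hae : Nat.Coprime a e := by
      have hm' := hmeet _ hxA _ hB hBA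
      rwa [haB, hCMA] at hm'
    have hbe : Nat.Coprime b e := by
      have hm' := hmeet _ hxA _ hC hCA
      rwa [hbC, hCMA] at hm'
    have hab' : Nat.Coprime b a := by rw [← hbC, ← haB]; exact hmeet _ hB _ hC hCB
    have haN : a ∣ N := (Nat.Coprime.mul_right (hcop_s a haodd) hae).dvd_of_dvd_mul_right (by rwa [← mul_assoc])
    have hbN : b ∣ N := (Nat.Coprime.mul_right (hcop_s b hbodd) hbe).dvd_of_dvd_mul_right (by rwa [← mul_assoc])
    obtain ⟨t, ht⟩ := Nat.Coprime.mul_dvd_of_dvd_of_dvd hab' hbN haN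
    have htN : (N : ℤ) = (a : ℤ) * b * t := by rw [ht]; push_cast; ring
    have hab0 : ((a : ℤ) * b) ≠ 0 := by
      have : (0 : ℤ) < a := by exact_mod_cast (show 0 < a by omega)
      have : (0 : ℤ) < b := by exact_mod_cast (show 0 < b by omega)
      positivity
    have hK4 : (t : ℤ) * (2 * a * b - e * (a + b)) = 4 * K := by
      apply mul_left_cancel₀ hab0
      rw [htN] at hkey
      linear_combination hkey
    have hs4 : (4 : ℤ) ∣ (s' : ℤ) := by
      have h4 : 4 ∣ 2 ^ n := (pow_dvd_pow 2 (show 2 ≤ n by have := h.three_le; omega) : 2 ^ 2 ∣ 2 ^ n)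
      have : 4 ∣ s' := by
        rcases hss with hc | ⟨-, hc⟩
        · rw [hc, hs1]; exact h4
        · rw [hc, hs1]; exact h4.mul_right _
      exact_mod_cast this
    have ht1 : (t : ℤ) = 1 := by
      obtain ⟨u, hu⟩ := hs4
      have h1 : (t : ℤ) ∣ 1 := ⟨(a : ℤ) * b - u * (2 * a * b - e * (a + b)), by
        have := htN.symm.trans hN
        rw [hu] at this
        linear_combination -this + u * hK4⟩
      exact Int.eq_one_of_dvd_one (by positivity) h1
    have hfin : (K : ℤ) * (2 * e * e + 2 - s') = (e - 1) * (e - 1) := by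
      rw [ht1, mul_one] at htN
      rw [ht1, one_mul, hab] at hK4
      exact fin_eq (htN.symm.trans hN) hK4
    rcases hss with hc | ⟨hc, hc'⟩
    · rw [hc, Nat.cast_add, Nat.cast_one] at hfin
      exact (fin_not_small he7 hK hfin).elim
    · refine ⟨hc, ?_, w, hw, hwi, hwz⟩
      rw [hc', Nat.cast_mul, Nat.cast_add, Nat.cast_one] at hfin hN
      have hKz : (K : ℤ) = 1 := fin_full he7 hfin
      rw [hKz, one_mul] at hN
      rw [← hs1]
      refine Nat.cast_injective (R := ℤ) ?_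
      rw [hN]
      push_cast
      ring
  · exfalso
    push Not at hex
    have hS2 : S = D xA ∪ D B := by
      refine Finset.Subset.antisymm (fun x hx => ?_) hsubAB
      simp only [Finset.mem_union, hDdef, Finset.mem_filter, Finset.mem_univ, true_and]
      by_cases h1 : x ∈ DM M xA
      exacts [Or.inl h1, Or.inr (hex x hx h1)]
    rw [hS2, hcardAB] at hScard
    rcases hfBv with rfl | rfl | rfl
    · exact hfB1 rfl
    · have hPsum : P.card = (D xA).card * e + (D B).card * a := by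
        rw [hsum, hS2, Finset.sum_union (hdisj _ hxA _ hB hBA), hwA, hwD B hB 2 a haB hfBc (dvd_refl 2)]
      rw [hPsum] at hPcard
      zify at hScard hDB hDA2 hPcard hN hs8 he7 hK
      obtain ⟨hse, hae⟩ := arith_single (N := (N : ℤ)) (K := (K : ℤ)) (s := (s' : ℤ)) (e := (e : ℤ))
        (a := (a : ℤ)) (DA := ((D xA).card : ℤ)) (R := ((D B).card : ℤ))
        hN hK he7 hs8 hDA2 (by linarith) (by linarith) (by linarith)
      have haeq : a = 2 ^ n + 1 := by
        rw [← hs1]; omega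
      refine h.three_not_card hm hF ((?_ : 3 ∣ a).trans (by rw [hg]; exact hag))
      obtain ⟨j, rfl⟩ := h.odd_n hm hF
      rw [haeq]
      have := Odd.nat_add_dvd_pow_add_pow 2 1 (⟨j, rfl⟩ : Odd (2 * j + 1))
      simpa using this
    · have := four_small (show 0 < N * s' * e from
        Nat.mul_pos (Nat.mul_pos (by omega) (by omega)) (by omega)) hDB
      omega

/-- a subgroup in normal form is a subfield subgroup -/
theorem eq_SubSz (h : NForm hF M n) (hnofix : ¬ ∃ a : suzukiOvoid F m, ∀ g ∈ M, g • a = a) :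
    M = SubSz hm hF n := by
  classical
  have hS := isSuzField hF
  obtain ⟨hfull, hN, w, hw, hwi, hwz⟩ := h.orbit_eq hm hF hnofix
  let q : {x : F // InF n x} × {x : F // InF n x} → suzukiOvoid F m := fun p => TS hF p.1.1 p.2.1 • oZero F m
  have hq : ∀ p, ((q p : suzukiOvoid F m) : Projectivization F (Fin 4 → F)) = pt m p.1.1 p.2.1 := fun p =>
    T_zero_pt hS _ _
  have horb : ∀ p ∈ OInf M, p = oInf F m ∨ ∃ u, q u = p := by
    haveI : Fintype (suzukiOvoid F m) := Fintype.ofFinite _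
    haveI : Fintype ({x : F // InF n x} × {x : F // InF n x}) := Fintype.ofFinite _
    have hsub : insert (oInf F m) (Finset.univ.image q) ⊆ (OInf M).toFinset := by
      intro p hp
      rw [Set.mem_toFinset]
      rcases Finset.mem_insert.1 hp with rfl | hp
      · exact oInf_mem_OInf M
      · obtain ⟨u, -, rfl⟩ := Finset.mem_image.1 hp
        refine smul_mem_OInf ((hfull _ _).2 ⟨u.1.2, u.2.2⟩) ?_
        rw [← hwi]
        exact ⟨w, hw, rfl⟩
    have hcard : (OInf M).toFinset.card ≤ (insert (oInf F m) (Finset.univ.image q)).card := by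
      rw [Set.toFinset_card, ← Nat.card_eq_fintype_card, hN, Finset.card_insert_of_notMem,
        Finset.card_image_of_injective, Finset.card_univ, ← Nat.card_eq_fintype_card, Nat.card_prod,
        card_inF hF h.dvd, add_comm]
      · intro u u' e
        obtain ⟨e1, e2⟩ := pt_inj ((hq u).symm.trans ((congrArg Subtype.val e).trans (hq u')))
        exact Prod.ext (Subtype.ext e1) (Subtype.ext e2)
      · rintro hmem
        obtain ⟨u, -, e⟩ := Finset.mem_image.1 hmem
        exact pt_ne_inf _ _ ((hq u).symm.trans (congrArg Subtype.val e))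
    intro p hp
    have := (Finset.eq_of_subset_of_card_le hsub hcard).symm ▸ Set.mem_toFinset.2 hp
    rcases Finset.mem_insert.1 this with h1 | h1
    · exact Or.inl h1
    · obtain ⟨u, -, e⟩ := Finset.mem_image.1 h1
      exact Or.inr ⟨u, e⟩
  obtain ⟨k, hk⟩ : ∃ k : Fˣ, WS hF * w = HS hF k := (mem_stab_pair hm hF).1 (Subgroup.mem_inf.2
    ⟨MulAction.mem_stabilizer_iff.2 (congrArg Subtype.val
      (show (WS hF * w) • oInf F m = oInf F m by rw [mul_smul, hwi, WS_smul_zero hF])),
     MulAction.mem_stabilizer_iff.2 (congrArg Subtype.val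
      (show (WS hF * w) • oZero F m = oZero F m by rw [mul_smul, hwz, WS_smul_inf hF]))⟩)
  have hw' : w = WS hF * HS hF k := by rw [← hk, ← mul_assoc, WS_sq hF, one_mul]
  have hk0 : (k : F) ≠ 0 := k.ne_zero
  have hWM : WS hF ∈ M := by
    set p0 : suzukiOvoid F m := w • (TS hF 0 1 • oZero F m)
    have hp0 : p0 ∈ OInf M := smul_mem_OInf hw (smul_mem_OInf ((h.centre 1).2 InF.one)
      (by rw [← hwi]; exact ⟨w, hw, rfl⟩))
    have hv0 : th m (k : F) ≠ 0 := fun e => hk0 (th_eq_zero hS e)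
    have hne : ¬ ((0 : F) = 0 ∧ th m (k : F) * k = 0) := fun e => mul_ne_zero hv0 hk0 e.2
    have hf : fO m (0 : F) (th m (k : F) * k) = (k : F) ^ 2 * th m (k : F) := by
      simp only [fO, th_zero hS, th_mul hS, th_th hS]
      ring
    have hp0v : (p0 : Projectivization F (Fin 4 → F)) =
        pt m ((k : F)⁻¹) (0 : F) := by
      show ((w : SL(4, F)) • ((TS hF 0 1 • oZero F m : suzukiOvoid F m) : Projectivization F (Fin 4 → F))) = _
      rw [show ((TS hF 0 1 • oZero F m : suzukiOvoid F m) : Projectivization F (Fin 4 → F)) = pt m 0 1 from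
        T_zero_pt hS 0 1, hw']
      show ((W : SL(4, F)) * H m k) • pt m (0 : F) 1 = _
      rw [mul_smul, H_pt hS, mul_zero, mul_one, W_pt hS hne, hf, zero_mul]
      congr 1
      field_simp
    rcases horb p0 hp0 with e | ⟨u, e⟩
    · exact absurd (hp0v.symm.trans (congrArg Subtype.val e)) (pt_ne_inf _ _)
    · obtain ⟨e1, -⟩ := pt_inj ((hq u).symm.trans ((congrArg Subtype.val e).trans hp0v))
      have hkF : InF n (k : F) := by
        have := u.1.2.inv
        rwa [e1, inv_inv] at this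
      have := mul_mem hw (inv_mem ((h.torus k).2 hkF))
      rwa [hw', mul_inv_cancel_right] at this
  refine le_antisymm (fun g hg => ?_) (fun g hg => ?_)
  · have hstab : ∀ g ∈ M, g • oInf F m = oInf F m → g ∈ SubSz hm hF n := by
      intro g hg hfix
      obtain ⟨a, b, l, h1, h2, rfl⟩ := h.mem_stab hm hF hg hfix
      exact mul_mem (TS_mem_SubSz hm hF ((hfull a b).1 h1).1 ((hfull a b).1 h1).2) (HS_mem_SubSz hm hF h2)
    rcases horb (g • oInf F m) ⟨g, hg, rfl⟩ with e | ⟨u, e⟩
    · exact hstab g hg e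
    · set t := TS hF u.1.1 u.2.1 * WS hF with ht
      have htM : t ∈ M := mul_mem ((hfull _ _).2 ⟨u.1.2, u.2.2⟩) hWM
      have htS : t ∈ SubSz hm hF n := mul_mem (TS_mem_SubSz hm hF u.1.2 u.2.2) (WS_mem_SubSz hm hF n)
      have h2 := hstab (t⁻¹ * g) (mul_mem (inv_mem htM) hg) (by
        rw [mul_smul, inv_smul_eq_iff, ← e, ht, mul_smul, WS_smul_inf hF])
      have := mul_mem htS h2
      rwa [mul_inv_cancel_left] at this
  · rcases SubSz_decomp hm hF hg with ⟨a, b, l, ha, hb, hl, rfl⟩ | ⟨x, y, a, b, l, hx, hy, ha, hb, hl, rfl⟩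
    · exact mul_mem ((hfull a b).2 ⟨ha, hb⟩) ((h.torus l).2 hl)
    · exact mul_mem (mul_mem ((hfull x y).2 ⟨hx, hy⟩) hWM)
        (mul_mem ((hfull a b).2 ⟨ha, hb⟩) ((h.torus l).2 hl))

end NForm

/-- the subgroups of the Suzuki group -/
theorem subgroup_cases (M : Subgroup (Cfsg.Sz F m)) :
    (∃ a : suzukiOvoid F m, ∀ g ∈ M, g • a = a) ∨
      (∃ x : Cfsg.Sz F m, ¬ IsTwo x ∧ M ≤ Subgroup.normalizer
        ((Subgroup.centralizer ({x} : Set (Cfsg.Sz F m)) : Subgroup (Cfsg.Sz F m)) : Set (Cfsg.Sz F m))) ∨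
      ∃ (c : Cfsg.Sz F m) (n : ℕ), 3 ≤ n ∧ n ∣ 2 * m + 1 ∧
        M.map (MulAut.conj c).toMonoidHom = SubSz hm hF n := by
  by_cases hab : NoAb M
  · by_cases hnofix : ∃ a : suzukiOvoid F m, ∀ g ∈ M, g • a = a
    · exact Or.inl hnofix
    have hM : M ≠ ⊥ := by
      rintro rfl
      exact hnofix ⟨oInf F m, fun g hg => by rw [Subgroup.mem_bot.1 hg, one_smul]⟩
    obtain ⟨c, n, hn⟩ := exists_nform hm hF hM hab hnofix
    exact Or.inr (Or.inr ⟨c, n, hn.three_le, hn.dvd, hn.eq_SubSz hm hF (nofix_conj hF hnofix c)⟩)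
  · simp only [NoAb, not_forall] at hab
    obtain ⟨A, hA, hn, hc, hne⟩ := hab
    rcases cases_of_abelian_normal hm hF hA hne hn hc with h | h
    · exact Or.inl h
    · exact Or.inr (Or.inl h)

end CfsgLib.Lie.Suz
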