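import Cfsg.Agent.Lib.Lie.Suz.Sub.Norm

/-!
# Counting in a subgroup in normal form
-/

set_option autoImplicit false
set_option maxHeartbeats 800000

namespace CfsgLib.Lie.Suz

open Cfsg
open scoped MatrixGroups Pointwise

variable {F : Type*} [Field F] [Fintype F] {m : ℕ}

/-- the part of the centraliser inside `M` -/
def CM (M : Subgroup (Cfsg.Sz F m)) (x : Cfsg.Sz F m) : Subgroup (Cfsg.Sz F m) :=
  Subgroup.centralizer {x} ⊓ M

/-- the part of the normaliser of the centraliser inside `M` -/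
def NM (M : Subgroup (Cfsg.Sz F m)) (x : Cfsg.Sz F m) : Subgroup (Cfsg.Sz F m) :=
  Subgroup.normalizer ((Subgroup.centralizer ({x} : Set (Cfsg.Sz F m)) : Subgroup (Cfsg.Sz F m)) :
    Set (Cfsg.Sz F m)) ⊓ M

/-- the elements of `M` conjugate into `CM M x`, other than the identity -/
def DM (M : Subgroup (Cfsg.Sz F m)) (x : Cfsg.Sz F m) : Set (Cfsg.Sz F m) :=
  {y | ∃ h ∈ M, ∃ u ∈ CM M x, u ≠ 1 ∧ h * u * h⁻¹ = y}

theorem CM_le (M : Subgroup (Cfsg.Sz F m)) (x : Cfsg.Sz F m) : CM M x ≤ NM M x :=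
  inf_le_inf_right _ Subgroup.le_normalizer

theorem self_mem_CM {M : Subgroup (Cfsg.Sz F m)} {x : Cfsg.Sz F m} (hx : x ∈ M) : x ∈ CM M x :=
  Subgroup.mem_inf.2 ⟨Subgroup.mem_centralizer_singleton_iff.2 rfl, hx⟩

theorem self_mem_DM {M : Subgroup (Cfsg.Sz F m)} {x : Cfsg.Sz F m} (hx : x ∈ M) (h : ¬ IsTwo x) :
    x ∈ DM M x :=
  ⟨1, one_mem _, x, self_mem_CM hx, fun e => h ⟨0, by rw [e, one_pow]⟩, by simp⟩

variable (hm : 1 ≤ m) (hF : Fintype.card F = 2 ^ (2 * m + 1))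
include hm hF

theorem CM_eq_of_mem {M : Subgroup (Cfsg.Sz F m)} {x u : Cfsg.Sz F m} (hx : ¬ IsTwo x)
    (hu : u ∈ CM M x) (hu1 : u ≠ 1) : ¬ IsTwo u ∧ CM M u = CM M x ∧ NM M u = NM M x := by
  obtain ⟨h1, h2⟩ := (nontwo_centralizer hm hF hx).2 u (Subgroup.mem_inf.1 hu).1 hu1
  exact ⟨h1, by rw [CM, CM, h2], by rw [NM, NM, h2]⟩

omit hm hF in
theorem conj_centralizer_set (h x : Cfsg.Sz F m) :
    (Subgroup.centralizer ({x} : Set (Cfsg.Sz F m))).map (MulAut.conj h).toMonoidHom =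
      Subgroup.centralizer {h * x * h⁻¹} := (centralizer_conj h x).symm

omit hm hF in
theorem NM_conj {M : Subgroup (Cfsg.Sz F m)} {h x : Cfsg.Sz F m} (hh : h ∈ M) :
    NM M (h * x * h⁻¹) = (NM M x).map (MulAut.conj h).toMonoidHom ∧
      CM M (h * x * h⁻¹) = (CM M x).map (MulAut.conj h).toMonoidHom := by
  have hM : M.map (MulAut.conj h).toMonoidHom = M := by
    ext g
    rw [mem_conjMap]
    exact ⟨fun hg => by simpa [mul_assoc] using mul_mem (mul_mem hh hg) (inv_mem hh),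
      fun hg => mul_mem (mul_mem (inv_mem hh) hg) hh⟩
  constructor
  · rw [NM, NM, centralizer_conj, Subgroup.map_inf _ _ _ (MulAut.conj h).injective, hM,
      Subgroup.map_normalizer_eq_of_bijective _ (f := (MulAut.conj h).toMonoidHom) (MulAut.conj h).bijective]
  · rw [CM, CM, centralizer_conj, Subgroup.map_inf _ _ _ (MulAut.conj h).injective, hM]

/-- members of a class -/
theorem DM_spec {M : Subgroup (Cfsg.Sz F m)} {x y : Cfsg.Sz F m} (hx : ¬ IsTwo x) (hy : y ∈ DM M x) :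
    y ∈ M ∧ ¬ IsTwo y ∧ Nat.card ↥(CM M y) = Nat.card ↥(CM M x) ∧
      Nat.card ↥(NM M y) = Nat.card ↥(NM M x) := by
  obtain ⟨h, hh, u, hu, hu1, rfl⟩ := hy
  obtain ⟨hu2, hc, hn⟩ := CM_eq_of_mem hm hF hx hu hu1
  refine ⟨mul_mem (mul_mem hh (Subgroup.mem_inf.1 hu).2) (inv_mem hh), fun ht => hu2 ?_, ?_, ?_⟩
  · simpa [mul_assoc] using ht.conj h⁻¹
  · rw [(NM_conj hh).2, Subgroup.card_map_of_injective (MulAut.conj h).injective, hc]
  · rw [(NM_conj hh).1, Subgroup.card_map_of_injective (MulAut.conj h).injective, hn]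

/-- classes which meet are equal -/
theorem DM_symm {M : Subgroup (Cfsg.Sz F m)} {x x' y : Cfsg.Sz F m} (hx : ¬ IsTwo x) (hx' : ¬ IsTwo x')
    (hxM : x' ∈ M) (hy : y ∈ DM M x) (hy' : y ∈ DM M x') : x' ∈ DM M x := by
  obtain ⟨h, hh, u, hu, hu1, rfl⟩ := hy
  obtain ⟨h', hh', u', hu', hu1', e⟩ := hy'
  obtain ⟨-, hc, -⟩ := CM_eq_of_mem hm hF hx hu hu1
  obtain ⟨-, hc', -⟩ := CM_eq_of_mem hm hF hx' hu' hu1'
  have e' : u' = (h'⁻¹ * h) * u * (h'⁻¹ * h)⁻¹ := by
    calc u' = h'⁻¹ * (h' * u' * h'⁻¹) * h' := by group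
      _ = _ := by rw [e]; group
  have hk : h'⁻¹ * h ∈ M := mul_mem (inv_mem hh') hh
  have h1 : x' ∈ (CM M x).map (MulAut.conj (h'⁻¹ * h)).toMonoidHom := by
    rw [← hc, ← (NM_conj hk).2, ← e', hc']
    exact self_mem_CM hxM
  obtain ⟨v, hv, hve⟩ := h1
  refine ⟨h'⁻¹ * h, hk, v, hv, fun ev => hx' ⟨0, ?_⟩, hve⟩
  rw [← hve, ev, map_one, one_pow]

theorem NM_index {M : Subgroup (Cfsg.Sz F m)} {x : Cfsg.Sz F m} (hx : ¬ IsTwo x) :
    ∃ f : ℕ, f ∣ 4 ∧ Nat.card ↥(NM M x) = f * Nat.card ↥(CM M x) := by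
  obtain ⟨k, hk4, hk⟩ := nontwo_normalizer_index hm hF hx
  set C := Subgroup.centralizer ({x} : Set (Cfsg.Sz F m))
  set N := Subgroup.normalizer ((C : Subgroup (Cfsg.Sz F m)) : Set (Cfsg.Sz F m))
  have h1 : C.relIndex N = k := by
    have := (C.subgroupOf N).card_mul_index
    rw [Nat.card_congr (Subgroup.subgroupOfEquivOfLe (Subgroup.le_normalizer (H := C))).toEquiv, hk,
      mul_comm k] at this
    exact Nat.eq_of_mul_eq_mul_left Nat.card_pos this
  have h2 : (CM M x).relIndex (NM M x) ∣ k := by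
    have e : CM M x = C ⊓ (N ⊓ M) := by
      show C ⊓ M = C ⊓ (N ⊓ M)
      rw [← inf_assoc, inf_eq_left.2 (show C ≤ N from Subgroup.le_normalizer)]
    rw [e, show NM M x = N ⊓ M from rfl, Subgroup.inf_relIndex_right, ← h1,
      ← Subgroup.relIndex_subgroupOf (inf_le_left : N ⊓ M ≤ N)]
    haveI : (C.subgroupOf N).Normal := Subgroup.normal_in_normalizer
    exact Subgroup.relIndex_dvd_index_of_normal _ _
  obtain ⟨f, hf⟩ := Subgroup.card_dvd_of_le (CM_le M x)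
  refine ⟨f, ?_, by rw [hf, mul_comm]⟩
  have h3 := ((CM M x).subgroupOf (NM M x)).card_mul_index
  rw [Nat.card_congr (Subgroup.subgroupOfEquivOfLe (CM_le M x)).toEquiv, hf] at h3
  rw [← Nat.eq_of_mul_eq_mul_left Nat.card_pos h3]
  exact h2.trans hk4

theorem CM_card {M : Subgroup (Cfsg.Sz F m)} {x : Cfsg.Sz F m} (hxM : x ∈ M) (hx : ¬ IsTwo x) :
    ¬ 2 ∣ Nat.card ↥(CM M x) ∧ 5 ≤ Nat.card ↥(CM M x) := by
  have h1 : Nat.card ↥(CM M x) ∣ Nat.card ↥(Subgroup.centralizer ({x} : Set (Cfsg.Sz F m))) :=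
    Subgroup.card_dvd_of_le inf_le_left
  have h2 : ¬ 2 ∣ Nat.card ↥(CM M x) := fun h => odd_centralizer hm hF hx (h.trans h1)
  refine ⟨h2, ?_⟩
  have h3 : Nat.card ↥(CM M x) ≠ 3 := fun h => three_not_dvd hm hF
    (h.symm.dvd.trans (Subgroup.card_subgroup_dvd_card _))
  have h4 : Nat.card ↥(CM M x) ≠ 1 := fun h => hx ⟨0, by
    have := self_mem_CM hxM
    rw [Subgroup.eq_bot_of_card_eq _ h, Subgroup.mem_bot] at this
    rw [this, one_pow]⟩
  have h5 : Nat.card ↥(CM M x) ≠ 4 := fun h => h2 (by rw [h]; norm_num)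
  have h6 : Nat.card ↥(CM M x) ≠ 2 := fun h => h2 (by rw [h])
  have h7 : 0 < Nat.card ↥(CM M x) := Nat.card_pos
  omega

/-- the size of a class -/
theorem card_DM [Fintype (Cfsg.Sz F m)] {M : Subgroup (Cfsg.Sz F m)} {x : Cfsg.Sz F m} (hx : ¬ IsTwo x)
    [DecidablePred (· ∈ DM M x)] :
    (Finset.univ.filter fun y => y ∈ DM M x).card * Nat.card ↥(NM M x) =
      Nat.card M * (Nat.card ↥(CM M x) - 1) := by
  classical
  set T' := Finset.univ.filter fun u : Cfsg.Sz F m => u ∈ CM M x ∧ u ≠ 1 with hT'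
  set MF := Finset.univ.filter fun u : Cfsg.Sz F m => u ∈ M with hMF
  have hT'c : T'.card = Nat.card ↥(CM M x) - 1 := by
    have e : T' = (Finset.univ.filter fun u : Cfsg.Sz F m => u ∈ CM M x).erase 1 := by
      ext u
      simp [hT', and_comm]
    rw [e, Finset.card_erase_of_mem (by simp), ← Fintype.card_subtype, ← Nat.card_eq_fintype_card]
  let f : Cfsg.Sz F m × Cfsg.Sz F m → Cfsg.Sz F m := fun p => p.1 * p.2 * p.1⁻¹
  set D := Finset.univ.filter fun g : Cfsg.Sz F m => g ∈ DM M x with hD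
  have hmap : ∀ p ∈ (MF ×ˢ T'), f p ∈ D := by
    rintro ⟨c, u⟩ hp
    simp only [hT', hMF, Finset.mem_product, Finset.mem_filter, Finset.mem_univ, true_and] at hp
    simp only [hD, Finset.mem_filter, Finset.mem_univ, true_and]
    exact ⟨c, hp.1, u, hp.2.1, hp.2.2, rfl⟩
  have hsum := Finset.card_eq_sum_card_fiberwise hmap
  have hfib : ∀ g ∈ D, ((MF ×ˢ T').filter fun p => f p = g).card = Nat.card ↥(NM M x) := by
    intro g hg
    simp only [hD, Finset.mem_filter, Finset.mem_univ, true_and] at hg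
    obtain ⟨c₀, hc₀, u₀, hu₀, hu₀1, hg0⟩ := hg
    rw [Nat.card_eq_fintype_card, Fintype.card_subtype]
    refine Finset.card_bij' (fun p _ => c₀⁻¹ * p.1) (fun n _ => (c₀ * n, n⁻¹ * u₀ * n)) ?_ ?_ ?_ ?_
    · rintro ⟨c, u⟩ hp
      simp only [hT', hMF, f, Finset.mem_product, Finset.mem_filter, Finset.mem_univ, true_and] at hp
      obtain ⟨⟨hc, hu, hu1⟩, hcu⟩ := hp
      simp only [Finset.mem_filter, Finset.mem_univ, true_and]
      have e : (c₀⁻¹ * c) * u * (c₀⁻¹ * c)⁻¹ = u₀ := by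
        calc (c₀⁻¹ * c) * u * (c₀⁻¹ * c)⁻¹ = c₀⁻¹ * (c * u * c⁻¹) * c₀ := by group
          _ = _ := by rw [hcu, ← hg0]; group
      refine Subgroup.mem_inf.2 ⟨?_, mul_mem (inv_mem hc₀) hc⟩
      have h1 : (Subgroup.centralizer ({x} : Set (Cfsg.Sz F m))).map (MulAut.conj (c₀⁻¹ * c)).toMonoidHom =
          Subgroup.centralizer {x} := by
        conv_lhs => rw [← ((nontwo_centralizer hm hF hx).2 u (Subgroup.mem_inf.1 hu).1 hu1).2]
        rw [← centralizer_conj, e, ((nontwo_centralizer hm hF hx).2 u₀ (Subgroup.mem_inf.1 hu₀).1 hu₀1).2]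
      refine Subgroup.mem_normalizer_iff.2 fun z => ?_
      constructor
      · intro hz
        rw [← h1]
        exact ⟨z, hz, rfl⟩
      · intro hz
        rw [← h1] at hz
        obtain ⟨w, hw, e'⟩ := hz
        exact (MulAut.conj (c₀⁻¹ * c)).injective e' ▸ hw
    · intro n hn
      simp only [Finset.mem_filter, Finset.mem_univ, true_and] at hn
      obtain ⟨hn1, hn2⟩ := Subgroup.mem_inf.1 hn
      simp only [hT', hMF, f, Finset.mem_product, Finset.mem_filter, Finset.mem_univ, true_and]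
      refine ⟨⟨mul_mem hc₀ hn2, Subgroup.mem_inf.2 ⟨?_, ?_⟩, ?_⟩, ?_⟩
      · have := (Subgroup.mem_normalizer_iff.1 (inv_mem hn1) u₀).1 (Subgroup.mem_inf.1 hu₀).1
        simpa using this
      · exact mul_mem (mul_mem (inv_mem hn2) (Subgroup.mem_inf.1 hu₀).2) hn2
      · intro h
        exact hu₀1 (conj_eq_one_iff.1 (by simpa using h : n⁻¹ * u₀ * n⁻¹⁻¹ = 1))
      · rw [← hg0]; group
    · rintro ⟨c, u⟩ hp
      simp only [hT', hMF, f, Finset.mem_product, Finset.mem_filter, Finset.mem_univ, true_and] at hp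
      refine Prod.ext (mul_inv_cancel_left _ _) ?_
      show (c₀⁻¹ * c)⁻¹ * u₀ * (c₀⁻¹ * c) = u
      calc (c₀⁻¹ * c)⁻¹ * u₀ * (c₀⁻¹ * c) = c⁻¹ * (c₀ * u₀ * c₀⁻¹) * c := by group
        _ = _ := by rw [hg0, ← hp.2]; group
    · intro n _
      simp
  rw [Finset.sum_congr rfl hfib, Finset.sum_const, smul_eq_mul, Finset.card_product, hT'c] at hsum
  rw [← hsum]
  congr 1
  rw [hMF, ← Fintype.card_subtype, ← Nat.card_eq_fintype_card]

/-- a common prime divisor joins two classes -/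
theorem DM_meet {M : Subgroup (Cfsg.Sz F m)} {x x' : Cfsg.Sz F m} (hxM : x ∈ M) (hx : ¬ IsTwo x)
    (hx' : ¬ IsTwo x') {r : ℕ} (hr : r.Prime) (h : r ∣ Nat.card ↥(CM M x))
    (h' : r ∣ Nat.card ↥(CM M x')) : ∃ y, y ∈ DM M x ∧ y ∈ DM M x' := by
  haveI := Fact.mk hr
  have hr2 : r ≠ 2 := fun e => (CM_card hm hF hxM hx).1 (e ▸ h)
  obtain ⟨z, hz⟩ := exists_prime_orderOf_dvd_card' (G := ↥(CM M x)) r h
  obtain ⟨z', hz'⟩ := exists_prime_orderOf_dvd_card' (G := ↥(CM M x')) r h'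
  rw [← Subgroup.orderOf_coe] at hz hz'
  have hne : ∀ {w : Cfsg.Sz F m}, orderOf w = r → w ≠ 1 := fun hw e => by
    rw [e, orderOf_one] at hw; exact hr.ne_one hw.symm
  let zM : M := ⟨z, (Subgroup.mem_inf.1 z.2).2⟩
  let zM' : M := ⟨z', (Subgroup.mem_inf.1 z'.2).2⟩
  have hzM : orderOf zM = r := by rw [← Subgroup.orderOf_coe]; exact hz
  have hzM' : orderOf zM' = r := by rw [← Subgroup.orderOf_coe]; exact hz'
  have hp : ∀ {w : M}, orderOf w = r → IsPGroup r (Subgroup.zpowers w) := fun hw =>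
    IsPGroup.of_card (n := 1) (by rw [Nat.card_zpowers, hw, pow_one])
  obtain ⟨S, hS⟩ := (hp hzM).exists_le_sylow
  obtain ⟨S', hS'⟩ := (hp hzM').exists_le_sylow
  obtain ⟨g, hg⟩ := MulAction.exists_smul_eq M S' S
  have hmem : g * zM' * g⁻¹ ∈ (S : Subgroup M) := by
    rw [← hg, Sylow.coe_subgroup_smul, Subgroup.mem_pointwise_smul_iff_inv_smul_mem]
    simp [MulAut.smul_def, mul_assoc]
    exact hS' (Subgroup.mem_zpowers zM')
  have hcyc : IsCyclic ↥(S : Subgroup M) := by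
    have h1 : IsPGroup r ((S : Subgroup M).map M.subtype) := S.2.map _
    haveI := isCyclic_odd_pgroup hm hF hr2 h1
    exact isCyclic_of_surjective
      ((S : Subgroup M).equivMapOfInjective M.subtype M.subtype_injective).symm.toMonoidHom
      ((S : Subgroup M).equivMapOfInjective M.subtype M.subtype_injective).symm.surjective
  have hz1 : zM ∈ (S : Subgroup M) := hS (Subgroup.mem_zpowers zM)
  have hzz : g * zM' * g⁻¹ ∈ Subgroup.zpowers zM := by
    classical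
    haveI := hcyc
    haveI : Fintype ↥(S : Subgroup M) := Fintype.ofFinite _
    let w : ↥(S : Subgroup M) := ⟨zM, hz1⟩
    let y : ↥(S : Subgroup M) := ⟨_, hmem⟩
    have hw : orderOf w = r := by rw [← Subgroup.orderOf_coe]; exact hzM
    have hy : orderOf y = r := by
      rw [← Subgroup.orderOf_coe]
      exact ((orderOf_injective (MulAut.conj g).toMonoidHom (MulAut.conj g).injective zM') :).trans hzM'
    suffices y ∈ Subgroup.zpowers w by
      obtain ⟨i, hi⟩ := this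
      refine ⟨i, ?_⟩
      have := congrArg Subtype.val hi
      simpa using this
    by_contra hne
    have hsub : insert y (Finset.univ.filter fun a => a ∈ Subgroup.zpowers w) ⊆
        Finset.univ.filter fun a => a ^ r = 1 := by
      intro a ha
      simp only [Finset.mem_insert, Finset.mem_filter, Finset.mem_univ, true_and] at ha ⊢
      rcases ha with rfl | ⟨i, rfl⟩
      · exact orderOf_dvd_iff_pow_eq_one.1 (dvd_of_eq hy)
      · exact orderOf_dvd_iff_pow_eq_one.1 ((orderOf_dvd_of_mem_zpowers ⟨i, rfl⟩).trans (dvd_of_eq hw))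
    have h3 := (Finset.card_le_card hsub).trans
      (IsCyclic.card_pow_eq_one_le (α := ↥(S : Subgroup M)) hr.pos)
    rw [Finset.card_insert_of_notMem (fun h => hne (Finset.mem_filter.1 h).2), ← Fintype.card_subtype,
      ← Nat.card_eq_fintype_card, Nat.card_zpowers, hw] at h3
    omega
  have hgz : (g : Cfsg.Sz F m) * z' * (g : Cfsg.Sz F m)⁻¹ ∈ CM M x := by
    have h1 : g * zM' * g⁻¹ ∈ Subgroup.zpowers zM := hzz
    obtain ⟨i, hi⟩ := h1
    have h2 := congrArg Subtype.val hi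
    simp only [Subgroup.coe_mul, Subgroup.coe_inv, SubgroupClass.coe_zpow] at h2
    rw [← h2]
    exact Subgroup.zpow_mem _ z.2 i
  refine ⟨z', ⟨(g : Cfsg.Sz F m)⁻¹, inv_mem g.2, _, hgz, fun e => hne hz' (conj_eq_one_iff.1 e), by group⟩,
    ⟨1, one_mem _, z', z'.2, hne hz', by simp⟩⟩

/-- the involutions inverting an element which is not a 2-element -/
theorem card_inverting [Fintype (Cfsg.Sz F m)] [DecidableEq (Cfsg.Sz F m)]
    {M : Subgroup (Cfsg.Sz F m)} [DecidablePred (· ∈ M)] {x : Cfsg.Sz F m} (hxM : x ∈ M) (hx : ¬ IsTwo x)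
    {f : ℕ} (hf : Nat.card ↥(NM M x) = f * Nat.card ↥(CM M x)) :
    (Finset.univ.filter fun z => z ∈ M ∧ orderOf z = 2 ∧ z * x * z⁻¹ = x⁻¹).card =
      if 2 ∣ f then Nat.card ↥(CM M x) else 0 := by
  classical
  obtain ⟨hodd, -⟩ := CM_card hm hF hxM hx
  have hnotC : ∀ z, z ∈ M → orderOf z = 2 → z ∉ CM M x := fun z _ hz hc =>
    hodd (hz ▸ Subgroup.orderOf_dvd_natCard _ hc)
  have hnorm : ∀ z, z * x * z⁻¹ = x⁻¹ → z ∈ M → z ∈ NM M x := by
    intro z hz hzM
    refine Subgroup.mem_inf.2 ⟨?_, hzM⟩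
    have h1 : (Subgroup.centralizer ({x} : Set (Cfsg.Sz F m))).map (MulAut.conj z).toMonoidHom =
        Subgroup.centralizer {x} := by
      rw [← centralizer_conj, hz]
      ext g
      rw [Subgroup.mem_centralizer_singleton_iff, Subgroup.mem_centralizer_singleton_iff]
      exact Commute.inv_right_iff
    refine Subgroup.mem_normalizer_iff.2 fun g => ⟨fun hg => h1 ▸ ⟨g, hg, rfl⟩, fun hg => ?_⟩
    rw [← h1] at hg
    obtain ⟨w, hw, e⟩ := hg
    exact (MulAut.conj z).injective e ▸ hw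
  by_cases h2 : 2 ∣ f
  · rw [if_pos h2]
    obtain ⟨z, hz⟩ := exists_prime_orderOf_dvd_card' (G := ↥(NM M x)) 2 (hf ▸ h2.mul_right _)
    rw [← Subgroup.orderOf_coe] at hz
    obtain ⟨hzN, hzM⟩ := Subgroup.mem_inf.1 z.2
    have hzz : (z : Cfsg.Sz F m) * z = 1 := by rw [← sq, ← hz, pow_orderOf_eq_one]
    have hzi : (z : Cfsg.Sz F m)⁻¹ = z := inv_eq_of_mul_eq_one_right hzz
    have hinv : ∀ t ∈ CM M x, (z : Cfsg.Sz F m) * t * (z : Cfsg.Sz F m)⁻¹ = t⁻¹ := by
      intro t ht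
      have ht' : (z : Cfsg.Sz F m) * t * (z : Cfsg.Sz F m)⁻¹ ∈ CM M x := Subgroup.mem_inf.2
        ⟨(Subgroup.mem_normalizer_iff.1 hzN t).1 (Subgroup.mem_inf.1 ht).1,
          mul_mem (mul_mem hzM (Subgroup.mem_inf.1 ht).2) (inv_mem hzM)⟩
      haveI := (nontwo_centralizer hm hF hx).1
      letI := IsCyclic.commGroup (α := ↥(Subgroup.centralizer ({x} : Set (Cfsg.Sz F m))))
      have hcomm : t * ((z : Cfsg.Sz F m) * t * (z : Cfsg.Sz F m)⁻¹) =
          ((z : Cfsg.Sz F m) * t * (z : Cfsg.Sz F m)⁻¹) * t :=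
        congrArg Subtype.val (mul_comm (⟨t, (Subgroup.mem_inf.1 ht).1⟩ :
          Subgroup.centralizer ({x} : Set (Cfsg.Sz F m))) ⟨_, (Subgroup.mem_inf.1 ht').1⟩)
      by_contra hne
      have hw : t * ((z : Cfsg.Sz F m) * t * (z : Cfsg.Sz F m)⁻¹) ∈ CM M x := mul_mem ht ht'
      have hw1 : t * ((z : Cfsg.Sz F m) * t * (z : Cfsg.Sz F m)⁻¹) ≠ 1 := fun e =>
        hne (eq_inv_of_mul_eq_one_right e)
      obtain ⟨-, hC, -⟩ := CM_eq_of_mem hm hF hx hw hw1
      refine hnotC _ hzM hz (hC ▸ Subgroup.mem_inf.2 ⟨Subgroup.mem_centralizer_singleton_iff.2 ?_, hzM⟩)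
      have e2 : (z : Cfsg.Sz F m) * (t * ((z : Cfsg.Sz F m) * t * (z : Cfsg.Sz F m)⁻¹)) *
          (z : Cfsg.Sz F m)⁻¹ = t * ((z : Cfsg.Sz F m) * t * (z : Cfsg.Sz F m)⁻¹) := by
        conv_rhs => rw [hcomm]
        rw [hzi]
        calc _ = (z : Cfsg.Sz F m) * t * z * t * ((z : Cfsg.Sz F m) * z) := by group
          _ = _ := by rw [hzz]; group
      exact mul_inv_eq_iff_eq_mul.1 e2
    rw [Nat.card_eq_fintype_card, Fintype.card_subtype]
    refine Finset.card_bij' (fun w _ => (z : Cfsg.Sz F m) * w) (fun t _ => (z : Cfsg.Sz F m) * t) ?_ ?_ ?_ ?_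
    · intro w hw
      simp only [Finset.mem_filter, Finset.mem_univ, true_and] at hw ⊢
      refine Subgroup.mem_inf.2 ⟨Subgroup.mem_centralizer_singleton_iff.2 ?_, mul_mem hzM hw.1⟩
      have h3 := hinv x⁻¹ (Subgroup.inv_mem _ (self_mem_CM hxM))
      rw [inv_inv, ← hw.2.2] at h3
      refine mul_inv_eq_iff_eq_mul.1 ?_
      rw [_root_.mul_inv_rev]
      calc (z : Cfsg.Sz F m) * w * x * (w⁻¹ * (z : Cfsg.Sz F m)⁻¹) =
          (z : Cfsg.Sz F m) * (w * x * w⁻¹) * (z : Cfsg.Sz F m)⁻¹ := by group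
        _ = x := h3
    · intro t ht
      simp only [Finset.mem_filter, Finset.mem_univ, true_and] at ht ⊢
      have h3 := hinv t ht
      refine ⟨mul_mem hzM (Subgroup.mem_inf.1 ht).2, orderOf_eq_prime ?_ ?_, ?_⟩
      · calc ((z : Cfsg.Sz F m) * t) ^ 2 = (z : Cfsg.Sz F m) * t * (z : Cfsg.Sz F m)⁻¹ * t := by
              rw [sq, hzi]; group
          _ = 1 := by rw [h3, inv_mul_cancel]
      · intro e
        rw [mul_eq_one_iff_eq_inv] at e
        exact hnotC _ hzM hz (e ▸ Subgroup.inv_mem _ ht)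
      · have h4 := hinv x (self_mem_CM hxM)
        calc (z : Cfsg.Sz F m) * t * x * ((z : Cfsg.Sz F m) * t)⁻¹ =
            (z : Cfsg.Sz F m) * (t * x * t⁻¹) * (z : Cfsg.Sz F m)⁻¹ := by group
          _ = (z : Cfsg.Sz F m) * x * (z : Cfsg.Sz F m)⁻¹ := by
              rw [Subgroup.mem_centralizer_singleton_iff.1 (Subgroup.mem_inf.1 ht).1, mul_inv_cancel_right]
          _ = _ := h4
    · intro w _
      show (z : Cfsg.Sz F m) * (z * w) = w
      rw [← mul_assoc, hzz, one_mul]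
    · intro t _
      show (z : Cfsg.Sz F m) * (z * t) = t
      rw [← mul_assoc, hzz, one_mul]
  · rw [if_neg h2, Finset.card_eq_zero, Finset.filter_eq_empty_iff]
    intro z _ hz
    have h3 : 2 ∣ f * Nat.card ↥(CM M x) := by
      rw [← hf, ← hz.2.1]
      exact Subgroup.orderOf_dvd_natCard _ (hnorm z hz.2.2 hz.1)
    rcases Nat.prime_two.dvd_mul.1 h3 with h | h
    exacts [h2 h, hodd h]

end CfsgLib.Lie.Suz
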