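import Cfsg.Agent.Lib.Lie.Suz.Sub.Count

/-!
# The orbit of the point at infinity under a subgroup in normal form
-/

set_option autoImplicit false
set_option maxHeartbeats 800000

namespace CfsgLib.Lie.Suz

open Cfsg
open scoped MatrixGroups Pointwise

variable {F : Type*} [Field F] [Fintype F] {m : ℕ}

/-- the orbit of the point at infinity -/
def OInf (M : Subgroup (Cfsg.Sz F m)) : Set (suzukiOvoid F m) := {p | ∃ g ∈ M, g • oInf F m = p}

theorem oInf_mem_OInf (M : Subgroup (Cfsg.Sz F m)) : oInf F m ∈ OInf M := ⟨1, one_mem _, one_smul _ _⟩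

theorem smul_mem_OInf {M : Subgroup (Cfsg.Sz F m)} {g : Cfsg.Sz F m} {p : suzukiOvoid F m} (hg : g ∈ M)
    (hp : p ∈ OInf M) : g • p ∈ OInf M := by
  obtain ⟨h, hh, rfl⟩ := hp
  exact ⟨g * h, mul_mem hg hh, mul_smul _ _ _⟩

variable (hm : 1 ≤ m) (hF : Fintype.card F = 2 ^ (2 * m + 1))
include hm hF

omit hm in
/-- the number of elements of a subfield -/
theorem card_inF_units {n : ℕ} (hn : n ∣ 2 * m + 1) :
    Nat.card {k : Fˣ // InF n (k : F)} = 2 ^ n - 1 := by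
  classical
  have h1 := IsCyclic.card_powMonoidHom_ker (G := Fˣ) (2 ^ n - 1)
  have hd : 2 ^ n - 1 ∣ Fintype.card F - 1 := by
    rw [hF]; exact Nat.pow_sub_one_dvd_pow_sub_one 2 hn
  rw [Nat.card_eq_fintype_card (α := Fˣ), Fintype.card_units, Nat.gcd_eq_right hd] at h1
  rw [← h1]
  refine Nat.card_congr (Equiv.subtypeEquivRight fun k => ?_)
  rw [MonoidHom.mem_ker, powMonoidHom_apply]
  have h2 : 2 ^ n = (2 ^ n - 1) + 1 := by have := Nat.one_le_two_pow (n := n); omega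
  unfold InF
  rw [Units.ext_iff, Units.val_pow_eq_pow_val, Units.val_one]
  constructor
  · intro h
    rw [h2, pow_succ] at h
    exact mul_eq_right₀ k.ne_zero |>.1 h
  · intro h
    rw [h2, pow_succ, h, one_mul]

omit hm in
theorem card_inF {n : ℕ} (hn : n ∣ 2 * m + 1) : Nat.card {x : F // InF n x} = 2 ^ n := by
  classical
  rw [Nat.card_eq_fintype_card, Fintype.card_subtype]
  have e : (Finset.univ.filter fun x : F => InF n x) =
      insert 0 ((Finset.univ.filter fun k : Fˣ => InF n (k : F)).image Units.val) := by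
    ext x
    simp only [Finset.mem_filter, Finset.mem_univ, true_and, Finset.mem_insert, Finset.mem_image]
    constructor
    · intro hx
      by_cases h0 : x = 0
      · exact Or.inl h0
      · exact Or.inr ⟨Units.mk0 x h0, hx, rfl⟩
    · rintro (rfl | ⟨k, hk, rfl⟩)
      exacts [InF.zero, hk]
  rw [e, Finset.card_insert_of_notMem, Finset.card_image_of_injective _ Units.val_injective,
    ← Fintype.card_subtype, ← Nat.card_eq_fintype_card, card_inF_units hF hn]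
  · have := Nat.one_le_two_pow (n := n); omega
  · simp only [Finset.mem_image, not_exists, not_and]
    exact fun k _ => k.ne_zero

omit hm in
theorem nofix_conj {M : Subgroup (Cfsg.Sz F m)} (h : ¬ ∃ a : suzukiOvoid F m, ∀ g ∈ M, g • a = a)
    (c : Cfsg.Sz F m) :
    ¬ ∃ a : suzukiOvoid F m, ∀ g ∈ M.map (MulAut.conj c).toMonoidHom, g • a = a := by
  rintro ⟨a, ha⟩
  refine h ⟨c⁻¹ • a, fun g hg => ?_⟩
  have := ha (c * g * c⁻¹) ⟨g, hg, rfl⟩
  rw [mul_smul, mul_smul] at this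
  exact eq_inv_smul_iff.2 this

namespace NForm

variable {M : Subgroup (Cfsg.Sz F m)} {n : ℕ}

theorem odd_n (h : NForm hF M n) : Odd n :=
  Odd.of_dvd_nat ⟨m, rfl⟩ h.dvd

theorem seven_le (h : NForm hF M n) : 7 ≤ 2 ^ n - 1 := by
  have := Nat.pow_le_pow_right (show 0 < 2 by norm_num) h.three_le
  omega

/-- the translations -/
theorem card_MU (h : NForm hF M n) :
    Nat.card ↥(M ⊓ U hF) = 2 ^ n ∨
      ((∀ a b : F, TS hF a b ∈ M ↔ InF n a ∧ InF n b) ∧ Nat.card ↥(M ⊓ U hF) = 2 ^ n * 2 ^ n) := by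
  rcases h.cases with hc | hc
  · left
    rw [← card_inF hF h.dvd]
    refine (Nat.card_eq_of_bijective (fun b : {b : F // InF n b} =>
      (⟨TS hF 0 b.1, Subgroup.mem_inf.2 ⟨(h.centre _).2 b.2, TS_mem_U hF _ _⟩⟩ : ↥(M ⊓ U hF)))
      ⟨fun b b' e => Subtype.ext (TS_inj hF (congrArg Subtype.val e)).2, ?_⟩).symm
    rintro ⟨g, hgM, a, b, hab⟩
    obtain rfl : g = TS hF a b := Subtype.ext hab
    obtain rfl := hc a b hgM
    exact ⟨⟨b, (h.centre b).1 hgM⟩, rfl⟩
  · refine Or.inr ⟨hc, ?_⟩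
    rw [← card_inF hF h.dvd, ← Nat.card_prod]
    refine (Nat.card_eq_of_bijective (fun p : {b : F // InF n b} × {b : F // InF n b} =>
      (⟨TS hF p.1.1 p.2.1, Subgroup.mem_inf.2 ⟨(hc _ _).2 ⟨p.1.2, p.2.2⟩, TS_mem_U hF _ _⟩⟩ :
        ↥(M ⊓ U hF))) ⟨?_, ?_⟩).symm
    · intro p p' e
      obtain ⟨e1, e2⟩ := TS_inj hF (congrArg Subtype.val e)
      exact Prod.ext (Subtype.ext e1) (Subtype.ext e2)
    · rintro ⟨g, hgM, a, b, hab⟩
      obtain rfl : g = TS hF a b := Subtype.ext hab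
      exact ⟨(⟨a, ((hc a b).1 hgM).1⟩, ⟨b, ((hc a b).1 hgM).2⟩), rfl⟩

/-- the elements fixing the point at infinity -/
theorem mem_stab (h : NForm hF M n) {g : Cfsg.Sz F m} (hg : g ∈ M) (hfix : g • oInf F m = oInf F m) :
    ∃ a b k, TS hF a b ∈ M ∧ InF n ((k : Fˣ) : F) ∧ g = TS hF a b * HS hF k := by
  obtain ⟨a, b, k, rfl⟩ := (mem_stab_inf hm hF).1 (smul_inf_iff.1 hfix)
  obtain ⟨h1, h2⟩ := h.split a b k hg
  exact ⟨a, b, k, h1, (h.torus k).1 h2, rfl⟩

theorem card_stab (h : NForm hF M n) :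
    Nat.card {g : Cfsg.Sz F m // g ∈ M ∧ g • oInf F m = oInf F m} =
      Nat.card ↥(M ⊓ U hF) * (2 ^ n - 1) := by
  rw [← card_inF_units hF h.dvd, ← Nat.card_prod]
  refine (Nat.card_eq_of_bijective (fun p : ↥(M ⊓ U hF) × {k : Fˣ // InF n (k : F)} =>
    (⟨(p.1 : Cfsg.Sz F m) * HS hF p.2.1, mul_mem (Subgroup.mem_inf.1 p.1.2).1 ((h.torus _).2 p.2.2), by
      obtain ⟨a, b, e⟩ := (Subgroup.mem_inf.1 p.1.2).2
      rw [mul_smul, HS_smul_inf hF, show (p.1 : Cfsg.Sz F m) = TS hF a b from Subtype.ext e,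
        TS_smul_inf hF]⟩ : {g : Cfsg.Sz F m // g ∈ M ∧ g • oInf F m = oInf F m})) ⟨?_, ?_⟩).symm
  · rintro ⟨⟨u, hu⟩, k, hk⟩ ⟨⟨u', hu'⟩, k', hk'⟩ e
    obtain ⟨a, b, hab⟩ := (Subgroup.mem_inf.1 hu).2
    obtain ⟨a', b', hab'⟩ := (Subgroup.mem_inf.1 hu').2
    obtain rfl : u = TS hF a b := Subtype.ext hab
    obtain rfl : u' = TS hF a' b' := Subtype.ext hab'
    obtain ⟨rfl, rfl, rfl⟩ := TH_inj' hF (congrArg Subtype.val e :)
    rfl
  · rintro ⟨g, hg, hfix⟩
    obtain ⟨a, b, k, h1, h2, rfl⟩ := h.mem_stab hm hF hg hfix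
    exact ⟨(⟨TS hF a b, Subgroup.mem_inf.2 ⟨h1, TS_mem_U hF a b⟩⟩, ⟨k, h2⟩), rfl⟩

/-- the order of the subgroup -/
theorem card_eq (h : NForm hF M n) :
    Nat.card M = Nat.card (OInf M) * Nat.card ↥(M ⊓ U hF) * (2 ^ n - 1) := by
  classical
  rw [mul_assoc, ← h.card_stab hm hF, ← Nat.card_prod]
  choose c hc using fun p : OInf M => p.2
  refine (Nat.card_eq_of_bijective (fun q : OInf M × {g : Cfsg.Sz F m // g ∈ M ∧ g • oInf F m = oInf F m} =>
    (⟨c q.1 * q.2.1, mul_mem (hc q.1).1 q.2.2.1⟩ : M)) ⟨?_, ?_⟩).symm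
  · rintro ⟨p, g, hg⟩ ⟨p', g', hg'⟩ e
    have e' : c p * g = c p' * g' := congrArg Subtype.val e
    have h1 := congrArg (· • oInf F m) e'
    simp only [mul_smul, hg.2, hg'.2, (hc p).2, (hc p').2] at h1
    obtain rfl : p = p' := Subtype.ext h1
    obtain rfl := mul_left_cancel e'
    rfl
  · rintro ⟨g, hg⟩
    let p : OInf M := ⟨g • oInf F m, g, hg, rfl⟩
    refine ⟨(p, ⟨(c p)⁻¹ * g, mul_mem (inv_mem (hc p).1) hg, ?_⟩), Subtype.ext (mul_inv_cancel_left _ _)⟩
    rw [mul_smul, inv_smul_eq_iff]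
    exact (hc p).2.symm

/-- the translations act semiregularly on the rest of the orbit -/
theorem exists_K (_h : NForm hF M n) (hnofix : ¬ ∃ a : suzukiOvoid F m, ∀ g ∈ M, g • a = a) :
    ∃ K, 1 ≤ K ∧ Nat.card (OInf M) = 1 + K * Nat.card ↥(M ⊓ U hF) := by
  classical
  let X := {p : suzukiOvoid F m // p ∈ OInf M ∧ p ≠ oInf F m}
  have hU : ∀ u : ↥(M ⊓ U hF), (u : Cfsg.Sz F m) • oInf F m = oInf F m := fun u => by
    obtain ⟨a, b, e⟩ := (Subgroup.mem_inf.1 u.2).2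
    rw [show (u : Cfsg.Sz F m) = TS hF a b from Subtype.ext e, TS_smul_inf hF]
  letI : MulAction ↥(M ⊓ U hF) X :=
    { smul := fun u p => ⟨(u : Cfsg.Sz F m) • p.1, smul_mem_OInf (Subgroup.mem_inf.1 u.2).1 p.2.1,
        fun e => p.2.2 (MulAction.injective (u : Cfsg.Sz F m) (e.trans (hU u).symm))⟩
      one_smul := fun p => Subtype.ext (one_smul _ p.1)
      mul_smul := fun u v p => Subtype.ext (mul_smul _ _ p.1) }
  have hfree : ∀ p : X, MulAction.stabilizer ↥(M ⊓ U hF) p = ⊥ := by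
    intro p
    rw [eq_bot_iff]
    intro u hu
    rw [Subgroup.mem_bot]
    have h1 : (u : Cfsg.Sz F m) • p.1 = p.1 := congrArg Subtype.val (MulAction.mem_stabilizer_iff.1 hu)
    by_contra hne
    exact not_two_of_two_fix hm hF (fun e => hne (Subtype.ext e))
      (isTwo_of_mem_U hF (Subgroup.mem_inf.1 u.2).2) (Ne.symm p.2.2) (hU u) h1
  have hX := Nat.card_congr (MulAction.selfEquivOrbitsQuotientProd hfree)
  rw [Nat.card_prod] at hX
  have hO : Nat.card (OInf M) = Nat.card X + 1 := by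
    haveI : Fintype X := Fintype.ofFinite _
    haveI : Fintype (suzukiOvoid F m) := Fintype.ofFinite _
    rw [Nat.card_eq_fintype_card, Nat.card_eq_fintype_card, ← Set.toFinset_card]
    have e : (OInf M).toFinset = insert (oInf F m)
        ((Finset.univ : Finset X).image Subtype.val) := by
      ext p
      simp only [Set.mem_toFinset, Finset.mem_insert, Finset.mem_image, Finset.mem_univ, true_and]
      constructor
      · intro hp
        by_cases hi : p = oInf F m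
        · exact Or.inl hi
        · exact Or.inr ⟨⟨p, hp, hi⟩, rfl⟩
      · rintro (rfl | ⟨q, rfl⟩)
        exacts [oInf_mem_OInf M, q.2.1]
    rw [e, Finset.card_insert_of_notMem, Finset.card_image_of_injective _ Subtype.val_injective,
      Finset.card_univ]
    simp only [Finset.mem_image, not_exists, not_and]
    exact fun q _ => q.2.2
  have hne : Nonempty X := by
    by_contra hX0
    refine hnofix ⟨oInf F m, fun g hg => ?_⟩
    by_contra hne
    exact hX0 ⟨⟨g • oInf F m, ⟨g, hg, rfl⟩, hne⟩⟩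
  refine ⟨_, ?_, by rw [hO, hX, add_comm]⟩
  rw [Nat.one_le_iff_ne_zero]
  intro h0
  rw [h0, zero_mul] at hX
  exact Nat.card_pos.ne' hX

/-- a 2-element fixes a point of the orbit -/
theorem two_fix_mem (h : NForm hF M n) (hnofix : ¬ ∃ a : suzukiOvoid F m, ∀ g ∈ M, g • a = a)
    {z : Cfsg.Sz F m} (hz : z ∈ M) (hz1 : z ≠ 1) (ht : IsTwo z) :
    ∃ p ∈ OInf M, z • p = p := by
  obtain ⟨i, hi⟩ := ht
  obtain ⟨j, -, hj⟩ := (Nat.dvd_prime_pow Nat.prime_two).1 (orderOf_dvd_of_pow_eq_one hi)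
  obtain ⟨j, rfl⟩ : ∃ j', j = j' + 1 :=
    Nat.exists_eq_succ_of_ne_zero fun e => hz1 (orderOf_eq_one_iff.1 (by rw [hj, e, pow_zero]))
  have ho : orderOf (z ^ 2 ^ j) = 2 := by
    rw [orderOf_pow' _ (by positivity), hj,
      Nat.gcd_eq_right (pow_dvd_pow 2 (Nat.le_succ j)), pow_succ, Nat.mul_div_cancel_left _ (by positivity)]
  have h01 : TS hF 0 1 ∈ M := (h.centre 1).2 InF.one
  have ho1 : orderOf (TS hF 0 1 : Cfsg.Sz F m) = 2 := by
    refine orderOf_eq_prime ?_ (fun e => one_ne_zero (TS_inj hF (e.trans (TS_zero' hF).symm)).2)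
    rw [sq, TS_sq' hF, th_zero (isSuzField hF), mul_zero, TS_zero' hF]
  obtain ⟨g, hg, e⟩ := invol_conj hm hF hnofix h01 (Subgroup.pow_mem _ hz _) ho1 ho
  refine ⟨g • oInf F m, ⟨g, hg, rfl⟩, ?_⟩
  have h1 : (z ^ 2 ^ j) • (g • oInf F m) = g • oInf F m := by
    rw [← e, mul_smul, mul_smul, inv_smul_smul, TS_smul_inf hF]
  obtain ⟨q, -, hq⟩ := two_fix hm hF (g := z ^ 2 ^ j)
    (fun e => by rw [e, orderOf_one] at ho; exact absurd ho (by norm_num))
    ⟨1, orderOf_dvd_iff_pow_eq_one.1 (dvd_of_eq (ho.trans (pow_one 2).symm))⟩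
  have h2 := centralizer_maps_fixed hF (g := z) (x := z ^ 2 ^ j) (pow_mul_comm' z _).symm h1
  exact (hq _ h2).trans (hq _ h1).symm

/-- counting 2-elements -/
theorem count_two (h : NForm hF M n) (hnofix : ¬ ∃ a : suzukiOvoid F m, ∀ g ∈ M, g • a = a)
    (P : Cfsg.Sz F m → Prop) (hP : ∀ c x, P x → P (c * x * c⁻¹)) :
    Nat.card {z : Cfsg.Sz F m // z ∈ M ∧ z ≠ 1 ∧ IsTwo z ∧ P z} =
      Nat.card (OInf M) * Nat.card {u : Cfsg.Sz F m // u ∈ M ⊓ U hF ∧ u ≠ 1 ∧ P u} := by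
  classical
  rw [← Nat.card_prod]
  choose c hc using fun p : OInf M => p.2
  refine (Nat.card_eq_of_bijective
    (fun q : OInf M × {u : Cfsg.Sz F m // u ∈ M ⊓ U hF ∧ u ≠ 1 ∧ P u} =>
      (⟨c q.1 * q.2.1 * (c q.1)⁻¹,
        mul_mem (mul_mem (hc q.1).1 (Subgroup.mem_inf.1 q.2.2.1).1) (inv_mem (hc q.1).1),
        fun e => q.2.2.2.1 (conj_eq_one_iff.1 e),
        (isTwo_of_mem_U hF (Subgroup.mem_inf.1 q.2.2.1).2).conj _, hP _ _ q.2.2.2.2⟩ :
        {z : Cfsg.Sz F m // z ∈ M ∧ z ≠ 1 ∧ IsTwo z ∧ P z})) ⟨?_, ?_⟩).symm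
  · rintro ⟨p, u, hu⟩ ⟨p', u', hu'⟩ e
    have e' : c p * u * (c p)⁻¹ = c p' * u' * (c p')⁻¹ := congrArg Subtype.val e
    have hfix : ∀ (q : OInf M) (v : Cfsg.Sz F m), v ∈ M ⊓ U hF →
        (c q * v * (c q)⁻¹) • (q : suzukiOvoid F m) = q := by
      intro q v hv
      obtain ⟨a, b, hab⟩ := (Subgroup.mem_inf.1 hv).2
      conv_lhs => rw [← (hc q).2]
      rw [show v = TS hF a b from Subtype.ext hab, mul_smul, mul_smul, inv_smul_smul, TS_smul_inf hF,
        (hc q).2]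
    obtain ⟨r, -, hr⟩ := two_fix hm hF (g := c p * u * (c p)⁻¹) (fun e => hu.2.1 (conj_eq_one_iff.1 e))
      ((isTwo_of_mem_U hF (Subgroup.mem_inf.1 hu.1).2).conj _)
    obtain rfl : p = p' := Subtype.ext ((hr _ (hfix p u hu.1)).trans
      (hr _ (by rw [e']; exact hfix p' u' hu'.1)).symm)
    obtain rfl := mul_left_cancel (mul_right_cancel e')
    rfl
  · rintro ⟨z, hz, hz1, ht, hPz⟩
    obtain ⟨p, hp, hzp⟩ := h.two_fix_mem hm hF hnofix hz hz1 ht
    set q : OInf M := ⟨p, hp⟩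
    have hq : (c q)⁻¹ * z * c q ∈ M ⊓ U hF := by
      refine Subgroup.mem_inf.2 ⟨mul_mem (mul_mem (inv_mem (hc q).1) hz) (hc q).1,
        mem_U_of_two hm hF (by simpa using ht.conj (c q)⁻¹) ?_⟩
      rw [mul_smul, mul_smul, (hc q).2, hzp, inv_smul_eq_iff, (hc q).2]
    refine ⟨(q, ⟨_, hq, fun e => hz1 ?_, by simpa using hP (c q)⁻¹ z hPz⟩), Subtype.ext ?_⟩
    · exact conj_eq_one_iff.1 (show (c q)⁻¹ * z * (c q)⁻¹⁻¹ = 1 by rwa [inv_inv])
    · show c q * ((c q)⁻¹ * z * c q) * (c q)⁻¹ = z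
      group

/-- the involutions of the translations -/
theorem card_invol_U (h : NForm hF M n) :
    Nat.card {u : Cfsg.Sz F m // u ∈ M ⊓ U hF ∧ u ≠ 1 ∧ u * u = 1} = 2 ^ n - 1 := by
  have hS := isSuzField hF
  rw [← card_inF_units hF h.dvd]
  refine (Nat.card_eq_of_bijective (fun k : {k : Fˣ // InF n (k : F)} =>
    (⟨TS hF 0 (k.1 : F), Subgroup.mem_inf.2 ⟨(h.centre _).2 k.2, TS_mem_U hF _ _⟩,
      fun e => k.1.ne_zero (TS_inj hF (e.trans (TS_zero' hF).symm)).2,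
      by rw [TS_sq' hF, mul_zero, TS_zero' hF]⟩ :
      {u : Cfsg.Sz F m // u ∈ M ⊓ U hF ∧ u ≠ 1 ∧ u * u = 1})) ⟨?_, ?_⟩).symm
  · intro k k' e
    exact Subtype.ext (Units.ext (TS_inj hF (congrArg Subtype.val e)).2)
  · rintro ⟨u, ⟨hu, a, b, hab⟩, hu1, hu2⟩
    obtain rfl : u = TS hF a b := Subtype.ext hab
    rw [TS_sq' hF, ← TS_zero' hF] at hu2
    have ha : a = 0 := by
      rcases mul_eq_zero.1 (TS_inj hF hu2).2 with h | h
      exacts [th_eq_zero hS h, h]
    subst ha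
    have hb : b ≠ 0 := fun e => hu1 (by rw [e, TS_zero' hF])
    exact ⟨⟨Units.mk0 b hb, (h.centre b).1 hu⟩, rfl⟩

omit hm in
/-- a torus element is not a 2-element -/
theorem not_two_HS (hm : 1 ≤ m) {k : Fˣ} (hk : k ≠ 1) : ¬ IsTwo (HS hF k : Cfsg.Sz F m) := fun ht =>
  not_two_of_two_fix hm hF (fun e => hk (HS_injective hF (e.trans (HS_one hF).symm))) ht
    inf_ne_zero' (HS_smul_inf hF k) (HS_smul_zero hF k)

/-- the centraliser of a torus element -/
theorem CM_torus (h : NForm hF M n) {k : Fˣ} (hk : k ≠ 1) (g : Cfsg.Sz F m) :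
    g ∈ CM M (HS hF k) ↔ ∃ l, InF n ((l : Fˣ) : F) ∧ g = HS hF l := by
  constructor
  · intro hg
    obtain ⟨hgC, hgM⟩ := Subgroup.mem_inf.1 hg
    have hk1 : (HS hF k : Cfsg.Sz F m) ≠ 1 := fun e => hk (HS_injective hF (e.trans (HS_one hF).symm))
    have hc := Subgroup.mem_centralizer_singleton_iff.1 hgC
    have h1 := three_of hF hk1 hm inf_ne_zero' (HS_smul_inf hF k) (HS_smul_zero hF k)
      (centralizer_maps_fixed hF hc (HS_smul_inf hF k))
    have h2 := three_of hF hk1 hm inf_ne_zero' (HS_smul_inf hF k) (HS_smul_zero hF k)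
      (centralizer_maps_fixed hF hc (HS_smul_zero hF k))
    have hi : g • oInf F m = oInf F m := by
      refine h1.resolve_right fun hs => ?_
      have hs' : g • oZero F m = oInf F m :=
        h2.resolve_right fun e => inf_ne_zero' (MulAction.injective g (hs.trans e.symm))
      have hsq : ∀ i, (g ^ (2 * i)) • oInf F m = oInf F m := by
        intro i
        induction i with
        | zero => simp
        | succ i ih => rw [Nat.mul_succ, pow_add, sq, mul_smul, mul_smul, hs, hs', ih]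
      have hodd : ¬ 2 ∣ orderOf g := fun hd => odd_centralizer hm hF (not_two_HS hF hm hk)
        (hd.trans (Subgroup.orderOf_dvd_natCard _ hgC))
      obtain ⟨i, hi⟩ : Odd (orderOf g) := Nat.odd_iff.2 (by omega)
      have hg2 : g ^ (2 * (i + 1)) = g := by
        rw [show 2 * (i + 1) = orderOf g + 1 by omega, pow_succ, pow_orderOf_eq_one, one_mul]
      have := hsq (i + 1)
      rw [hg2, hs] at this
      exact inf_ne_zero' this.symm
    have hz : g • oZero F m = oZero F m :=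
      h2.resolve_left fun e => inf_ne_zero' (MulAction.injective g (hi.trans e.symm))
    obtain ⟨l, rfl⟩ := (mem_stab_pair hm hF).1 (Subgroup.mem_inf.2
      ⟨MulAction.mem_stabilizer_iff.2 (congrArg Subtype.val hi),
       MulAction.mem_stabilizer_iff.2 (congrArg Subtype.val hz)⟩)
    exact ⟨l, (h.torus l).1 hgM, rfl⟩
  · rintro ⟨l, hl, rfl⟩
    refine Subgroup.mem_inf.2 ⟨Subgroup.mem_centralizer_singleton_iff.2 ?_, (h.torus l).2 hl⟩
    rw [← HS_mul hF, ← HS_mul hF, mul_comm]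

theorem card_CM_torus (h : NForm hF M n) {k : Fˣ} (hk : k ≠ 1) :
    Nat.card ↥(CM M (HS hF k)) = 2 ^ n - 1 := by
  rw [← card_inF_units hF h.dvd]
  refine (Nat.card_eq_of_bijective (fun l : {l : Fˣ // InF n (l : F)} =>
    (⟨HS hF l.1, (h.CM_torus hm hF hk _).2 ⟨l.1, l.2, rfl⟩⟩ : ↥(CM M (HS hF k)))) ⟨?_, ?_⟩).symm
  · intro l l' e
    exact Subtype.ext (HS_injective hF (congrArg Subtype.val e))
  · rintro ⟨g, hg⟩
    obtain ⟨l, hl, rfl⟩ := (h.CM_torus hm hF hk g).1 hg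
    exact ⟨⟨l, hl⟩, rfl⟩

/-- the normaliser of the torus -/
theorem NM_torus (h : NForm hF M n) {k : Fˣ} (hk : k ≠ 1) (hkF : InF n (k : F)) :
    NM M (HS hF k) = CM M (HS hF k) ∨
      (Nat.card ↥(NM M (HS hF k)) ≤ 2 * Nat.card ↥(CM M (HS hF k)) ∧
        ∃ w ∈ M, w • oInf F m = oZero F m ∧ w • oZero F m = oInf F m) := by
  have key : ∀ g ∈ NM M (HS hF k),
      (g • oInf F m = oInf F m ∧ g ∈ CM M (HS hF k)) ∨
        (g • oInf F m = oZero F m ∧ g • oZero F m = oInf F m) := by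
    intro g hg
    obtain ⟨hgN, hgM⟩ := Subgroup.mem_inf.1 hg
    have h1 : g⁻¹ * HS hF k * g ∈ CM M (HS hF k) := by
      refine Subgroup.mem_inf.2 ⟨?_, mul_mem (mul_mem (inv_mem hgM) ((h.torus k).2 hkF)) hgM⟩
      have := (Subgroup.mem_normalizer_iff.1 (inv_mem hgN) (HS hF k)).1
        (Subgroup.mem_centralizer_singleton_iff.2 rfl :
          HS hF k ∈ Subgroup.centralizer ({HS hF k} : Set (Cfsg.Sz F m)))
      simpa using this
    obtain ⟨l, -, hl⟩ := (h.CM_torus hm hF hk _).1 h1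
    have hk1 : (HS hF k : Cfsg.Sz F m) ≠ 1 := fun e => hk (HS_injective hF (e.trans (HS_one hF).symm))
    have hfix : ∀ p : suzukiOvoid F m, (HS hF l : Cfsg.Sz F m) • p = p → (HS hF k : Cfsg.Sz F m) • (g • p) = g • p := by
      intro p hp
      rw [← hl, mul_smul, mul_smul, inv_smul_eq_iff] at hp
      exact hp
    have ha := three_of hF hk1 hm inf_ne_zero' (HS_smul_inf hF k) (HS_smul_zero hF k)
      (hfix _ (HS_smul_inf hF l))
    have hb := three_of hF hk1 hm inf_ne_zero' (HS_smul_inf hF k) (HS_smul_zero hF k)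
      (hfix _ (HS_smul_zero hF l))
    rcases ha with ha | ha
    · have hb' : g • oZero F m = oZero F m :=
        hb.resolve_left fun e => inf_ne_zero' (MulAction.injective g (ha.trans e.symm))
      obtain ⟨l', rfl⟩ := (mem_stab_pair hm hF).1 (Subgroup.mem_inf.2
        ⟨MulAction.mem_stabilizer_iff.2 (congrArg Subtype.val ha),
         MulAction.mem_stabilizer_iff.2 (congrArg Subtype.val hb')⟩)
      exact Or.inl ⟨ha, (h.CM_torus hm hF hk _).2 ⟨l', (h.torus l').1 hgM, rfl⟩⟩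
    · exact Or.inr ⟨ha, hb.resolve_right fun e => inf_ne_zero' (MulAction.injective g (ha.trans e.symm))⟩
  by_cases hw : ∃ w ∈ NM M (HS hF k), w • oInf F m = oZero F m
  · right
    obtain ⟨w, hw, hwi⟩ := hw
    have hwz : w • oZero F m = oInf F m := by
      rcases key w hw with ⟨e, -⟩ | ⟨-, e⟩
      exacts [absurd (e.symm.trans hwi) inf_ne_zero', e]
    refine ⟨?_, w, (Subgroup.mem_inf.1 hw).2, hwi, hwz⟩
    classical
    let f : ↥(NM M (HS hF k)) → ↥(CM M (HS hF k)) ⊕ ↥(CM M (HS hF k)) := fun g =>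
      if hg : (g : Cfsg.Sz F m) • oInf F m = oInf F m then
        Sum.inl ⟨g, ((key g g.2).resolve_right fun e => inf_ne_zero' (hg.symm.trans e.1)).2⟩
      else Sum.inr ⟨w⁻¹ * g, ((key (w⁻¹ * g) (mul_mem (inv_mem hw) g.2)).resolve_right fun e => by
        have h1 := ((key g g.2).resolve_left fun e' => hg e'.1).1
        have h2 := e.1
        rw [mul_smul, h1, inv_smul_eq_iff, hwz] at h2
        exact inf_ne_zero' h2.symm).2⟩
    have hf : Function.Injective f := by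
      intro g g' e
      simp only [f] at e
      split_ifs at e
      · exact Subtype.ext (congrArg Subtype.val (Sum.inl_injective e) :)
      · exact Subtype.ext (mul_left_cancel (congrArg Subtype.val (Sum.inr_injective e) :))
    have := Nat.card_le_card_of_injective f hf
    rw [Nat.card_sum] at this
    omega
  · left
    push Not at hw
    exact le_antisymm (fun g hg => ((key g hg).resolve_right fun e => hw g hg e.1).2) (CM_le M _)

end NForm

end CfsgLib.Lie.Suz
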