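import Cfsg.Agent.Lib.Lie.Suz.Sub.Solubilizer

/-!
# The values of the solubilizers
-/

set_option autoImplicit false
set_option maxHeartbeats 800000

namespace CfsgLib.Lie.Suz

open Cfsg
open scoped MatrixGroups Pointwise

/-- arithmetic for an involution -/
theorem arith_invol {q r A P M cA cP cM : ℤ} (hr : r * r = 2 * q) (hA : A + 1 = q) (hP : P = q + r + 1)
    (hM : M + r = q + 1) (hq : 0 < A) (hP0 : 0 < P) (hM0 : 0 < M) (h1 : cA * 2 = q ^ 2) (h2 : cP * 4 = q ^ 2)
    (h3 : cM * 4 = q ^ 2) :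
    q ^ 2 * (q - 1) + cA * (2 * (A - 1)) + cP * (4 * (P - 1)) + cM * (4 * (M - 1)) = q ^ 2 * (4 * q - 3) := by
  linear_combination (A - 1) * h1 + (P - 1) * h2 + (M - 1) * h3 + q ^ 2 * hA + q ^ 2 * hP + q ^ 2 * hM

/-- arithmetic for an element of order four -/
theorem arith_four {q r A P M cA cP cM : ℤ} (hA : A + 1 = q) (hP : P = q + r + 1)
    (hM : M + r = q + 1) (h1 : cA = 0) (h2 : cP * 2 = q) (h3 : cM * 2 = q) :
    q ^ 2 * (q - 1) + cA * (2 * (A - 1)) + cP * (4 * (P - 1)) + cM * (4 * (M - 1)) = q ^ 2 * (q + 3) := by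
  linear_combination (2 * (A - 1)) * h1 + 2 * (P - 1) * h2 + 2 * (M - 1) * h3 + 2 * q * hP + 2 * q * hM

variable {F : Type*} [Field F] [Fintype F] {m : ℕ}
variable (hm : 1 ≤ m) (hF : Fintype.card F = 2 ^ (2 * m + 1))
include hm hF

/-- an element which is not a 2-element lies in one normaliser only -/
theorem exists_NC_iff {x : Cfsg.Sz F m} (hx : ¬ IsTwo x) (y : Cfsg.Sz F m) :
    (∃ z : Cfsg.Sz F m, ¬ IsTwo z ∧ x ∈ NC z ∧ y ∈ NC z) ↔ y ∈ NC x := by
  constructor
  · rintro ⟨z, hz, hxz, hyz⟩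
    have := NC_eq_of_mem hm hF hz hxz hx
    rwa [NC, this] at hyz
  · intro hy
    exact ⟨x, hx, Subgroup.le_normalizer (Subgroup.mem_centralizer_singleton_iff.2 rfl), hy⟩

theorem sol_semi (hp : (2 * m + 1).Prime) {x : Cfsg.Sz F m} (hx : x ≠ 1) {d : ℕ}
    (hd : d ∈ ({2 ^ (2 * m + 1) - 1, 2 ^ (2 * m + 1) + 2 ^ (m + 1) + 1,
        2 ^ (2 * m + 1) - 2 ^ (m + 1) + 1} : Set ℕ)) (ho : orderOf x ∣ d) :
    Nat.card {y : Cfsg.Sz F m // Group.IsSolvable ↥(Subgroup.closure ({x, y} : Set (Cfsg.Sz F m)))} =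
      if d = 2 ^ (2 * m + 1) - 1 then 2 * Fintype.card F ^ 2 * (Fintype.card F - 1) else 4 * d := by
  classical
  haveI : Fintype (Cfsg.Sz F m) := Fintype.ofFinite _
  obtain ⟨hx2, hxd⟩ := card_C_eq hm hF hx hd ho
  have hN := Tset_normalizer hm hF hd (C := Subgroup.centralizer {x}) ⟨x, hx2, rfl, hxd⟩
  have hfree := free_iff_card hm hF hx2
  rw [hxd] at hfree
  split_ifs with hA
  · rw [if_pos hA] at hN
    obtain ⟨a, b, hab, ha, hb⟩ := two_fixed_of_not_free hm hF hx2 (fun h => hfree.1 h hA)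
    set A := Finset.univ.filter fun y : Cfsg.Sz F m => y • a = a with hAdef
    set B := Finset.univ.filter fun y : Cfsg.Sz F m => y • b = b with hBdef
    set N := Finset.univ.filter fun y : Cfsg.Sz F m => y ∈ NC x with hNdef
    set C := Finset.univ.filter fun y : Cfsg.Sz F m =>
      y ∈ Subgroup.centralizer ({x} : Set (Cfsg.Sz F m)) with hCdef
    obtain ⟨c, hca, hcb⟩ := exists_conj_pair hF hab
    have hAB : A ∩ B = C := by
      have hsub : A ∩ B ⊆ C := by
        intro y hy
        simp only [hAdef, hBdef, Finset.mem_inter, Finset.mem_filter, Finset.mem_univ, true_and] at hy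
        simp only [hCdef, Finset.mem_filter, Finset.mem_univ, true_and]
        obtain ⟨k, hk⟩ := stab_pair_le hm hF c hca hcb hy.1 hy.2
        obtain ⟨l, hl⟩ := stab_pair_le hm hF c hca hcb ha hb
        refine Subgroup.mem_centralizer_singleton_iff.2 ?_
        rw [hk, hl]
        calc c * HS hF k * c⁻¹ * (c * HS hF l * c⁻¹) = c * HS hF (k * l) * c⁻¹ := by rw [HS_mul hF]; group
          _ = c * HS hF (l * k) * c⁻¹ := by rw [mul_comm]
          _ = _ := by rw [HS_mul hF]; group
      refine Finset.eq_of_subset_of_card_le hsub ?_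
      have h1 : (Finset.univ.image fun k : Fˣ => c * HS hF k * c⁻¹) ⊆ A ∩ B := by
        intro y hy
        obtain ⟨k, -, rfl⟩ := Finset.mem_image.1 hy
        simp only [hAdef, hBdef, Finset.mem_inter, Finset.mem_filter, Finset.mem_univ, true_and]
        change c • oInf F m = a at hca
        change c • oZero F m = b at hcb
        constructor
        · rw [← hca, mul_smul, mul_smul, inv_smul_smul, HS_smul_inf hF]
        · rw [← hcb, mul_smul, mul_smul, inv_smul_smul, HS_smul_zero hF]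
      have h2 : C.card = 2 ^ (2 * m + 1) - 1 := by
        rw [hCdef, ← Fintype.card_subtype, ← Nat.card_eq_fintype_card]
        exact hxd.trans hA
      refine le_trans ?_ (Finset.card_le_card h1)
      rw [Finset.card_image_of_injective _ (fun k l e => HS_injective hF (mul_left_cancel (mul_right_cancel e))),
        Finset.card_univ, Fintype.card_units, hF, h2]
    have hmaps : ∀ y ∈ Subgroup.centralizer ({x} : Set (Cfsg.Sz F m)), y • a = a ∧ y • b = b := by
      intro y hy
      have : y ∈ A ∩ B := by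
        rw [hAB]; simp [hCdef, hy]
      simpa [hAdef, hBdef] using this
    have hNfix : ∀ y ∈ N, ∀ p : suzukiOvoid F m, x • p = p → y • p = p → y ∈ C := by
      intro y hy p hxp hyp
      simp only [hNdef, hCdef, Finset.mem_filter, Finset.mem_univ, true_and] at hy ⊢
      by_cases hy2 : IsTwo y
      · by_cases hy1 : y = 1
        · rw [hy1]; exact one_mem _
        · exact absurd (two_NC_fix hm hF hx2 hy hy1 hy2 hyp
            (Subgroup.mem_centralizer_singleton_iff.2 rfl) hxp) hx
      · exact mem_C_of_nontwo hm hF hx2 hy hy2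
    have hall : (Finset.univ.filter fun y : Cfsg.Sz F m =>
        Group.IsSolvable ↥(Subgroup.closure ({x, y} : Set (Cfsg.Sz F m)))) = A ∪ B ∪ N := by
      ext y
      simp only [Finset.mem_filter, Finset.mem_univ, true_and, Finset.mem_union, hAdef, hBdef, hNdef,
        solvable_pair_iff hm hF hp, exists_NC_iff hm hF hx2]
      constructor
      · rintro (⟨p, hxp, hyp⟩ | h)
        · rcases three_of hF hx hm hab ha hb hxp with rfl | rfl
          exacts [Or.inl (Or.inl hyp), Or.inl (Or.inr hyp)]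
        · exact Or.inr h
      · rintro ((h | h) | h)
        exacts [Or.inl ⟨a, ha, h⟩, Or.inl ⟨b, hb, h⟩, Or.inr h]
    have hABN : (A ∪ B) ∩ N = C := by
      ext y
      constructor
      · intro hy
        obtain ⟨h1, h2⟩ := Finset.mem_inter.1 hy
        rcases Finset.mem_union.1 h1 with h | h
        · exact hNfix y h2 a ha (Finset.mem_filter.1 h).2
        · exact hNfix y h2 b hb (Finset.mem_filter.1 h).2
      · intro hy
        have hy' := (Finset.mem_filter.1 hy).2
        refine Finset.mem_inter.2 ⟨Finset.mem_union_left _ (by simp [hAdef, (hmaps y hy').1]), ?_⟩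
        simp only [hNdef, Finset.mem_filter, Finset.mem_univ, true_and]
        exact Subgroup.le_normalizer hy'
    have h1 := Finset.card_union_add_card_inter (A ∪ B) N
    have h2 := Finset.card_union_add_card_inter A B
    rw [hABN] at h1
    rw [hAB] at h2
    have hAc : A.card = Fintype.card F ^ 2 * (Fintype.card F - 1) := by
      rw [hAdef, ← Fintype.card_subtype, ← Nat.card_eq_fintype_card]; exact card_stab hm hF a
    have hBc : B.card = Fintype.card F ^ 2 * (Fintype.card F - 1) := by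
      rw [hBdef, ← Fintype.card_subtype, ← Nat.card_eq_fintype_card]; exact card_stab hm hF b
    have hCc : C.card = d := by
      rw [hCdef, ← Fintype.card_subtype, ← Nat.card_eq_fintype_card]; exact hxd
    have hNc : N.card = 2 * d := by
      rw [hNdef, ← Fintype.card_subtype, ← Nat.card_eq_fintype_card]; exact hN
    rw [Nat.card_eq_fintype_card, Fintype.card_subtype, hall, mul_assoc 2]
    omega
  · rw [if_neg hA] at hN
    have hf := hfree.2 hA
    rw [← hN]
    refine Nat.card_congr (Equiv.subtypeEquivRight fun y => ?_)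
    rw [solvable_pair_iff hm hF hp, exists_NC_iff hm hF hx2]
    exact ⟨fun h => h.resolve_left fun ⟨p, hxp, _⟩ => hf p hxp, Or.inr⟩

/-- the number of normalisers of each type -/
theorem through_values {x : Cfsg.Sz F m} {o : ℕ} (ho : o = 2 ∨ o = 4) (hx : orderOf x = o) {d : ℕ}
    (hd : d ∈ ({2 ^ (2 * m + 1) - 1, 2 ^ (2 * m + 1) + 2 ^ (m + 1) + 1,
        2 ^ (2 * m + 1) - 2 ^ (m + 1) + 1} : Set ℕ)) :
    Nat.card {C : Subgroup (Cfsg.Sz F m) // C ∈ Tset F m d ∧ x ∈ Subgroup.normalizer (C : Set (Cfsg.Sz F m))} *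
        ((if o = 2 then 1 else Fintype.card F) * (if d = 2 ^ (2 * m + 1) - 1 then 2 else 4)) =
      Fintype.card F ^ 2 * (if o = 2 then 1 else (if d = 2 ^ (2 * m + 1) - 1 then 2 else 4) - 2) := by
  obtain ⟨hodd, hd1, -⟩ := tori_coprime hF hm hd hd
  set f := if d = 2 ^ (2 * m + 1) - 1 then 2 else 4 with hf
  have hf2 : f = 2 ∨ f = 4 := by rw [hf]; split_ifs <;> simp
  set w := if o = 2 then 1 else f - 2 with hw
  have hcnt := count_through hm hF hd ho (ν := w * d) (fun z hz hzT => by
    have hN := Tset_normalizer hm hF hd hzT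
    obtain ⟨z', -, hzz', hzd⟩ := hzT
    have hzd' : Nat.card ↥(Subgroup.centralizer ({z} : Set (Cfsg.Sz F m))) = d := hzd
    obtain ⟨h1, h2⟩ := NC_counts hm hF hz (f := f) (by rw [hzd']; exact hN) hf2
    rcases ho with rfl | rfl
    · rw [h1, hzd', hw, if_pos rfl, one_mul]
    · rw [h2, hzd', hw, if_neg (by norm_num)]) hx
  have hT := card_Tset hm hF hd
  rw [← hf, card_Sz hm hF] at hT
  have h8 := eight_le_q hF hm
  rcases ho with rfl | rfl
  · simp only [hw, if_pos, one_mul, mul_one] at hcnt ⊢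
    rw [card_order_two hm hF] at hcnt
    apply Nat.eq_of_mul_eq_mul_right (show 0 < (Fintype.card F ^ 2 + 1) * (Fintype.card F - 1) from
      Nat.mul_pos (Nat.succ_pos _) (by omega))
    rw [mul_right_comm, hcnt, mul_assoc, mul_comm d f, hT, mul_assoc]
  · simp only [hw, if_neg (show (4 : ℕ) ≠ 2 by norm_num)] at hcnt ⊢
    rw [card_order_four hm hF, show Fintype.card F ^ 2 - Fintype.card F = Fintype.card F * (Fintype.card F - 1) by
      rw [sq, Nat.mul_sub, mul_one]] at hcnt
    apply Nat.eq_of_mul_eq_mul_right (show 0 < (Fintype.card F ^ 2 + 1) * (Fintype.card F - 1) from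
      Nat.mul_pos (Nat.succ_pos _) (by omega))
    calc _ = Nat.card {C : Subgroup (Cfsg.Sz F m) // C ∈ Tset F m d ∧ x ∈ Subgroup.normalizer (C : Set (Cfsg.Sz F m))} *
          ((Fintype.card F ^ 2 + 1) * (Fintype.card F * (Fintype.card F - 1))) * f := by ring
      _ = (f - 2) * (Nat.card (Tset F m d) * (f * d)) := by rw [hcnt]; ring
      _ = _ := by rw [hT]; ring

/-- solubilizers of involutions and elements of order four -/
theorem sol_values (hp : (2 * m + 1).Prime) {x : Cfsg.Sz F m} :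
    (orderOf x = 2 → Nat.card {y : Cfsg.Sz F m // Group.IsSolvable ↥(Subgroup.closure ({x, y} : Set (Cfsg.Sz F m)))} =
      Fintype.card F ^ 2 * (4 * Fintype.card F - 3)) ∧
    (orderOf x = 4 → Nat.card {y : Cfsg.Sz F m // Group.IsSolvable ↥(Subgroup.closure ({x, y} : Set (Cfsg.Sz F m)))} =
      Fintype.card F ^ 2 * (Fintype.card F + 3)) := by
  have h8 := eight_le_q hF hm
  obtain ⟨c1, c2, -⟩ := tori_coprime' hF hm
  have hdA : (2 ^ (2 * m + 1) - 1) ∈ ({2 ^ (2 * m + 1) - 1, 2 ^ (2 * m + 1) + 2 ^ (m + 1) + 1,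
      2 ^ (2 * m + 1) - 2 ^ (m + 1) + 1} : Set ℕ) := Or.inl rfl
  have hrr : 2 ^ (m + 1) * 2 ^ (m + 1) = 2 * 2 ^ (2 * m + 1) := by
    rw [← pow_succ', ← pow_add]; congr 1; omega
  have hle : 2 ^ (m + 1) ≤ 2 ^ (2 * m + 1) := Nat.pow_le_pow_right (by norm_num) (by omega)
  rw [hF] at h8
  have hne1 : 2 ^ (2 * m + 1) + 2 ^ (m + 1) + 1 ≠ 2 ^ (2 * m + 1) - 1 := fun e => by
    have := Nat.eq_one_of_dvd_coprimes c1 dvd_rfl (dvd_of_eq e.symm); omega
  have hne2 : 2 ^ (2 * m + 1) - 2 ^ (m + 1) + 1 ≠ 2 ^ (2 * m + 1) - 1 := fun e => by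
    have := Nat.eq_one_of_dvd_coprimes c2 dvd_rfl (dvd_of_eq e.symm); omega
  refine ⟨fun ho => ?_, fun ho => ?_⟩
  all_goals
    rw [sol_two hm hF hp (x := x) (by omega)]
    have e1 := through_values hm hF (x := x) (o := orderOf x) (by omega) rfl hdA
    have e2 := through_values hm hF (x := x) (o := orderOf x) (by omega) rfl
      (d := 2 ^ (2 * m + 1) + 2 ^ (m + 1) + 1) (Or.inr (Or.inl rfl))
    have e3 := through_values hm hF (x := x) (o := orderOf x) (by omega) rfl
      (d := 2 ^ (2 * m + 1) - 2 ^ (m + 1) + 1) (Or.inr (Or.inr rfl))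
    rw [if_pos rfl] at e1
    rw [if_neg hne1] at e2
    rw [if_neg hne2] at e3
    generalize Nat.card {C : Subgroup (Cfsg.Sz F m) // C ∈ Tset F m (2 ^ (2 * m + 1) - 1) ∧
        x ∈ Subgroup.normalizer (C : Set (Cfsg.Sz F m))} = cA at e1 ⊢
    generalize Nat.card {C : Subgroup (Cfsg.Sz F m) // C ∈ Tset F m (2 ^ (2 * m + 1) + 2 ^ (m + 1) + 1) ∧
        x ∈ Subgroup.normalizer (C : Set (Cfsg.Sz F m))} = cP at e2 ⊢
    generalize Nat.card {C : Subgroup (Cfsg.Sz F m) // C ∈ Tset F m (2 ^ (2 * m + 1) - 2 ^ (m + 1) + 1) ∧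
        x ∈ Subgroup.normalizer (C : Set (Cfsg.Sz F m))} = cM at e3 ⊢
    rw [hF] at e1 e2 e3 ⊢
    simp only [ho] at e1 e2 e3
    generalize 2 ^ (2 * m + 1) = q at *
    generalize 2 ^ (m + 1) = r at *
    obtain ⟨A, hA⟩ : ∃ A, q = A + 1 := ⟨q - 1, by omega⟩
    obtain ⟨M, hM⟩ : ∃ M, q + 1 = r + M := ⟨q + 1 - r, by omega⟩
    rw [show q - r + 1 = M by omega]
    rw [show q - 1 = A by omega] at *
  · norm_num at e1 e2 e3
    zify [show 1 ≤ A by omega, show 1 ≤ M by omega, show 1 ≤ q + r + 1 by omega, show 3 ≤ 4 * q by omega]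
    have := arith_invol (q := (q : ℤ)) (r := r) (A := A) (P := (q : ℤ) + r + 1) (M := M) (cA := cA)
      (cP := cP) (cM := cM) (by exact_mod_cast hrr) (by omega) rfl (by omega) (by omega) (by omega)
      (by omega) (by exact_mod_cast e1) (by exact_mod_cast e2) (by exact_mod_cast e3)
    rw [show (A : ℤ) = (q : ℤ) - 1 by omega] at this ⊢
    linarith
  · norm_num at e1 e2 e3
    have e1' : cA = 0 := by
      rcases e1 with h | h
      · exact h
      · exfalso; omega
    have e2' : cP * 2 = q := Nat.eq_of_mul_eq_mul_right (show 0 < 2 * q by omega) (by linarith)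
    have e3' : cM * 2 = q := Nat.eq_of_mul_eq_mul_right (show 0 < 2 * q by omega) (by linarith)
    zify [show 1 ≤ A by omega, show 1 ≤ M by omega, show 1 ≤ q + r + 1 by omega]
    have := arith_four (q := (q : ℤ)) (r := r) (A := A) (P := (q : ℤ) + r + 1) (M := M) (cA := cA)
      (cP := cP) (cM := cM) (by omega) rfl (by omega) (by exact_mod_cast e1') (by exact_mod_cast e2')
      (by exact_mod_cast e3')
    rw [show (A : ℤ) = (q : ℤ) - 1 by omega] at this ⊢
    linarith

omit hm hF in
theorem card_sol_transport {G G' : Type*} [Group G] [Group G'] (e : G ≃* G') (x : G) :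
    Nat.card {y : G' // Group.IsSolvable ↥(Subgroup.closure ({e x, y} : Set G'))} =
      Nat.card {y : G // Group.IsSolvable ↥(Subgroup.closure ({x, y} : Set G))} := by
  refine (Nat.card_congr (Equiv.subtypeEquiv e.toEquiv fun y => ?_)).symm
  have hmap : (Subgroup.closure ({x, y} : Set G)).map e.toMonoidHom = Subgroup.closure ({e x, e y} : Set G') := by
    rw [MonoidHom.map_closure, Set.image_pair]
    rfl
  let ψ := ((Subgroup.closure ({x, y} : Set G)).equivMapOfInjective e.toMonoidHom e.injective).trans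
    (MulEquiv.subgroupCongr hmap)
  constructor
  · intro h
    exact Group.isSolvable_of_surjective (f := ψ.toMonoidHom) ψ.surjective
  · intro h
    exact Group.isSolvable_of_isSolvable_injective (f := ψ.toMonoidHom) ψ.injective

end CfsgLib.Lie.Suz
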