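import Cfsg.Agent.Lib.Lie.Suz.Sub.Fix
import Cfsg.Agent.Lib.Lie.Suz.Aut
import Mathlib.FieldTheory.Finite.GaloisField

/-!
# The subfield subgroups of the Suzuki group
-/

set_option autoImplicit false
set_option maxHeartbeats 400000

namespace CfsgLib.Lie.Suz

open Cfsg
open scoped MatrixGroups Pointwise

variable {F : Type*} [Field F] [Fintype F] {m : ℕ}

/-- lying in the subfield with `2 ^ n` elements -/
def InF (n : ℕ) (x : F) : Prop := x ^ 2 ^ n = x

variable (hm : 1 ≤ m) (hF : Fintype.card F = 2 ^ (2 * m + 1))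
include hm hF

omit hm in
theorem charTwo : CharP F 2 :=
  haveI : Fact (Nat.Prime 2) := ⟨Nat.prime_two⟩
  charP_of_card_eq_prime_pow (by exact hF)

/-- the Frobenius power as an automorphism -/
noncomputable def frobA (n : ℕ) : RingAut F :=
  haveI := charTwo hF
  iterateFrobeniusEquiv F 2 n

omit hm in
theorem frobA_apply (n : ℕ) (x : F) : frobA hF n x = x ^ 2 ^ n := by
  haveI := charTwo hF
  exact iterateFrobeniusEquiv_def (R := F) (p := 2) (n := n) x

omit hm in
theorem inF_iff (n : ℕ) (x : F) : InF n x ↔ frobA hF n x = x := by rw [frobA_apply hF]; rfl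

omit hm in
theorem InF.add {n : ℕ} {x y : F} (hx : InF n x) (hy : InF n y) : InF n (x + y) := by
  rw [inF_iff hF] at *; rw [map_add, hx, hy]

omit hm hF [Fintype F] in
theorem InF.mul {n : ℕ} {x y : F} (hx : InF n x) (hy : InF n y) : InF n (x * y) := by
  unfold InF at *; rw [mul_pow, hx, hy]

omit hm hF [Fintype F] in
theorem InF.inv {n : ℕ} {x : F} (hx : InF n x) : InF n x⁻¹ := by
  unfold InF at *; rw [inv_pow, hx]

omit hm hF [Fintype F] in
theorem InF.one {n : ℕ} : InF n (1 : F) := one_pow _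

omit hm hF [Fintype F] in
theorem InF.zero {n : ℕ} : InF n (0 : F) := zero_pow (pow_ne_zero _ two_ne_zero)

omit hm hF [Fintype F] in
theorem InF.th {n : ℕ} {x : F} (hx : InF n x) : InF n (th m x) := by
  unfold InF Suz.th at *; rw [← pow_mul, mul_comm, pow_mul, hx]

/-- the subfield subgroup -/
noncomputable def SubSz (n : ℕ) : Subgroup (Cfsg.Sz F m) :=
  MonoidHom.eqLocus (sigAut hm hF (frobA hF n)).toMonoidHom (MonoidHom.id _)

theorem mem_SubSz {n : ℕ} {g : Cfsg.Sz F m} :
    g ∈ SubSz hm hF n ↔ sigAut hm hF (frobA hF n) g = g := Iff.rfl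

theorem SubSz_top : SubSz hm hF (2 * m + 1) = (⊤ : Subgroup (Cfsg.Sz F m)) := by
  rw [eq_top_iff]
  intro g _
  rw [mem_SubSz]
  refine Subtype.ext (Subtype.ext (Matrix.ext fun i j => ?_))
  show frobA hF (2 * m + 1) ((g : SL(4, F)) i j) = (g : SL(4, F)) i j
  rw [frobA_apply hF, ← hF, FiniteField.pow_card]

theorem TS_mem_SubSz {n : ℕ} {a b : F} (ha : InF n a) (hb : InF n b) : TS hF a b ∈ SubSz hm hF n := by
  rw [mem_SubSz, sigAut_TS, (inF_iff hF n a).1 ha, (inF_iff hF n b).1 hb]

theorem HS_mem_SubSz {n : ℕ} {k : Fˣ} (hk : InF n (k : F)) : HS hF k ∈ SubSz hm hF n := by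
  rw [mem_SubSz, sigAut_HS]
  exact congrArg (HS hF) (Units.ext ((inF_iff hF n (k : F)).1 hk))

theorem WS_mem_SubSz (n : ℕ) : WS hF ∈ SubSz hm hF n := by
  rw [mem_SubSz]
  exact Subtype.ext (sigSL_W _)

omit hm in
theorem TS_smul_inf (a b : F) : (TS hF a b : Cfsg.Sz F m) • oInf F m = oInf F m := Subtype.ext (T_inf a b)

omit hm in
theorem WS_smul_inf : (WS hF : Cfsg.Sz F m) • oInf F m = oZero F m := Subtype.ext W_inf

omit hm in
theorem WS_smul_zero : (WS hF : Cfsg.Sz F m) • oZero F m = oInf F m := Subtype.ext W_zero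

omit hm in
theorem WS_sq : (WS hF : Cfsg.Sz F m) * WS hF = 1 := Subtype.ext W_sq

/-- the elements of a subfield subgroup -/
theorem SubSz_decomp {n : ℕ} {g : Cfsg.Sz F m} (hg : g ∈ SubSz hm hF n) :
    (∃ a b k, InF n a ∧ InF n b ∧ InF n ((k : Fˣ) : F) ∧ g = TS hF a b * HS hF k) ∨
      ∃ x y a b k, InF n x ∧ InF n y ∧ InF n a ∧ InF n b ∧ InF n ((k : Fˣ) : F) ∧
        g = TS hF x y * WS hF * (TS hF a b * HS hF k) := by
  rw [mem_SubSz] at hg
  rcases decomp hm hF g with ⟨a, b, k, rfl⟩ | ⟨x, y, a, b, k, rfl⟩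
  · left
    rw [map_mul, sigAut_TS, sigAut_HS] at hg
    obtain ⟨ha, hb, hk⟩ := TH_inj hF (congrArg Subtype.val hg :)
    exact ⟨a, b, k, (inF_iff hF n a).2 ha, (inF_iff hF n b).2 hb,
      (inF_iff hF n (k : F)).2 (congrArg Units.val hk :), rfl⟩
  · right
    have hW : sigAut hm hF (frobA hF n) (WS hF) = WS hF := Subtype.ext (sigSL_W _)
    rw [map_mul, map_mul, map_mul, sigAut_TS, sigAut_TS, sigAut_HS, hW] at hg
    have h1 := congrArg (fun g : Cfsg.Sz F m => ((g • oInf F m : suzukiOvoid F m) : Projectivization F (Fin 4 → F))) hg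
    simp only [mul_smul, HS_smul_inf hF, TS_smul_inf hF, WS_smul_inf hF] at h1
    have h2 : ∀ x y : F, ((TS hF x y • oZero F m : suzukiOvoid F m) : Projectivization F (Fin 4 → F)) =
        pt m x y := fun x y => T_zero_pt (isSuzField hF) x y
    rw [h2, h2] at h1
    obtain ⟨hx, hy⟩ := pt_inj h1
    rw [hx, hy] at hg
    obtain ⟨ha, hb, hk⟩ := TH_inj hF (congrArg Subtype.val (mul_left_cancel hg) :)
    exact ⟨x, y, a, b, k, (inF_iff hF n x).2 hx, (inF_iff hF n y).2 hy, (inF_iff hF n a).2 ha,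
      (inF_iff hF n b).2 hb, (inF_iff hF n (k : F)).2 (congrArg Units.val hk :), rfl⟩

section Embed

variable {K : Type*} [Field K] [Fintype K] {k : ℕ}

omit hm hF in
theorem pow_congr_sub (hK : Fintype.card K = 2 ^ (2 * k + 1)) (hdiv : 2 * k + 1 ∣ 2 * m + 1) (x : K) :
    x ^ 2 ^ m = x ^ 2 ^ k := by
  have key : ∀ j i, x ^ 2 ^ (i + j * (2 * k + 1)) = x ^ 2 ^ i := by
    intro j
    induction j with
    | zero => simp
    | succ j ih =>
      intro i
      rw [Nat.succ_mul, ← add_assoc, pow_add 2 (i + j * (2 * k + 1)), pow_mul, ih,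
        ← hK, FiniteField.pow_card]
  obtain ⟨c, hc⟩ := hdiv
  obtain ⟨d, rfl⟩ : Odd c := by
    rcases Nat.even_or_odd c with ⟨d, rfl⟩ | h
    · exfalso
      have : (2 * k + 1) * (d + d) = 2 * ((2 * k + 1) * d) := by ring
      omega
    · exact h
  rw [show m = k + d * (2 * k + 1) by linarith]
  exact key d k

variable (hK : Fintype.card K = 2 ^ (2 * k + 1)) (hdiv : 2 * k + 1 ∣ 2 * m + 1)
include hK hdiv

omit hm hF in
theorem map_th_sub (f : K →+* F) (x : K) : th m (f x) = f (th k x) := by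
  unfold th
  rw [← map_pow, pow_succ, pow_mul, pow_congr_sub hK hdiv, ← pow_mul, ← pow_succ]

/-- the embedding of a smaller Suzuki group -/
theorem exists_embed (hk : 1 ≤ k) :
    ∃ φ : Cfsg.Sz K k →* Cfsg.Sz F m, Function.Injective φ ∧ φ.range = SubSz hm hF (2 * k + 1) := by
  classical
  haveI := charTwo hF
  haveI : Fact (Nat.Prime 2) := ⟨Nat.prime_two⟩
  haveI := charTwo (F := K) hK
  letI := ZMod.algebra F 2
  letI := ZMod.algebra K 2
  obtain ⟨f0⟩ := FiniteField.nonempty_algHom_iff_finrank_dvd.2 (show Module.finrank (ZMod 2) K ∣ Module.finrank (ZMod 2) F by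
    have h1 := Module.card_eq_pow_finrank (K := ZMod 2) (V := K)
    have h2 := Module.card_eq_pow_finrank (K := ZMod 2) (V := F)
    rw [ZMod.card, hK] at h1
    rw [ZMod.card, hF] at h2
    rw [← Nat.pow_right_injective le_rfl h1, ← Nat.pow_right_injective le_rfl h2]
    exact hdiv)
  let f : K →+* F := f0.toRingHom
  let M : SL(4, K) →* SL(4, F) := Matrix.SpecialLinearGroup.map f
  have hT : ∀ a b, M (T k a b) = T m (f a) (f b) := by
    intro a b
    apply Subtype.ext
    ext i j
    simp only [M, Matrix.SpecialLinearGroup.map_apply_coe, RingHom.mapMatrix_apply, Matrix.map_apply]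
    fin_cases i <;> fin_cases j <;> simp [T, Tm, fO, map_th_sub hK hdiv]
  have hH : ∀ c : Kˣ, M (H k c) = H m (Units.map f.toMonoidHom c) := by
    intro c
    apply Subtype.ext
    ext i j
    simp only [M, Matrix.SpecialLinearGroup.map_apply_coe, RingHom.mapMatrix_apply, Matrix.map_apply]
    fin_cases i <;> fin_cases j <;>
      simp [H, hd, Matrix.diagonal, Units.val_inv_eq_inv_val, pow_succ, ← map_pow,
        pow_congr_sub hK hdiv]
  have hW : M (W : SL(4, K)) = W := by
    apply Subtype.ext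
    ext i j
    simp only [M, Matrix.SpecialLinearGroup.map_apply_coe, RingHom.mapMatrix_apply, Matrix.map_apply]
    fin_cases i <;> fin_cases j <;> simp [W, Wm]
  have hS := isSuzField hF
  have hmem : ∀ g : Cfsg.Sz K k, M g ∈ Cfsg.Sz F m := by
    intro g
    rcases decomp hk hK g with ⟨a, b, c, rfl⟩ | ⟨x, y, a, b, c, rfl⟩
    · show M (T k a b * H k c) ∈ _
      rw [map_mul, hT, hH]
      exact mul_mem (T_mem hS _ _) (H_mem hS _)
    · show M (T k x y * W * (T k a b * H k c)) ∈ _
      rw [map_mul, map_mul, map_mul, hT, hT, hH, hW]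
      exact mul_mem (mul_mem (T_mem hS _ _) (W_mem hS)) (mul_mem (T_mem hS _ _) (H_mem hS _))
  let φ : Cfsg.Sz K k →* Cfsg.Sz F m := (M.comp (Cfsg.Sz K k).subtype).codRestrict _ hmem
  have hfin : ∀ a, InF (2 * k + 1) (f a) := fun a => by
    unfold InF; rw [← map_pow, ← hK, FiniteField.pow_card]
  have hsurj : ∀ x : F, InF (2 * k + 1) x → ∃ a, f a = x := by
    intro x hx
    by_contra hne
    push Not at hne
    let P : Polynomial F := Polynomial.X ^ Fintype.card K - Polynomial.X
    have hP : P ≠ 0 := FiniteField.X_pow_card_sub_X_ne_zero F Fintype.one_lt_card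
    have hdeg : P.natDegree = Fintype.card K :=
      FiniteField.X_pow_card_sub_X_natDegree_eq F Fintype.one_lt_card
    have hsub : insert x (Finset.univ.image f) ⊆ P.roots.toFinset := by
      intro y hy
      rw [Multiset.mem_toFinset, Polynomial.mem_roots hP]
      simp only [Finset.mem_insert, Finset.mem_image, Finset.mem_univ, true_and] at hy
      have h0 : InF (2 * k + 1) y := by
        rcases hy with rfl | ⟨a, rfl⟩
        exacts [hx, hfin a]
      unfold InF at h0
      simp only [P, Polynomial.IsRoot.def, Polynomial.eval_sub, Polynomial.eval_pow, Polynomial.eval_X, hK, h0, sub_self]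
    have h1 := Finset.card_le_card hsub
    rw [Finset.card_insert_of_notMem (by simp only [Finset.mem_image, Finset.mem_univ, true_and, not_exists]; exact hne),
      Finset.card_image_of_injective _ f.injective, Finset.card_univ] at h1
    have := ((Multiset.toFinset_card_le _).trans (Polynomial.card_roots' P))
    omega
  refine ⟨φ, ?_, le_antisymm ?_ ?_⟩
  · intro g g' h
    refine Subtype.ext (Subtype.ext (Matrix.ext fun i j => ?_))
    have h' := congrArg (fun g : Cfsg.Sz F m => ((g : SL(4, F)) : Matrix (Fin 4) (Fin 4) F) i j) h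
    exact f.injective h'
  · rintro _ ⟨g, rfl⟩
    rw [mem_SubSz]
    refine Subtype.ext (Subtype.ext (Matrix.ext fun i j => ?_))
    exact (inF_iff hF _ _).1 (hfin ((g : SL(4, K)) i j))
  · intro g hg
    rcases SubSz_decomp hm hF hg with ⟨a, b, c, ha, hb, hc, rfl⟩ | ⟨x, y, a, b, c, hx, hy, ha, hb, hc, rfl⟩
    all_goals
      obtain ⟨a', rfl⟩ := hsurj a ha
      obtain ⟨b', rfl⟩ := hsurj b hb
      obtain ⟨c', hc'⟩ := hsurj _ hc
      have hc0 : c' ≠ 0 := fun e => c.ne_zero (by rw [← hc', e, map_zero])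
      obtain rfl : Units.map f.toMonoidHom (Units.mk0 c' hc0) = c := Units.ext hc'
    · exact ⟨TS hK a' b' * HS hK _, Subtype.ext (by show M (_ * _) = _; rw [map_mul]; exact congrArg₂ (· * ·) (hT _ _) (hH _))⟩
    · obtain ⟨x', rfl⟩ := hsurj x hx
      obtain ⟨y', rfl⟩ := hsurj y hy
      refine ⟨TS hK x' y' * WS hK * (TS hK a' b' * HS hK (Units.mk0 c' hc0)), Subtype.ext ?_⟩
      show M (T k x' y' * W * (T k a' b' * H k _)) = T m _ _ * W * (T m _ _ * H m _)
      rw [map_mul, map_mul, map_mul, hT, hT, hH, hW]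

theorem card_SubSz (hk : 1 ≤ k) : Nat.card ↥(SubSz hm hF (2 * k + 1)) =
    Fintype.card K ^ 2 * (Fintype.card K ^ 2 + 1) * (Fintype.card K - 1) := by
  obtain ⟨φ, hφ, he⟩ := exists_embed hm hF hK hdiv hk
  rw [← he, ← card_Sz hk hK]
  exact (Nat.card_congr (MonoidHom.ofInjective hφ).toEquiv).symm

end Embed

end CfsgLib.Lie.Suz
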