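import Cfsg.Agent.Lib.Lie.Suz.Sub.Max
import Cfsg.Prelude.Def_Solvable
import Mathlib.Algebra.Order.Ring.GeomSum
import Mathlib.Combinatorics.Colex

/-!
# The automorphism group of the translations of a Suzuki group
-/

set_option autoImplicit false
set_option maxHeartbeats 800000

namespace CfsgLib.Lie.Suz

open Cfsg
open scoped MatrixGroups Pointwise

variable {F : Type*} [Field F] [Fintype F] {m : ℕ}

/-- the indices of the Frobenius powers -/
abbrev Ix (m : ℕ) : Type := ZMod (2 * m + 1)

/-- the Frobenius power of given index -/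
def fr (i : Ix m) (x : F) : F := x ^ 2 ^ i.val

/-- a linearised polynomial -/
def lin (c : Ix m → F) (x : F) : F := ∑ i, c i * fr i x

/-- the binary digits of the exponent of a product of two Frobenius powers -/
def digits2 (u v : Ix m) : Finset ℕ := if u = v then {(u + 1).val} else {u.val, v.val}

/-- the exponent of a product of two Frobenius powers -/
def expo (u v : Ix m) : ℕ := ∑ k ∈ digits2 u v, 2 ^ k

variable (hm : 1 ≤ m) (hF : Fintype.card F = 2 ^ (2 * m + 1))
include hm hF

omit hm in
theorem pow_mod (x : F) (k : ℕ) : x ^ 2 ^ k = x ^ 2 ^ (k % (2 * m + 1)) := by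
  have key : ∀ j i, x ^ 2 ^ (i + (2 * m + 1) * j) = x ^ 2 ^ i := by
    intro j
    induction j with
    | zero => simp
    | succ j ih =>
      intro i
      rw [Nat.mul_succ, ← add_assoc, pow_add 2, pow_mul, ih, ← hF, FiniteField.pow_card]
  conv_lhs => rw [← Nat.mod_add_div k (2 * m + 1), key]

omit hm in
theorem fr_fr (i j : Ix m) (x : F) : fr i (fr j x) = fr (i + j) x := by
  unfold fr
  rw [← pow_mul, ← pow_add, pow_mod hF x (j.val + i.val), add_comm j.val, ← ZMod.val_add]

omit hm in
theorem fr_succ (i : Ix m) (x : F) : fr i x * fr i x = fr (i + 1) x := by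
  unfold fr
  rw [← sq, ← pow_mul, ← pow_succ, pow_mod hF x (i.val + 1)]
  congr 2
  rw [ZMod.val_add]
  haveI : Fact (1 < 2 * m + 1) ∨ 2 * m + 1 = 1 := by
    by_cases h : 1 < 2 * m + 1
    · exact Or.inl ⟨h⟩
    · right; omega
  rcases this with h | h
  · rw [ZMod.val_one]
  · simp [h, Nat.mod_one]

omit hm in
theorem fr_add (i : Ix m) (x y : F) : fr i (x + y) = fr i x + fr i y := by
  haveI := charTwo hF
  haveI : Fact (Nat.Prime 2) := ⟨Nat.prime_two⟩
  exact add_pow_char_pow x y 2 _

omit hm hF in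
theorem fr_mul (i : Ix m) (x y : F) : fr i (x * y) = fr i x * fr i y := mul_pow x y _

omit hm hF in
theorem fr_zero (i : Ix m) : fr i (0 : F) = 0 := zero_pow (pow_ne_zero _ two_ne_zero)

omit hm hF in
theorem fr_one (i : Ix m) : fr i (1 : F) = 1 := one_pow _

omit hm hF in
theorem fr_th (i : Ix m) (x : F) : fr i (th m x) = th m (fr i x) := by
  unfold fr th
  rw [← pow_mul, ← pow_mul, mul_comm]

theorem th_eq_fr (x : F) : th m x = fr ((m + 1 : ℕ) : Ix m) x := by
  unfold fr th
  rw [ZMod.val_natCast, Nat.mod_eq_of_lt (by omega)]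

omit hm in
theorem expo_lt (u v : Ix m) : expo u v < Fintype.card F := by
  rw [hF]
  exact Nat.geomSum_lt le_rfl fun k hk => by
    unfold digits2 at hk
    split_ifs at hk <;> simp only [Finset.mem_insert, Finset.mem_singleton] at hk
    · rw [hk]; exact ZMod.val_lt _
    · rcases hk with rfl | rfl <;> exact ZMod.val_lt _

omit hm in
theorem fr_mul_fr (u v : Ix m) (x : F) : fr u x * fr v x = x ^ expo u v := by
  unfold expo digits2
  split_ifs with h
  · subst h
    rw [fr_succ hF, Finset.sum_singleton]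
    rfl
  · rw [Finset.sum_pair (fun e => h (ZMod.val_injective _ e)), pow_add]
    rfl

omit hm hF in
theorem expo_inj {u v u' v' : Ix m} (h : expo u v = expo u' v') : (u = u' ∧ v = v') ∨ (u = v' ∧ v = u') := by
  have h1 : digits2 u v = digits2 u' v' := Finset.geomSum_injective (n := 2) le_rfl h
  unfold digits2 at h1
  split_ifs at h1 with a b b
  · have := add_right_cancel (ZMod.val_injective _ (Finset.singleton_inj.1 h1))
    subst a b
    exact Or.inl ⟨this, this⟩
  · exfalso
    have := congrArg Finset.card h1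
    rw [Finset.card_singleton, Finset.card_pair (fun e => b (ZMod.val_injective _ e))] at this
    omega
  · exfalso
    have := congrArg Finset.card h1
    rw [Finset.card_singleton, Finset.card_pair (fun e => a (ZMod.val_injective _ e))] at this
    omega
  · have h2 : u.val ∈ ({u'.val, v'.val} : Finset ℕ) := by rw [← h1]; simp
    have h3 : v.val ∈ ({u'.val, v'.val} : Finset ℕ) := by rw [← h1]; simp
    simp only [Finset.mem_insert, Finset.mem_singleton] at h2 h3
    rcases h2 with h2 | h2 <;> rcases h3 with h3 | h3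
    · exact absurd (ZMod.val_injective _ (h2.trans h3.symm)) a
    · exact Or.inl ⟨ZMod.val_injective _ h2, ZMod.val_injective _ h3⟩
    · exact Or.inr ⟨ZMod.val_injective _ h2, ZMod.val_injective _ h3⟩
    · exact absurd (ZMod.val_injective _ (h2.trans h3.symm)) a

omit hm hF in
/-- a function given by small powers vanishes only if its coefficients do -/
theorem coeff_zero {ι : Type*} [Fintype ι] (e : ι → ℕ) (he : ∀ p, e p < Fintype.card F)
    (c : ι → F) (h : ∀ x : F, ∑ p, c p * x ^ e p = 0) (E : ℕ) :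
    ∑ p ∈ Finset.univ.filter (fun p => e p = E), c p = 0 := by
  classical
  set P : Polynomial F := ∑ p, Polynomial.C (c p) * Polynomial.X ^ e p with hP
  have hdeg : P.natDegree < Fintype.card F := by
    refine lt_of_le_of_lt (Polynomial.natDegree_sum_le_of_forall_le _ _ (n := Fintype.card F - 1) fun p _ => ?_)
      (by have := Fintype.card_pos (α := F); omega)
    have := he p
    exact (Polynomial.natDegree_C_mul_X_pow_le _ _).trans (by omega)
  have hP0 : P = 0 := by
    by_contra hne
    have hsub : (Finset.univ : Finset F) ⊆ P.roots.toFinset := fun x _ => by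
      rw [Multiset.mem_toFinset, Polynomial.mem_roots hne, Polynomial.IsRoot.def, hP, Polynomial.eval_finsetSum]
      simpa using h x
    have h1 := Finset.card_le_card hsub
    have h2 := (Multiset.toFinset_card_le _).trans (Polynomial.card_roots' P)
    rw [Finset.card_univ] at h1
    omega
  have h1 := congrArg (fun Q : Polynomial F => Q.coeff E) hP0
  simp only [hP, Polynomial.finset_sum_coeff, Polynomial.coeff_C_mul_X_pow, Polynomial.coeff_zero] at h1
  rw [Finset.sum_filter]
  simpa [eq_comm] using h1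

omit hm in
theorem lin_add (c : Ix m → F) (x y : F) : lin c (x + y) = lin c x + lin c y := by
  simp only [lin, fr_add hF, mul_add, Finset.sum_add_distrib]

omit hm in
theorem lin_injective {c c' : Ix m → F} (h : ∀ x, lin c x = lin c' x) : c = c' := by
  classical
  funext j
  have h1 := coeff_zero (F := F) (fun i : Ix m => 2 ^ i.val)
    (fun i => hF ▸ Nat.pow_lt_pow_right (by norm_num) (ZMod.val_lt _)) (fun i => c i - c' i) (fun x => by
      have := h x
      unfold lin fr at this
      simp only [sub_mul, Finset.sum_sub_distrib, this, sub_self]) (2 ^ j.val)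
  rw [show (Finset.univ.filter fun i : Ix m => 2 ^ i.val = 2 ^ j.val) = {j} by
    ext i
    simp only [Finset.mem_filter, Finset.mem_univ, true_and, Finset.mem_singleton]
    exact ⟨fun e => ZMod.val_injective _ (Nat.pow_right_injective le_rfl e), fun e => e ▸ rfl⟩,
    Finset.sum_singleton] at h1
  exact sub_eq_zero.1 h1

omit hm in
/-- every additive map is given by a linearised polynomial -/
theorem lin_bijective : Function.Bijective
    (fun c : Ix m → F => AddMonoidHom.mk' (lin c) (lin_add hF c)) := by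
  classical
  haveI := charTwo hF
  letI := ZMod.algebra F 2
  have hinj : Function.Injective (fun c : Ix m → F => AddMonoidHom.mk' (lin c) (lin_add hF c)) :=
    fun c c' h => lin_injective hF fun x => DFunLike.congr_fun h x
  refine ⟨hinj, fun f => ?_⟩
  let b := Module.finBasis (ZMod 2) F
  have hrank : Module.finrank (ZMod 2) F = 2 * m + 1 := by
    have h1 := Module.card_eq_pow_finrank (K := ZMod 2) (V := F)
    rw [ZMod.card, hF] at h1
    exact (Nat.pow_right_injective le_rfl h1).symm
  have hev : Function.Injective (fun g : F →+ F => fun i => g (b i)) := fun g g' h => by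
    refine AddMonoidHom.toZModLinearMap_injective 2 (b.ext fun i => ?_)
    exact congrFun h i
  haveI : Finite (F →+ F) := Finite.of_injective _ hev
  have hbij : Function.Bijective (fun c : Ix m → F => AddMonoidHom.mk' (lin c) (lin_add hF c)) := by
    rw [Nat.bijective_iff_injective_and_card]
    refine ⟨hinj, le_antisymm (Nat.card_le_card_of_injective _ hinj) ?_⟩
    refine (Nat.card_le_card_of_injective _ hev).trans (le_of_eq ?_)
    rw [Nat.card_fun, Nat.card_fun, Nat.card_fin, hrank, Nat.card_zmod]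
  exact hbij.2 f

omit hm in
theorem card_addHom : Nat.card (F →+ F) = 2 ^ (2 * m + 1) ^ 2 := by
  rw [← Nat.card_eq_of_bijective _ (lin_bijective hF (m := m)), Nat.card_fun, Nat.card_zmod,
    Nat.card_eq_fintype_card, hF, ← pow_mul, sq]

/-- a linearised map compatible with the squaring is monomial -/
theorem semilinear {c d : Ix m → F} (h : ∀ x, lin d (th m x * x) = th m (lin c x) * lin c x) (hc : c ≠ 0) :
    ∃ i, ∀ j, j ≠ i → c j = 0 := by
  classical
  haveI : NeZero (2 * m + 1) := ⟨by omega⟩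
  set t : Ix m := ((m + 1 : ℕ) : Ix m) with ht
  have ht2 : t + t = 1 := by
    rw [ht, ← Nat.cast_add, show m + 1 + (m + 1) = (2 * m + 1) + 1 by omega, Nat.cast_add, ZMod.natCast_self,
      zero_add, Nat.cast_one]
  have ht0 : t ≠ 0 := fun e => by
    have h1 : (1 : Ix m) = 0 := by rw [← ht2, e, add_zero]
    have h2 : 2 * m + 1 ∣ 1 := (ZMod.natCast_eq_zero_iff 1 (2 * m + 1)).1 (by rw [Nat.cast_one, h1])
    have := Nat.le_of_dvd one_pos h2
    omega
  have h20 : (2 : Ix m) ≠ 0 := fun e => by
    have h2 : 2 * m + 1 ∣ 2 := (ZMod.natCast_eq_zero_iff 2 (2 * m + 1)).1 (by exact_mod_cast e)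
    have := Nat.le_of_dvd two_pos h2
    omega
  set γ : Ix m × Ix m → F := fun p => th m (c (p.1 - t)) * c p.2 - (if p.1 = p.2 + t then d p.2 else 0) with hγ
  have hval : ∀ x : F, ∑ p : Ix m × Ix m, γ p * x ^ expo p.1 p.2 = 0 := by
    intro x
    have hth : th m (lin c x) = ∑ u, th m (c (u - t)) * fr u x := by
      rw [th_eq_fr hm hF, ← ht, lin]
      rw [show fr t (∑ i, c i * fr i x) = ∑ i, fr t (c i * fr i x) from
        map_sum (AddMonoidHom.mk' (fr t) (fr_add hF t)) _ _]
      refine (Fintype.sum_equiv (Equiv.addRight (-t)) _ _ fun u => ?_).symm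
      simp only [Equiv.coe_addRight, ← sub_eq_add_neg]
      rw [fr_mul, fr_fr hF, add_sub_cancel, th_eq_fr hm hF, ← ht]
    have h1 := h x
    rw [hth, lin, lin, Finset.sum_mul_sum] at h1
    simp only [hγ, sub_mul, Finset.sum_sub_distrib, Fintype.sum_prod_type, ← fr_mul_fr hF]
    rw [sub_eq_zero]
    calc ∑ u, ∑ v, th m (c (u - t)) * c v * (fr u x * fr v x)
        = ∑ u, ∑ v, th m (c (u - t)) * fr u x * (c v * fr v x) :=
          Finset.sum_congr rfl fun u _ => Finset.sum_congr rfl fun v _ => by ring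
      _ = ∑ v, d v * fr v (th m x * x) := h1.symm
      _ = ∑ u, ∑ v, (if u = v + t then d v else 0) * (fr u x * fr v x) := by
          rw [Finset.sum_comm]
          refine Finset.sum_congr rfl fun v _ => ?_
          rw [Finset.sum_eq_single (v + t) (fun u _ hu => by rw [if_neg hu, zero_mul])
            (fun hu => absurd (Finset.mem_univ _) hu), if_pos rfl, fr_mul, th_eq_fr hm hF, ← ht, fr_fr hF]
  have hco := coeff_zero (F := F) (fun p : Ix m × Ix m => expo p.1 p.2) (fun p => expo_lt hF p.1 p.2) γ hval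
  have hfilter : ∀ u v : Ix m, (Finset.univ.filter fun p : Ix m × Ix m => expo p.1 p.2 = expo u v) = {(u, v), (v, u)} := by
    intro u v
    ext ⟨u', v'⟩
    simp only [Finset.mem_filter, Finset.mem_univ, true_and, Finset.mem_insert, Finset.mem_singleton, Prod.mk.injEq]
    constructor
    · intro e
      rcases expo_inj e with ⟨a, b⟩ | ⟨a, b⟩
      exacts [Or.inl ⟨a, b⟩, Or.inr ⟨a, b⟩]
    · rintro (⟨rfl, rfl⟩ | ⟨rfl, rfl⟩)
      · rfl
      · unfold expo digits2
        by_cases e : v' = u'
        · subst e; rfl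
        · rw [if_neg (Ne.symm e), if_neg e, Finset.pair_comm]
  obtain ⟨i, hi⟩ : ∃ i, c i ≠ 0 := by
    by_contra hno
    push Not at hno
    exact hc (funext hno)
  have hdiag : ∀ i, c i ≠ 0 → c (i + t) = 0 := by
    intro i hi
    have h1 := hco (expo (i + t) (i + t))
    rw [hfilter, Finset.pair_eq_singleton, Finset.sum_singleton] at h1
    simp only [hγ, add_sub_cancel_right, left_eq_add, ht0, if_false, sub_zero] at h1
    exact (mul_eq_zero.1 h1).resolve_left fun e => hi (th_eq_zero (isSuzField hF) e)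
  refine ⟨i, fun j hji => ?_⟩
  by_contra hj
  have key : ∀ i j, c i ≠ 0 → c j ≠ 0 → i ≠ j → j = i + 1 := by
    intro i j hi hj hne
    by_contra hne1
    have huv : i + t ≠ j := fun e => hj (e ▸ hdiag i hi)
    have h1 := hco (expo (i + t) j)
    rw [hfilter, Finset.sum_pair (fun e => huv (Prod.ext_iff.1 e).1)] at h1
    have n1 : i + t ≠ j + t := fun e => hne (add_right_cancel e)
    have n2 : j ≠ i + t + t := fun e => hne1 (by rw [e, add_assoc, ht2])
    simp only [hγ, add_sub_cancel_right, n1, n2, if_false, sub_zero, hdiag i hi, mul_zero, add_zero] at h1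
    rcases mul_eq_zero.1 h1 with e | e
    exacts [hi (th_eq_zero (isSuzField hF) e), hj e]
  have h1 := key i j hi hj (Ne.symm hji)
  have h2 := key j i hj hi hji
  refine h20 ?_
  rw [h1] at h2
  calc (2 : Ix m) = i + 1 + 1 - i := by ring
    _ = 0 := by rw [← h2, sub_self]

omit hm in
theorem U_coord (u : ↥(U hF : Subgroup (Cfsg.Sz F m))) : ∃ a b, (u : Cfsg.Sz F m) = TS hF a b := by
  obtain ⟨a, b, h⟩ := u.2
  exact ⟨a, b, Subtype.ext h⟩

/-- an element of the translations -/
noncomputable def tu (a b : F) : ↥(U hF : Subgroup (Cfsg.Sz F m)) := ⟨TS hF a b, TS_mem_U hF a b⟩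

omit hm in
theorem tu_mul (a b a' b' : F) : tu hF a b * tu hF a' b' = tu hF (a + a') (b + b' + th m a * a') :=
  Subtype.ext (TS_mul' hF a b a' b')

omit hm in
theorem tu_inj {a b a' b' : F} (h : tu hF a b = (tu hF a' b' : ↥(U hF : Subgroup (Cfsg.Sz F m)))) :
    a = a' ∧ b = b' := TS_inj hF (congrArg Subtype.val h)

omit hm in
theorem tu_surj (u : ↥(U hF : Subgroup (Cfsg.Sz F m))) : ∃ a b, u = tu hF a b := by
  obtain ⟨a, b, h⟩ := U_coord hF u
  exact ⟨a, b, Subtype.ext h⟩

/-- the first coordinate -/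
noncomputable def fst (u : ↥(U hF : Subgroup (Cfsg.Sz F m))) : F := (tu_surj hF u).choose

omit hm in
theorem fst_tu (a b : F) : fst hF (tu hF a b) = a := by
  obtain ⟨b', h⟩ := (tu_surj hF (tu hF a b)).choose_spec
  exact (tu_inj hF h).1.symm

omit hm in
theorem fst_mul (u v : ↥(U hF : Subgroup (Cfsg.Sz F m))) : fst hF (u * v) = fst hF u + fst hF v := by
  obtain ⟨a, b, rfl⟩ := tu_surj hF u
  obtain ⟨a', b', rfl⟩ := tu_surj hF v
  simp only [tu_mul, fst_tu]

omit hm in
theorem sq_iff (u : ↥(U hF : Subgroup (Cfsg.Sz F m))) : u * u = 1 ↔ fst hF u = 0 := by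
  have hS := isSuzField hF
  obtain ⟨a, b, rfl⟩ := tu_surj hF u
  rw [fst_tu, tu_mul, show (1 : ↥(U hF : Subgroup (Cfsg.Sz F m))) = tu hF 0 0 from Subtype.ext (TS_zero' hF).symm]
  constructor
  · intro h
    rcases mul_eq_zero.1 (show th m a * a = 0 by
      have h2 := (tu_inj hF h).2
      rwa [add_self hS, zero_add] at h2) with e | e
    exacts [th_eq_zero hS e, e]
  · intro h
    rw [h, add_zero, add_self hS, mul_zero, add_zero]

/-- every automorphism acts on the first coordinate by a semilinear scaling -/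
theorem aut_first (α : MulAut ↥(U hF : Subgroup (Cfsg.Sz F m))) :
    ∃ (i : Ix m) (k : Fˣ), ∀ u, fst hF (α u) = (k : F) * fr i (fst hF u) := by
  classical
  have hS := isSuzField hF
  haveI : NeZero (2 * m + 1) := ⟨by omega⟩
  have hZ : ∀ u, fst hF u = 0 → fst hF (α u) = 0 := by
    intro u hu
    rw [← sq_iff] at hu ⊢
    rw [← map_mul, hu, map_one]
  let A : F →+ F := AddMonoidHom.mk' (fun a => fst hF (α (tu hF a 0))) fun a a' => by
    have e : tu hF a 0 * tu hF a' 0 = tu hF (a + a') 0 * tu hF 0 (th m a * a') := by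
      rw [tu_mul, tu_mul]; simp
    rw [← fst_mul, ← map_mul, e, map_mul, fst_mul, hZ (tu hF 0 (th m a * a')) (fst_tu hF _ _), add_zero]
  have hA : ∀ a b, fst hF (α (tu hF a b)) = A a := by
    intro a b
    have e : tu hF a b = tu hF a 0 * tu hF 0 b := by rw [tu_mul]; simp
    rw [e, map_mul, fst_mul, hZ (tu hF 0 b) (fst_tu hF _ _), add_zero]
    rfl
  choose B hB using fun b => show ∃ b', α (tu hF 0 b) = tu hF 0 b' by
    obtain ⟨a', b', h⟩ := tu_surj hF (α (tu hF 0 b))
    have := hZ (tu hF 0 b) (fst_tu hF _ _)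
    rw [h, fst_tu] at this
    exact ⟨b', by rw [h, this]⟩
  let B' : F →+ F := AddMonoidHom.mk' B fun b b' => by
    have e : tu hF 0 (b + b') = tu hF 0 b * tu hF 0 b' := by rw [tu_mul]; simp
    have h2 : tu hF 0 (B (b + b')) = tu hF 0 (B b + B b') := by
      rw [← hB, e, map_mul, hB, hB, tu_mul]; simp
    exact (tu_inj hF h2).2
  obtain ⟨c, hc⟩ := (lin_bijective hF (m := m)).2 A
  obtain ⟨d, hd⟩ := (lin_bijective hF (m := m)).2 B'
  have hc' : ∀ x, lin c x = A x := fun x => DFunLike.congr_fun hc x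
  have hd' : ∀ x, lin d x = B x := fun x => DFunLike.congr_fun hd x
  obtain ⟨i, hi⟩ := semilinear hm hF (c := c) (d := d) (fun x => by
    rw [hc', hd']
    obtain ⟨a', b', h⟩ := tu_surj hF (α (tu hF x 0))
    have ha : A x = a' := by rw [← hA x 0, h, fst_tu]
    have e : tu hF 0 (th m x * x) = tu hF x 0 * tu hF x 0 := by
      rw [tu_mul, add_self hS, add_self hS, zero_add]
    have h2 := hB (th m x * x)
    rw [e, map_mul, h, tu_mul, add_self hS, add_self hS, zero_add] at h2
    rw [ha, (tu_inj hF h2).2]) (fun hz => by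
    have h1 : A 1 = 0 := by rw [← hc', hz]; simp [lin]
    have h2 : tu hF 1 0 * tu hF 1 0 = 1 := by
      apply α.injective
      rw [map_mul, map_one, sq_iff hF, hA, h1]
    rw [sq_iff hF, fst_tu] at h2
    exact one_ne_zero h2)
  have hlin : ∀ x, A x = c i * fr i x := fun x => by
    rw [← hc', lin, Finset.sum_eq_single i (fun j _ hj => by rw [hi j hj, zero_mul])
      (fun h => absurd (Finset.mem_univ _) h)]
  have hci : c i ≠ 0 := fun e => by
    have h2 : tu hF 1 0 * tu hF 1 0 = 1 := by
      apply α.injective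
      rw [map_mul, map_one, sq_iff hF, hA, hlin, e, zero_mul]
    rw [sq_iff hF, fst_tu] at h2
    exact one_ne_zero h2
  refine ⟨i, Units.mk0 _ hci, fun u => ?_⟩
  obtain ⟨a, b, rfl⟩ := tu_surj hF u
  rw [hA, hlin, fst_tu, Units.val_mk0]

/-- the semilinear automorphisms -/
theorem exists_semi (i : Ix m) (k : Fˣ) : ∃ α : MulAut ↥(U hF : Subgroup (Cfsg.Sz F m)),
    ∀ u, fst hF (α u) = (k : F) * fr i (fst hF u) := by
  classical
  have hS := isSuzField hF
  choose a b hab using tu_surj hF (F := F) (m := m)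
  let f : ↥(U hF : Subgroup (Cfsg.Sz F m)) →* ↥(U hF : Subgroup (Cfsg.Sz F m)) :=
    MonoidHom.mk' (fun u => tu hF ((k : F) * fr i (a u)) (th m (k : F) * k * fr i (b u))) fun u v => by
      have h1 : u * v = tu hF (a (u * v)) (b (u * v)) := hab _
      conv_lhs at h1 => rw [hab u, hab v, tu_mul]
      obtain ⟨e1, e2⟩ := tu_inj hF h1
      rw [tu_mul, ← e1, ← e2]
      congr 1
      · rw [fr_add hF]; ring
      · simp only [fr_add hF, fr_mul, fr_th, th_mul hS]; ring
  have hf : Function.Injective f := by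
    intro u v e
    obtain ⟨e1, e2⟩ := tu_inj hF e
    have hk : th m (k : F) * k ≠ 0 := mul_ne_zero (fun e => k.ne_zero (th_eq_zero hS e)) k.ne_zero
    have hinj : Function.Injective (fr i : F → F) := fun x y e => by
      have := congrArg (fr (-i)) e
      rwa [fr_fr hF, fr_fr hF, neg_add_cancel, fr, fr, ZMod.val_zero, pow_zero, pow_one, pow_one] at this
    rw [hab u, hab v, hinj (mul_left_cancel₀ k.ne_zero e1), hinj (mul_left_cancel₀ hk e2)]
  refine ⟨MulEquiv.ofBijective f (Finite.injective_iff_bijective.1 hf), fun u => ?_⟩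
  show fst hF (tu hF _ _) = _
  rw [fst_tu]
  conv_rhs => rw [hab u, fst_tu]

/-- the automorphisms trivial on the first coordinate -/
theorem exists_central (φ : F →+ F) : ∃ α : MulAut ↥(U hF : Subgroup (Cfsg.Sz F m)),
    ∀ a b, α (tu hF a b) = tu hF a (b + φ a) := by
  classical
  choose a b hab using tu_surj hF (F := F) (m := m)
  let f : ↥(U hF : Subgroup (Cfsg.Sz F m)) →* ↥(U hF : Subgroup (Cfsg.Sz F m)) :=
    MonoidHom.mk' (fun u => tu hF (a u) (b u + φ (a u))) fun u v => by
      have h1 : u * v = tu hF (a (u * v)) (b (u * v)) := hab _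
      conv_lhs at h1 => rw [hab u, hab v, tu_mul]
      obtain ⟨e1, e2⟩ := tu_inj hF h1
      rw [tu_mul, ← e1, ← e2, map_add]
      congr 1
      ring
  have hspec : ∀ x y, f (tu hF x y) = tu hF x (y + φ x) := by
    intro x y
    obtain ⟨e1, e2⟩ := tu_inj hF (hab (tu hF x y))
    show tu hF (a _) (b _ + φ (a _)) = _
    rw [← e1, ← e2]
  have hf : Function.Injective f := by
    intro u v e
    obtain ⟨e1, e2⟩ := tu_inj hF e
    rw [e1] at e2
    rw [hab u, hab v, e1, add_right_cancel e2]
  exact ⟨MulEquiv.ofBijective f (Finite.injective_iff_bijective.1 hf), hspec⟩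

/-- the automorphisms trivial modulo the involutions -/
noncomputable def KA : Subgroup (MulAut ↥(U hF : Subgroup (Cfsg.Sz F m))) where
  carrier := {α | ∀ u, fst hF (α u) = fst hF u}
  one_mem' := fun _ => rfl
  mul_mem' := fun {α β} ha hb u => by
    show fst hF (α (β u)) = _
    rw [ha, hb]
  inv_mem' := fun {α} ha u => by
    have := ha (α⁻¹ u)
    rw [MulAut.inv_apply, MulEquiv.apply_symm_apply] at this
    exact this.symm

/-- the structure of the automorphism group -/
theorem aut_U : (KA hF (F := F) (m := m)).Normal ∧ IsMulCommutative ↥(KA hF (F := F) (m := m)) ∧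
    (∀ α ∈ KA hF (F := F) (m := m), α ^ 2 = 1) ∧
    Nat.card ↥(KA hF (F := F) (m := m)) = 2 ^ (2 * m + 1) ^ 2 ∧
    Nat.card (MulAut ↥(U hF : Subgroup (Cfsg.Sz F m))) =
      2 ^ (2 * m + 1) ^ 2 * ((2 * m + 1) * (2 ^ (2 * m + 1) - 1)) := by
  classical
  haveI : NeZero (2 * m + 1) := ⟨by omega⟩
  have hS := isSuzField hF
  choose Φ hΦ using exists_central hm hF (F := F) (m := m)
  choose Ψ hΨ using exists_semi hm hF (F := F) (m := m)
  have hΦK : ∀ φ, Φ φ ∈ KA hF (F := F) (m := m) := fun φ u => by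
    obtain ⟨a, b, rfl⟩ := tu_surj hF u
    rw [hΦ, fst_tu, fst_tu]
  have hsurj : ∀ α ∈ KA hF (F := F) (m := m), ∃ φ, Φ φ = α := by
    intro α hα
    have hw : ∀ a, ∃ z, α (tu hF a 0) = tu hF a z := fun a => by
      obtain ⟨a', b', h⟩ := tu_surj hF (α (tu hF a 0))
      have := hα (tu hF a 0)
      rw [h, fst_tu, fst_tu] at this
      exact ⟨b', by rw [h, this]⟩
    choose g hg using hw
    have hsq : ∀ x, α (tu hF 0 (th m x * x)) = tu hF 0 (th m x * x) := by
      intro x
      have e : tu hF 0 (th m x * x) = tu hF x 0 * tu hF x 0 := by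
        rw [tu_mul, add_self hS, add_self hS, zero_add]
      conv_lhs => rw [e, map_mul, hg, tu_mul, add_self hS, add_self hS, zero_add]
    have hid : ∀ b, α (tu hF 0 b) = tu hF 0 b := by
      intro b
      by_cases hb : b = 0
      · subst hb
        have := hsq 0
        rwa [mul_zero] at this
      · obtain ⟨k, hk⟩ := exists_kth_eq (m := m) hF hb
        rw [← hk]
        exact hsq k
    have hgen : ∀ a b, α (tu hF a b) = tu hF a (b + g a) := by
      intro a b
      have e : tu hF a b = tu hF a 0 * tu hF 0 b := by rw [tu_mul]; simp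
      rw [e, map_mul, hg, hid, tu_mul]
      simp [add_comm]
    refine ⟨AddMonoidHom.mk' g (fun a a' => ?_), MulEquiv.ext fun u => ?_⟩
    · have h1 : α (tu hF a 0 * tu hF a' 0) = tu hF (a + a') (th m a * a' + g (a + a')) := by
        rw [tu_mul, hgen]; simp
      rw [map_mul, hg, hg, tu_mul] at h1
      have := (tu_inj hF h1).2
      linear_combination -this
    · obtain ⟨a, b, rfl⟩ := tu_surj hF u
      rw [hΦ, hgen]
      rfl
  have hinj : Function.Injective Φ := fun φ φ' e => by
    ext a
    have := DFunLike.congr_fun e (tu hF a 0)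
    rw [hΦ, hΦ] at this
    simpa using (tu_inj hF this).2
  have hKcard : Nat.card ↥(KA hF (F := F) (m := m)) = 2 ^ (2 * m + 1) ^ 2 := by
    rw [← card_addHom hF]
    refine (Nat.card_eq_of_bijective (fun φ => (⟨Φ φ, hΦK φ⟩ : ↥(KA hF (F := F) (m := m))))
      ⟨fun φ φ' e => hinj (congrArg Subtype.val e), ?_⟩).symm
    rintro ⟨α, hα⟩
    obtain ⟨φ, hφ⟩ := hsurj α hα
    exact ⟨φ, Subtype.ext hφ⟩
  have hmul : ∀ φ φ', Φ φ * Φ φ' = Φ (φ + φ') := fun φ φ' => MulEquiv.ext fun u => by
    obtain ⟨a, b, rfl⟩ := tu_surj hF u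
    rw [MulAut.mul_apply, hΦ, hΦ, hΦ, AddMonoidHom.add_apply]
    congr 1
    ring
  refine ⟨⟨fun α hα β u => ?_⟩, ⟨⟨fun x y => ?_⟩⟩, fun α hα => ?_, hKcard, ?_⟩
  · obtain ⟨i, k, hβ⟩ := aut_first hm hF β
    show fst hF (β (α (β⁻¹ u))) = _
    rw [hβ, hα, ← hβ, MulAut.inv_apply, MulEquiv.apply_symm_apply]
  · obtain ⟨x, hx⟩ := x
    obtain ⟨y, hy⟩ := y
    obtain ⟨φ, rfl⟩ := hsurj x hx
    obtain ⟨φ', rfl⟩ := hsurj y hy
    exact Subtype.ext (show Φ φ * Φ φ' = Φ φ' * Φ φ by rw [hmul, hmul, add_comm])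
  · obtain ⟨φ, rfl⟩ := hsurj α hα
    refine MulEquiv.ext fun u => ?_
    obtain ⟨a, b, rfl⟩ := tu_surj hF u
    rw [sq, MulAut.mul_apply, hΦ, hΦ, add_assoc, add_self hS, add_zero]
    rfl
  · rw [← hKcard, show (2 * m + 1) * (2 ^ (2 * m + 1) - 1) = Nat.card (Ix m × Fˣ) by
      rw [Nat.card_prod, Nat.card_zmod, Nat.card_eq_fintype_card, Fintype.card_units, hF], ← Nat.card_prod]
    refine (Nat.card_eq_of_bijective
      (fun p : ↥(KA hF (F := F) (m := m)) × (Ix m × Fˣ) => Ψ p.2.1 p.2.2 * (p.1 : MulAut _)) ⟨?_, ?_⟩).symm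
    · rintro ⟨⟨α, hα⟩, i, k⟩ ⟨⟨β, hβ⟩, i', k'⟩ e
      have h1 : ∀ a, (k : F) * fr i a = (k' : F) * fr i' a := fun a => by
        have := congrArg (fun γ : MulAut _ => fst hF (γ (tu hF a 0))) e
        simpa only [MulAut.mul_apply, hΨ, hα _, hβ _, fst_tu] using this
      have hk : k = k' := Units.ext (by simpa [fr_one] using h1 1)
      subst hk
      have hi : i = i' := by
        have h2 : (fun j => if j = i then (1 : F) else 0) = fun j => if j = i' then 1 else 0 := by
          refine lin_injective hF fun x => ?_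
          simp only [lin, ite_mul, one_mul, zero_mul, Finset.sum_ite_eq', Finset.mem_univ, if_true]
          exact mul_left_cancel₀ k.ne_zero (h1 x)
        by_contra hne
        have := congrFun h2 i
        simp [hne] at this
      subst hi
      simp only [mul_left_cancel_iff] at e
      subst e
      rfl
    · intro α
      obtain ⟨i, k, hα⟩ := aut_first hm hF α
      refine ⟨(⟨(Ψ i k)⁻¹ * α, fun u => ?_⟩, i, k), mul_inv_cancel_left _ _⟩
      have h1 := hΨ i k ((Ψ i k)⁻¹ (α u))
      rw [MulAut.inv_apply, MulEquiv.apply_symm_apply, hα] at h1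
      have hinj : Function.Injective (fr i : F → F) := fun x y e => by
        have := congrArg (fr (-i)) e
        rwa [fr_fr hF, fr_fr hF, neg_add_cancel, fr, fr, ZMod.val_zero, pow_zero, pow_one, pow_one] at this
      exact (hinj (mul_left_cancel₀ k.ne_zero h1)).symm

omit hm hF in
/-- a normal 2-subgroup of odd index is the core -/
theorem pCore_eq_of_odd {G : Type*} [Group G] [Finite G] {K : Subgroup G} (hN : K.Normal) (hK : IsPGroup 2 K)
    (hodd : ¬ 2 ∣ K.index) : Cfsg.pCore 2 G = K := by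
  haveI : Fact (Nat.Prime 2) := ⟨Nat.prime_two⟩
  refine le_antisymm (sSup_le ?_) (le_sSup ⟨hN, hK⟩)
  rintro N ⟨hNn, hNp⟩
  haveI := hN
  have hsup : IsPGroup 2 ↥(N ⊔ K) := hNp.to_sup_of_normal_right hK
  obtain ⟨i, hi⟩ := IsPGroup.iff_card.1 hsup
  have h1 : K.relIndex (N ⊔ K) ∣ K.index := Subgroup.relIndex_dvd_index_of_normal _ _
  have h2 : K.relIndex (N ⊔ K) ∣ 2 ^ i := hi ▸ Subgroup.relIndex_dvd_card K (N ⊔ K)
  have h3 : K.relIndex (N ⊔ K) = 1 := Nat.eq_one_of_dvd_coprimes
    (Nat.Coprime.pow_left i ((Nat.prime_two.coprime_iff_not_dvd).2 hodd)) h2 h1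
  exact le_sup_left.trans (Subgroup.relIndex_eq_one.1 h3)

end CfsgLib.Lie.Suz
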